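import Groth.Prelude.Def_WittGrp

/-!
# Points-level calculus for the maps R, V, F of Witt groups
-/

universe u

open CategoryTheory CategoryTheory.Limits AlgebraicGeometry Opposite MonObj MonoidalCategory CartesianMonoidalCategory

namespace Groth.Agent.Lib.WittU.Basic

open WittGrp

variable {p : ℕ} [hp : Fact p.Prime] {S : Scheme.{u}} {n m : ℕ}

theorem ext_pts {T : Over S} {x y : T ⟶ W p n S}
    (h : ∀ i : Fin n, (pts p T (Additive.ofMul x)).coeff i = (pts p T (Additive.ofMul y)).coeff i) : x = y :=
  pts_injective p T (TruncatedWittVector.ext h)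

theorem hom_ext' {X : Over S} {f g : X ⟶ W p n S}
    (h : ∀ i : Fin n, (pts p X (Additive.ofMul f)).coeff i = (pts p X (Additive.ofMul g)).coeff i) : f = g :=
  ext_pts h

/-- A point with prescribed coordinates. -/
noncomputable def mkPt {T : Over S} (v : Fin n → Γ(T.left, ⊤)) : T ⟶ W p n S :=
  (ptsMul p T).symm (Multiplicative.ofAdd (TruncatedWittVector.mk p v))

theorem pts_mkPt {T : Over S} (v : Fin n → Γ(T.left, ⊤)) :
    pts p T (Additive.ofMul (mkPt (p := p) v)) = TruncatedWittVector.mk p v := by
  change Multiplicative.toAdd ((ptsMul p T) ((ptsMul p T).symm _)) = _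
  rw [MulEquiv.apply_symm_apply]; rfl

@[simp]
theorem coeff_mkPt {T : Over S} (v : Fin n → Γ(T.left, ⊤)) (i : Fin n) :
    (pts p T (Additive.ofMul (mkPt (p := p) v))).coeff i = v i := by
  rw [pts_mkPt, TruncatedWittVector.coeff_mk]

theorem pts_pow (T : Over S) (x : T ⟶ W p n S) (j : ℕ) :
    pts p T (Additive.ofMul (x ^ j)) = j • pts p T (Additive.ofMul x) := by
  rw [ofMul_pow, map_nsmul]

theorem R_V (a b c : ℕ) (hab : a ≤ b) :
    R p S hab ≫ V p S (Nat.le_add_right a c) =
      V p S (Nat.le_add_right b c) ≫ R p S (Nat.add_le_add_right hab c) := by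
  apply hom_ext'
  intro i
  rw [← Category.id_comp (R p S hab ≫ _), ← Category.id_comp (V p S (Nat.le_add_right b c) ≫ _),
    ← Category.assoc, ← Category.assoc, pts_V, pts_R, pts_R, pts_V,
    coeff_shift, TruncatedWittVector.coeff_truncate, coeff_shift]
  simp only [Fin.val_castLE, Nat.add_sub_cancel_left]
  split_ifs with h
  · rw [TruncatedWittVector.coeff_truncate]; rfl
  · rfl

theorem F_R (hpS : (p : Γ(S, ⊤)) = 0) {a b : ℕ} (hab : a ≤ b) :
    F p b S hpS ≫ R p S hab = R p S hab ≫ F p a S hpS := by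
  apply hom_ext'
  intro i
  rw [← Category.id_comp (F p b S hpS ≫ _), ← Category.id_comp (R p S hab ≫ _),
    ← Category.assoc, ← Category.assoc, pts_R, pts_F, pts_F, pts_R,
    TruncatedWittVector.coeff_truncate, coeff_frob, coeff_frob, TruncatedWittVector.coeff_truncate]

theorem F_V (hpS : (p : Γ(S, ⊤)) = 0) {a b : ℕ} (hab : a ≤ b) :
    F p a S hpS ≫ V p S hab = V p S hab ≫ F p b S hpS := by
  apply hom_ext'
  intro i
  rw [← Category.id_comp (F p a S hpS ≫ _), ← Category.id_comp (V p S hab ≫ _),
    ← Category.assoc, ← Category.assoc, pts_V, pts_F, pts_F, pts_V,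
    coeff_frob, coeff_shift, coeff_shift]
  split_ifs
  · rw [coeff_frob]
  · rw [zero_pow hp.out.ne_zero]

/-- In characteristic `p`, multiplication by `p` on truncated Witt vectors is `R ∘ V ∘ F`. -/
theorem truncate_shift_frob {A : Type*} [CommRing A] (hpA : (p : A) = 0) (x : TruncatedWittVector p n A) :
    TruncatedWittVector.truncate (Nat.le_add_right n 1)
      (shift p (Nat.le_add_right n 1) (frob p n hpA x)) = p • x := by
  rcases subsingleton_or_nontrivial A with hA | hA
  · exact TruncatedWittVector.ext fun i => Subsingleton.elim _ _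
  have : CharP A p := (CharP.charP_iff_prime_eq_zero hp.out).mpr hpA
  obtain ⟨X, rfl⟩ := WittVector.truncate_surjective p n A x
  rw [frob_truncate, shift_truncate, TruncatedWittVector.truncate_wittVector_truncate,
    Nat.add_sub_cancel_left, Function.iterate_one, WittVector.verschiebung_frobenius, map_mul,
    map_natCast, nsmul_eq_mul, mul_comm]

theorem F_V_R (hpS : (p : Γ(S, ⊤)) = 0) (n : ℕ) :
    F p n S hpS ≫ V p S (Nat.le_add_right n 1) ≫ R p S (Nat.le_add_right n 1) = (𝟙 (W p n S)) ^ p := by
  apply pts_injective p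
  change pts p _ (Additive.ofMul _) = pts p _ (Additive.ofMul _)
  rw [pts_pow, ← Category.id_comp (F p n S hpS ≫ _), ← Category.assoc, ← Category.assoc,
    pts_R, pts_V, pts_F, truncate_shift_frob]

end Groth.Agent.Lib.WittU.Basic
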