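import Groth.Prelude.Def_WittGrp
import Groth.Prelude.Def_AlgGrp
import Groth.Agent.Lib.WittU.Basic
import Mathlib.AlgebraicGeometry.Morphisms.Flat
import Mathlib.AlgebraicGeometry.Morphisms.Smooth
import Mathlib.AlgebraicGeometry.Morphisms.ClosedImmersion
import Mathlib.AlgebraicGeometry.Morphisms.Separated

/-!
# Geometry of the Witt group schemes: smooth, flat, exact sequences
-/

universe u

open CategoryTheory CategoryTheory.Limits AlgebraicGeometry Opposite MonObj MonoidalCategory CartesianMonoidalCategory

namespace Groth.Agent.Lib.WittU.Geom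

open WittGrp Groth.Agent.Lib.WittU.Basic

theorem smooth_affineSpace (σ : Type u) [Finite σ] (S : Scheme.{u}) : Smooth (𝔸(σ; S) ↘ S) :=
  MorphismProperty.pullback_fst (P := @Smooth) _ _ <| by
    have := isIso_of_isTerminal specULiftZIsTerminal.{u} terminalIsTerminal (terminal.from _)
    rw [← terminal.comp_from (Spec.map (CommRingCat.ofHom (MvPolynomial.C (σ := σ)))),
      MorphismProperty.cancel_right_of_respectsIso (P := @Smooth),
      HasRingHomProperty.Spec_iff (P := @Smooth)]
    change RingHom.Smooth (algebraMap (ULift.{u} ℤ) (MvPolynomial σ (ULift.{u} ℤ)))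
    rw [RingHom.smooth_algebraMap]
    exact { formallySmooth := inferInstance, finitePresentation := inferInstance }

theorem flat_affineSpace (σ : Type u) (S : Scheme.{u}) : Flat (𝔸(σ; S) ↘ S) :=
  MorphismProperty.pullback_fst (P := @Flat) _ _ <| by
    have := isIso_of_isTerminal specULiftZIsTerminal.{u} terminalIsTerminal (terminal.from _)
    rw [← terminal.comp_from (Spec.map (CommRingCat.ofHom (MvPolynomial.C (σ := σ)))),
      MorphismProperty.cancel_right_of_respectsIso (P := @Flat),
      HasRingHomProperty.Spec_iff (P := @Flat)]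
    change RingHom.Flat (algebraMap (ULift.{u} ℤ) (MvPolynomial σ (ULift.{u} ℤ)))
    rw [RingHom.flat_algebraMap_iff]
    infer_instance

variable {p : ℕ} [hp : Fact p.Prime] {S : Scheme.{u}} {n m : ℕ}

instance isAffineHom_W : IsAffineHom (W p n S).hom := by
  change IsAffineHom (𝔸(ULift.{u} (Fin n); S) ↘ S); infer_instance

instance smooth_W : Smooth (W p n S).hom := smooth_affineSpace _ _

instance flat_W : Flat (W p n S).hom := flat_affineSpace _ _

instance surjective_W : Surjective (W p n S).hom := by
  change Surjective (𝔸(ULift.{u} (Fin n); S) ↘ S); infer_instance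

/-- The last `m` coordinates. -/
noncomputable def lastCoords (n m : ℕ) : W p (n + m) S ⟶ W p m S :=
  mkPt fun i => (pts p (W p (n + m) S) (Additive.ofMul (𝟙 _))).coeff (i.natAdd n)

theorem coeff_pts_comp {T : Over S} {k l : ℕ} (f : W p k S ⟶ W p l S) (x : T ⟶ W p k S) (i : Fin l) :
    (pts p T (Additive.ofMul (x ≫ f))).coeff i =
      x.left.appTop ((pts p _ (Additive.ofMul f)).coeff i) := by
  rw [pts_comp, coeff_truncMap]

theorem coeff_lastCoords {T : Over S} (x : T ⟶ W p (n + m) S) (i : Fin m) :
    (pts p T (Additive.ofMul (x ≫ lastCoords n m))).coeff i =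
      (pts p T (Additive.ofMul x)).coeff (i.natAdd n) := by
  conv_rhs => rw [← Category.comp_id x]
  rw [lastCoords, coeff_pts_comp, coeff_pts_comp, coeff_mkPt]

theorem coeff_V_natAdd {T : Over S} (x : T ⟶ W p m S) (i : Fin m) :
    (pts p T (Additive.ofMul (x ≫ V p S (Nat.le_add_left m n)))).coeff (i.natAdd n) =
      (pts p T (Additive.ofMul x)).coeff i := by
  rw [pts_V, coeff_shift, dif_pos (by simp)]
  congr 1
  ext
  simp

theorem coeff_V_castAdd {T : Over S} (x : T ⟶ W p m S) (i : Fin n) :
    (pts p T (Additive.ofMul (x ≫ V p S (Nat.le_add_left m n)))).coeff (i.castAdd m) = 0 := by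
  rw [pts_V, coeff_shift, dif_neg (by simp)]

theorem V_lastCoords : V p S (Nat.le_add_left m n) ≫ lastCoords n m = 𝟙 (W p m S) := by
  apply hom_ext'
  intro i
  rw [← Category.id_comp (V p S _ ≫ _), ← Category.assoc, coeff_lastCoords, coeff_V_natAdd]

instance isClosedImmersion_V : IsClosedImmersion (V p S (Nat.le_add_left m n)).left := by
  have h : (V p S (Nat.le_add_left m n)).left ≫ (lastCoords (p := p) (S := S) n m).left = 𝟙 _ := by
    rw [← Over.comp_left, V_lastCoords]; rfl
  have : IsSeparated (lastCoords (p := p) (S := S) n m).left := by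
    have : IsSeparated ((lastCoords (p := p) (S := S) n m).left ≫ (W p m S).hom) := by
      rw [Over.w]; infer_instance
    exact IsSeparated.of_comp _ (W p m S).hom
  have : IsClosedImmersion ((V p S (Nat.le_add_left m n)).left ≫ (lastCoords (p := p) (S := S) n m).left) := by
    rw [h]; infer_instance
  exact IsClosedImmersion.of_comp _ (lastCoords (p := p) (S := S) n m).left

theorem mono_V : Mono (V p S (Nat.le_add_left m n)) :=
  (SplitMono.mk (lastCoords n m) V_lastCoords : SplitMono _).mono

theorem coeff_R {T : Over S} (x : T ⟶ W p (n + m) S) (i : Fin n) :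
    (pts p T (Additive.ofMul (x ≫ R p S (Nat.le_add_right n m)))).coeff i =
      (pts p T (Additive.ofMul x)).coeff (i.castAdd m) := by
  rw [pts_R, TruncatedWittVector.coeff_truncate]; rfl

/-- Glue the first `n` and the last `m` coordinates. -/
noncomputable def glue {T : Over S} (a : T ⟶ W p n S) (b : T ⟶ W p m S) : T ⟶ W p (n + m) S :=
  mkPt (Fin.append (fun i => (pts p T (Additive.ofMul a)).coeff i) (fun i => (pts p T (Additive.ofMul b)).coeff i))

theorem comp_glue {T T' : Over S} (x : T' ⟶ T) (a : T ⟶ W p n S) (b : T ⟶ W p m S) :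
    x ≫ glue a b = glue (x ≫ a) (x ≫ b) := by
  apply hom_ext'
  intro i
  rw [glue, glue, pts_comp, coeff_truncMap, coeff_mkPt, coeff_mkPt]
  refine i.addCases (fun j => ?_) (fun j => ?_)
  · rw [Fin.append_left, Fin.append_left, pts_comp, coeff_truncMap]
  · rw [Fin.append_right, Fin.append_right, pts_comp, coeff_truncMap]

/-- `W (n+m)` is the product of `W n` and `W m` as schemes. -/
noncomputable def splitIso (n m : ℕ) : W p (n + m) S ≅ W p n S ⊗ W p m S where
  hom := lift (R p S (Nat.le_add_right n m)) (lastCoords n m)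
  inv := glue (fst _ _) (snd _ _)
  hom_inv_id := by
    apply hom_ext'
    intro i
    rw [comp_glue, lift_fst, lift_snd, glue, coeff_mkPt]
    refine i.addCases (fun j => ?_) (fun j => ?_)
    · rw [Fin.append_left, ← Category.id_comp (R p S _), coeff_R]
    · rw [Fin.append_right, ← Category.id_comp (lastCoords n m), coeff_lastCoords]
  inv_hom_id := by
    apply CartesianMonoidalCategory.hom_ext
    · rw [Category.assoc, lift_fst, Category.id_comp]
      apply hom_ext'; intro i
      rw [glue, coeff_R, coeff_mkPt, Fin.append_left]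
    · rw [Category.assoc, lift_snd, Category.id_comp]
      apply hom_ext'; intro i
      rw [glue, coeff_lastCoords, coeff_mkPt, Fin.append_right]

theorem splitIso_hom_fst : (splitIso (p := p) (S := S) n m).hom ≫ fst _ _ = R p S (Nat.le_add_right n m) :=
  lift_fst _ _

theorem flat_R : Flat (R p S (Nat.le_add_right n m)).left := by
  have h : (R p S (Nat.le_add_right n m)).left =
      (splitIso (p := p) (S := S) n m).hom.left ≫ pullback.fst (W p n S).hom (W p m S).hom := by
    rw [← splitIso_hom_fst]; rfl
  rw [h]
  have : Flat (pullback.fst (W p n S).hom (W p m S).hom) := MorphismProperty.pullback_fst _ _ inferInstance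
  infer_instance

theorem surjective_R : Surjective (R p S (Nat.le_add_right n m)).left := by
  have h : (R p S (Nat.le_add_right n m)).left =
      (splitIso (p := p) (S := S) n m).hom.left ≫ pullback.fst (W p n S).hom (W p m S).hom := by
    rw [← splitIso_hom_fst]; rfl
  rw [h]
  have : Surjective (pullback.fst (W p n S).hom (W p m S).hom) := MorphismProperty.pullback_fst _ _ inferInstance
  infer_instance

theorem coeff_one {T : Over S} (i : Fin n) :
    (pts p T (Additive.ofMul (1 : T ⟶ W p n S))).coeff i = 0 := by
  rw [pts_one, TruncatedWittVector.coeff_zero]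

theorem eq_lastCoords_V {T : Over S} (x : T ⟶ W p (n + m) S)
    (hx : x ≫ R p S (Nat.le_add_right n m) = 1) :
    x = (x ≫ lastCoords n m) ≫ V p S (Nat.le_add_left m n) := by
  apply hom_ext'
  intro i
  refine i.addCases (fun j => ?_) (fun j => ?_)
  · rw [coeff_V_castAdd, ← coeff_R, hx, coeff_one]
  · rw [coeff_V_natAdd, coeff_lastCoords]

theorem V_R_eq_one : V p S (Nat.le_add_left m n) ≫ R p S (Nat.le_add_right n m) = (1 : W p m S ⟶ W p n S) := by
  apply hom_ext'
  intro i
  rw [← Category.id_comp (V p S _ ≫ _), ← Category.assoc, coeff_R, coeff_V_castAdd, coeff_one]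

theorem isKernel_V_R : AlgGrp.IsKernel (V p S (Nat.le_add_left m n)) (R p S (Nat.le_add_right n m)) := by
  have hone : ∀ T : Over S, (1 : T ⟶ W p n S) = toUnit T ≫ η[W p n S] := fun T => Hom.one_def
  refine IsPullback.of_isLimit' ⟨by rw [V_R_eq_one, hone]⟩ ?_
  refine PullbackCone.IsLimit.mk _ (fun s => s.fst ≫ lastCoords n m) (fun s => ?_) (fun s => ?_) ?_
  · have hs : s.fst ≫ R p S (Nat.le_add_right n m) = 1 := by
      rw [s.condition, hone, toUnit_unique s.snd (toUnit s.pt)]
    exact (eq_lastCoords_V s.fst hs).symm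
  · exact toUnit_unique _ _
  · intro s l h1 _
    have := mono_V (p := p) (S := S) (n := n) (m := m)
    rw [← cancel_mono (V p S (Nat.le_add_left m n)), h1]
    have hs : s.fst ≫ R p S (Nat.le_add_right n m) = 1 := by
      rw [s.condition, hone, toUnit_unique s.snd (toUnit s.pt)]
    exact eq_lastCoords_V s.fst hs

end Groth.Agent.Lib.WittU.Geom
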