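import Groth.Agent.Lib.WittU.TwrIns
import Mathlib.RingTheory.AlgebraicIndependent.TranscendenceBasis
import Mathlib.RingTheory.Localization.Integral
import Mathlib.RingTheory.Jacobson.Ring
import Mathlib.RingTheory.Artinian.Module

/-!
# A group without characters is a tower

If translations act unipotently on the regular functions of a group of points `X`, with a finitely
generated domain of functions whose characters are the points, then `X` is isomorphic to a tower.
-/

universe u v

namespace Groth.Agent.Lib.WittU.UnipStruct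

open Groth.Agent.Lib.WittU.Reg Groth.Agent.Lib.WittU.Lazard Groth.Agent.Lib.WittU.UnipChar
  Groth.Agent.Lib.WittU.Twr Groth.Agent.Lib.WittU.TwrDense Groth.Agent.Lib.WittU.TwrRel
  Groth.Agent.Lib.WittU.TwrIns Module

section Algebra

/-- A finitely generated algebra maps to a finite field extension, faithfully on integral elements. -/
theorem exists_field (A : Type u) (O : Type u) [CommRing A] [IsDomain A] [CommRing O] [IsDomain O]
    [Algebra A O] [Algebra.FiniteType A O] (hinj : Function.Injective (algebraMap A O)) :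
    ∃ (K : Type u) (_ : Field K) (_ : Algebra (FractionRing A) K) (_ : Algebra A K)
      (_ : IsScalarTower A (FractionRing A) K) (_ : Module.Finite (FractionRing A) K) (ψ : O →ₐ[A] K),
      ∀ g : O, IsIntegral A g → ψ g = 0 → g = 0 := by
  classical
  have hinj' : Function.Injective (algebraMap A (FractionRing O)) := by
    rw [IsScalarTower.algebraMap_eq A O (FractionRing O)]
    exact (IsFractionRing.injective O (FractionRing O)).comp hinj
  let : Algebra (FractionRing A) (FractionRing O) := (IsFractionRing.lift hinj').toAlgebra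
  have : IsScalarTower A (FractionRing A) (FractionRing O) := IsScalarTower.of_algebraMap_eq fun a =>
    (IsFractionRing.lift_algebraMap hinj' a).symm
  obtain ⟨s, hs⟩ := (inferInstance : Algebra.FiniteType A O).out
  let O' : Subalgebra (FractionRing A) (FractionRing O) :=
    Algebra.adjoin (FractionRing A) ((algebraMap O (FractionRing O)) '' (s : Set O))
  have : Algebra.FiniteType (FractionRing A) O' :=
    (Subalgebra.fg_iff_finiteType O').mp ⟨s.image (algebraMap O (FractionRing O)), by rw [Finset.coe_image]⟩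
  have hmem : ∀ g : O, algebraMap O (FractionRing O) g ∈ O' := by
    intro g
    have hg : g ∈ Algebra.adjoin A (s : Set O) := by rw [hs]; trivial
    induction hg using Algebra.adjoin_induction with
    | mem g hg => exact Algebra.subset_adjoin ⟨g, hg, rfl⟩
    | algebraMap a =>
      rw [← IsScalarTower.algebraMap_apply, IsScalarTower.algebraMap_apply A (FractionRing A) (FractionRing O)]
      exact O'.algebraMap_mem _
    | add a b _ _ ha hb => rw [map_add]; exact O'.add_mem ha hb
    | mul a b _ _ ha hb => rw [map_mul]; exact O'.mul_mem ha hb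
  let ι' : O →ₐ[A] O' :=
    { toFun := fun g => ⟨algebraMap O (FractionRing O) g, hmem g⟩
      map_one' := Subtype.ext (map_one _)
      map_mul' := fun a b => Subtype.ext (map_mul _ a b)
      map_zero' := Subtype.ext (map_zero _)
      map_add' := fun a b => Subtype.ext (map_add _ a b)
      commutes' := fun a => Subtype.ext (by
        change algebraMap O _ (algebraMap A O a) = algebraMap A (FractionRing O) a
        rw [← IsScalarTower.algebraMap_apply]) }
  obtain ⟨M, hM⟩ := Ideal.exists_maximal O'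
  let : Field (O' ⧸ M) := Ideal.Quotient.field M
  have : Algebra.FiniteType (FractionRing A) (O' ⧸ M) :=
    Algebra.FiniteType.of_surjective (Ideal.Quotient.mkₐ (FractionRing A) M) (Ideal.Quotient.mkₐ_surjective _ M)
  have : Module.Finite (FractionRing A) (O' ⧸ M) := finite_of_finite_type_of_isJacobsonRing _ _
  refine ⟨O' ⧸ M, inferInstance, inferInstance, inferInstance, inferInstance, this,
    (Ideal.Quotient.mkₐ A M).comp ι', fun g hg h0 => ?_⟩
  by_contra hne
  obtain ⟨r, hr, c, hc⟩ := hg.isAlgebraic.exists_nonzero_dvd (mem_nonZeroDivisors_of_ne_zero hne)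
  have h1 := congrArg ((Ideal.Quotient.mkₐ A M).comp ι') hc
  rw [AlgHom.commutes, map_mul, h0, zero_mul, IsScalarTower.algebraMap_apply A (FractionRing A) (O' ⧸ M),
    map_eq_zero, FaithfulSMul.algebraMap_eq_zero_iff] at h1
  exact hr h1

/-- An element with an integral monic polynomial value is integral. -/
theorem isIntegral_of_monic {A O : Type*} [CommRing A] [CommRing O] [Algebra A O] [Nontrivial A]
    {f : O} {Q : Polynomial A} (hQ : Q.Monic) (hd : Q.natDegree ≠ 0)
    (h : IsIntegral A (Polynomial.aeval f Q)) : IsIntegral A f := by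
  obtain ⟨R, hR, hR'⟩ := h
  refine ⟨R.comp Q, hR.comp hQ hd, ?_⟩
  rw [Polynomial.eval₂_comp]
  exact hR'

/-- Integrality of a root of a monic polynomial with small remainder. -/
theorem isIntegral_of_eq {A O : Type*} [CommRing A] [CommRing O] [Algebra A O] [Nontrivial A]
    {f : O} {q D : ℕ} (hq : 1 < q) (c : ℕ → A)
    (h : IsIntegral A (f ^ q ^ D + ∑ i ∈ Finset.range D, algebraMap A O (c i) * f ^ q ^ i)) : IsIntegral A f := by
  let R : Polynomial A := ∑ i ∈ Finset.range D, Polynomial.C (c i) * Polynomial.X ^ q ^ i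
  have hpos : 0 < q ^ D := pow_pos (by omega) D
  have hR : R.degree < (q ^ D : ℕ) := by
    refine lt_of_le_of_lt (Polynomial.degree_sum_le _ _) ((Finset.sup_lt_iff (WithBot.bot_lt_coe _)).mpr
      fun i hi => lt_of_le_of_lt (Polynomial.degree_C_mul_X_pow_le _ _) ?_)
    exact WithBot.coe_lt_coe.mpr (Nat.pow_lt_pow_right hq (Finset.mem_range.mp hi))
  refine isIntegral_of_monic (Q := Polynomial.X ^ q ^ D + R) (Polynomial.monic_X_pow_add hR) ?_ ?_
  · rw [Polynomial.natDegree_eq_of_degree_eq_some (n := q ^ D)]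
    · omega
    · rw [Polynomial.degree_add_eq_left_of_degree_lt (by rw [Polynomial.degree_X_pow]; exact hR),
        Polynomial.degree_X_pow]
  simpa [R] using h

/-- Elements of the span of the image of a subalgebra have denominators. -/
theorem exists_den {A O K : Type u} [CommRing A] [IsDomain A] [CommRing O] [Algebra A O] [Field K]
    [Algebra (FractionRing A) K] [Algebra A K] [IsScalarTower A (FractionRing A) K] (ψ : O →ₐ[A] K)
    (B : Subalgebra A O) {z : K} (hz : z ∈ Submodule.span (FractionRing A) (ψ '' (B : Set O))) :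
    ∃ b : A, b ≠ 0 ∧ ∃ a ∈ B, algebraMap A K b * z = ψ a := by
  induction hz using Submodule.span_induction with
  | mem z hz =>
    obtain ⟨a, ha, rfl⟩ := hz
    exact ⟨1, one_ne_zero, a, ha, by simp⟩
  | zero => exact ⟨1, one_ne_zero, 0, B.zero_mem, by simp⟩
  | add z w _ _ hz hw =>
    obtain ⟨b, hb, a, ha, he⟩ := hz
    obtain ⟨b', hb', a', ha', he'⟩ := hw
    refine ⟨b * b', mul_ne_zero hb hb', algebraMap A O b' * a + algebraMap A O b * a',
      B.add_mem (B.mul_mem (B.algebraMap_mem _) ha) (B.mul_mem (B.algebraMap_mem _) ha'), ?_⟩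
    simp only [map_add, map_mul, AlgHom.commutes, ← he, ← he']
    ring
  | smul c z _ hz =>
    obtain ⟨b, hb, a, ha, he⟩ := hz
    obtain ⟨c₁, c₂, hc₂, rfl⟩ := IsFractionRing.div_surjective (A := A) c
    refine ⟨b * c₂, mul_ne_zero hb (nonZeroDivisors.ne_zero hc₂), algebraMap A O c₁ * a,
      B.mul_mem (B.algebraMap_mem _) ha, ?_⟩
    rw [Algebra.smul_def, map_div₀, map_mul, map_mul, AlgHom.commutes, ← he,
      ← IsScalarTower.algebraMap_apply, ← IsScalarTower.algebraMap_apply]
    have : algebraMap A K c₂ ≠ 0 := by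
      rw [IsScalarTower.algebraMap_apply A (FractionRing A) K, map_ne_zero, map_ne_zero_iff _ (IsFractionRing.injective _ _)]
      exact nonZeroDivisors.ne_zero hc₂
    field_simp

end Algebra

variable {k : Type u} [Field k]

/-- Regular functions of one variable are polynomials. -/
theorem exists_poly {g : k → k} (hg : IsReg g) : ∃ P : Polynomial k, ∀ t, g t = P.eval t := by
  induction hg using Algebra.adjoin_induction with
  | mem g hg => exact ⟨Polynomial.X, fun t => by rw [Set.mem_singleton_iff.mp hg]; simp⟩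
  | algebraMap c => exact ⟨Polynomial.C c, fun t => by simp⟩
  | add a b _ _ ha hb =>
    obtain ⟨P, hP⟩ := ha; obtain ⟨Q, hQ⟩ := hb
    exact ⟨P + Q, fun t => by simp [hP, hQ]⟩
  | mul a b _ _ ha hb =>
    obtain ⟨P, hP⟩ := ha; obtain ⟨Q, hQ⟩ := hb
    exact ⟨P * Q, fun t => by simp [hP, hQ]⟩

theorem addHom_linear [CharZero k] (φ : k →+ k) (hφ : IsReg (φ : k → k)) (t : k) : φ t = t * φ 1 := by
  obtain ⟨P, hP⟩ := exists_poly hφ
  have h : P = Polynomial.C (φ 1) * Polynomial.X := by
    refine Polynomial.eq_of_infinite_eval_eq _ _ (Set.Infinite.mono ?_ (Set.infinite_range_of_injective (Nat.cast_injective (R := k))))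
    rintro _ ⟨n, rfl⟩
    change P.eval (n : k) = _
    rw [← hP, ← nsmul_one, map_nsmul, Polynomial.eval_mul, Polynomial.eval_C, Polynomial.eval_X, nsmul_eq_mul,
      nsmul_eq_mul, mul_one, mul_comm]
  rw [hP t, h, Polynomial.eval_mul, Polynomial.eval_C, Polynomial.eval_X, mul_comm]

variable {X : Type u} [AddCommGroup X] [RegSpace k X]

theorem isRegMap_iff_pullAlg {Y : Type v} [RegSpace k Y] {π : X → Y} :
    IsRegMap k π ↔ pullAlg k π ≤ Fn k X :=
  ⟨fun h f hf => by
    obtain ⟨g, hg, e⟩ := mem_pullAlg.mp hf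
    have := h g hg
    rwa [show f = g ∘ π from funext fun x => (e x).symm],
   fun h g hg => h (mem_pullAlg.mpr ⟨g, hg, fun _ => rfl⟩)⟩

theorem pullHom_injective {Y : Type v} [RegSpace k Y] {π : X → Y} (hπ : IsRegMap k π) (hd : Dense k π) :
    Function.Injective (pullHom π hπ) := fun a b h =>
  Subtype.ext (hd.eq a.2 b.2 fun x => congrFun (congrArg Subtype.val h) x)

variable [RegAddGroup k X]

/-- A function outside with all differences inside. -/
theorem exists_next {B : Subalgebra k (X → k)} (hne : ¬ ∀ f : Fn k X, (f : X → k) ∈ B)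
    (hlow : ∀ f : Fn k X, ∃ l, Low l f) :
    ∃ f : Fn k X, (f : X → k) ∉ B ∧ ∀ y, ((tr y f - f : Fn k X) : X → k) ∈ B := by
  classical
  push Not at hne
  obtain ⟨f, hf⟩ := hne
  obtain ⟨l, hl⟩ := hlow f
  induction l generalizing f with
  | zero => cases hl; exact absurd B.zero_mem hf
  | succ l ih =>
    by_cases h : ∀ y, ((tr y f - f : Fn k X) : X → k) ∈ B
    · exact ⟨f, hf, h⟩
    push Not at h
    obtain ⟨y, hy⟩ := h
    cases hl with
    | succ hl => exact ih _ hy (hl y)

variable {H : Type u} [AddCommGroup H] [RegSpace k H] [RegAddGroup k H]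

/-- A coboundary with sections pulled back is pulled back. -/
theorem exists_cocy {π : X →+ H} (hπ : IsRegMap k π) (hd : Dense k π) (f : Fn k X)
    (hB : ∀ y, ((tr y f - f : Fn k X) : X → k) ∈ pullAlg k π) :
    ∃ d : Cocy k H, ∀ x y, (f : X → k) (x + y) - (f : X → k) x - (f : X → k) y = d (π x) (π y) := by
  classical
  let D : X → X → k := fun x y => (f : X → k) (x + y) - (f : X → k) x - (f : X → k) y
  have hDsymm : ∀ x y, D x y = D y x := fun x y => by simp only [D, add_comm x y]; ring
  have hh : ∀ y, ∃ h : Fn k H, ∀ x, (h : H → k) (π x) = D x y := fun y => by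
    obtain ⟨g, hg, hge⟩ := mem_pullAlg.mp (hB y)
    refine ⟨⟨fun v => g v - (f : X → k) y, hg.sub (isReg_const _)⟩, fun x => ?_⟩
    simp only [hge, D, AddSubgroupClass.coe_sub, Pi.sub_apply, tr_apply]
  choose h hh using hh
  -- the sections span a finite-dimensional space
  obtain ⟨W, hW, hfW, hWinv⟩ := exists_finite_invariant f
  let P := (pullHom (π : X → H) hπ).toLinearMap
  let U : Submodule k (Fn k X) := W ⊔ Submodule.span k {(1 : Fn k X)}
  let V : Submodule k (Fn k H) := U.comap P
  have hV : ∀ y, h y ∈ V := fun y => by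
    have e : P (h y) = (tr y f - f) - (f : X → k) y • (1 : Fn k X) := Subtype.ext (funext fun x => by
      change (h y : H → k) (π x) = _
      rw [hh]
      simp [D, tr_apply])
    change P (h y) ∈ U
    rw [e]
    exact U.sub_mem (Submodule.mem_sup_left (W.sub_mem (hWinv y f hfW) hfW))
      (U.smul_mem _ (Submodule.mem_sup_right (Submodule.subset_span rfl)))
  have : FiniteDimensional k V := by
    have : IsNoetherian k U := by
      have : FiniteDimensional k ↥(W ⊔ Submodule.span k {(1 : Fn k X)}) := inferInstance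
      exact isNoetherian_of_isNoetherianRing_of_finite k U
    have hPinj : Function.Injective (P.comp V.subtype) := (pullHom_injective hπ hd).comp Subtype.val_injective
    exact Module.Finite.of_injective ((P.comp V.subtype).codRestrict U fun v => v.2)
      fun a b e => hPinj (congrArg Subtype.val e)
  -- finitely many points separate them
  let evs : (S : Finset X) → V →ₗ[k] (S → k) := fun S =>
    { toFun := fun w x => ((w : Fn k H) : H → k) (π x)
      map_add' := fun _ _ => rfl
      map_smul' := fun _ _ => rfl }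
  have : IsArtinian k V := isArtinian_of_fg_of_artinian' (R := k) (M := V)
  obtain ⟨_, ⟨S, rfl⟩, hmin⟩ := IsArtinian.set_has_minimal (R := k) (M := V)
    (Set.range fun S => LinearMap.ker (evs S)) (Set.range_nonempty _)
  have hker : LinearMap.ker (evs S) = ⊥ := by
    by_contra hne
    obtain ⟨w, hw, hw0⟩ := Submodule.exists_mem_ne_zero_of_ne_bot hne
    obtain ⟨x, hx⟩ : ∃ x, ((w : Fn k H) : H → k) (π x) ≠ 0 := by
      by_contra hall
      push Not at hall
      exact hw0 (Subtype.ext (Subtype.ext (hd _ (w : Fn k H).2 hall)))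
    refine hmin _ ⟨insert x S, rfl⟩ (lt_of_le_of_ne (fun z hz => ?_) fun e => hx ?_)
    · exact funext fun i => congrFun (hz : evs (insert x S) z = 0) ⟨i, Finset.mem_insert_of_mem i.2⟩
    · replace hw : w ∈ LinearMap.ker (evs (insert x S)) := by simp only at e; rw [e]; exact hw
      exact congrFun (hw : evs (insert x S) w = 0) ⟨x, Finset.mem_insert_self x S⟩
  obtain ⟨L, hL⟩ : ∃ L : (S → k) →ₗ[k] V, L ∘ₗ evs S = LinearMap.id :=
    LinearMap.exists_leftInverse_of_injective (K := k) (V := ↥V) (V' := ↥S → k) (evs S) hker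
  let e : S → Fn k H := fun i => ((L (Pi.single i 1) : V) : Fn k H)
  have hdec : ∀ y, h y = ∑ i : S, D i y • e i := fun y => by
    have h1 : L (evs S ⟨h y, hV y⟩) = ⟨h y, hV y⟩ := LinearMap.congr_fun hL _
    rw [show evs S ⟨h y, hV y⟩ = ∑ i : S, D i y • (Pi.single i 1 : S → k) from funext fun j => by
      simp [evs, hh, Finset.sum_apply, Pi.single_apply], map_sum] at h1
    have h2 := congrArg Subtype.val h1
    simp only [map_smul, Submodule.coe_sum, Submodule.coe_smul] at h2
    exact h2.symm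
  let d : H → H → k := fun a b => ∑ i : S, (h i : H → k) b * (e i : H → k) a
  have hde : ∀ x y, d (π x) (π y) = D x y := fun x y => by
    rw [← hh y x, hdec y]
    simp [d, hh, hDsymm _ y, Finset.sum_apply]
  have hdreg : IsReg fun z : H × H => d z.1 z.2 := by
    have : (fun z : H × H => d z.1 z.2) = ∑ i : S, fun z : H × H => (h i : H → k) z.2 * (e i : H → k) z.1 :=
      funext fun z => by simp [d, Finset.sum_apply]
    rw [this]
    exact sum_mem fun i _ => IsReg.mul ((show IsReg ((h i) : H → k) from (h i).2).comp isRegMap_snd)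
      ((show IsReg ((e i) : H → k) from (e i).2).comp isRegMap_fst)
  have hsymm : ∀ a b, d a b = d b a := fun a b =>
    congrFun (hd.eq₂ hd hdreg (hdreg.comp (isRegMap_snd.prod isRegMap_fst)) fun x y => by
      rw [hde, hde, hDsymm]) (a, b)
  refine ⟨⟨d, ⟨hsymm, fun a b c => ?_⟩, hdreg⟩, fun x y => (hde x y).symm⟩
  have hsec : ∀ {F : H × H → k}, IsReg F → ∀ a : H, IsReg fun b => F (a, b) := fun hF a =>
    IsRegMap.prod (isRegMap_const a) isRegMap_id' _ hF
  have h3 : ∀ z : X, d a b + d (a + b) (π z) = d b (π z) + d a (b + π z) := fun z => by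
    refine congrFun (hd.eq₂ hd (g := fun w : H × H => d w.1 w.2 + d (w.1 + w.2) (π z))
      (g' := fun w : H × H => d w.2 (π z) + d w.1 (w.2 + π z)) ?_ ?_ fun x y => ?_) (a, b)
    · exact hdreg.add (hdreg.comp ((isRegMap_fst.add isRegMap_snd).prod (isRegMap_const _)))
    · exact (hdreg.comp (isRegMap_snd.prod (isRegMap_const _))).add
        (hdreg.comp (isRegMap_fst.prod (IsRegMap.add isRegMap_snd (isRegMap_const _))))
    · simp only [← map_add π, hde, D, add_assoc x y z]
      ring
  have h4 := congrFun (hd.eq (g := fun v => d a b + d (a + b) v) (g' := fun v => d b v + d a (b + v))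
    ((isReg_const _).add (hsec hdreg _))
    ((hsec hdreg _).add ((hsec hdreg a).comp ((isRegMap_const b).add isRegMap_id'))) h3) c
  linear_combination h4

variable [IsAlgClosed k] [IsDomain (Fn k X)] [Algebra.FiniteType k (Fn k X)]

omit [RegAddGroup k X] in
/-- Dense regular maps to towers have bounded dimension. -/
theorem exists_bound : ∃ N : ℕ, ∀ (T : Tower k) (π : X →+ T.H), IsRegMap k π → Dense k π → T.dim ≤ N := by
  obtain ⟨N, hN⟩ := Cardinal.lt_aleph0.mp (trdeg_lt_aleph0_of_finiteType (R := k) (S := Fn k X))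
  refine ⟨N, fun T π hπ hd => ?_⟩
  obtain ⟨C⟩ := T.isTwr.coord
  have hind : AlgebraicIndependent k (fun i => pullHom (π : X → T.H) hπ (C.toFn (MvPolynomial.X i))) := by
    rw [algebraicIndependent_iff_injective_aeval]
    have e : MvPolynomial.aeval (fun i => pullHom (π : X → T.H) hπ (C.toFn (MvPolynomial.X i))) =
        (pullHom (π : X → T.H) hπ).comp C.toFn := MvPolynomial.algHom_ext fun i => by simp
    rw [e]
    exact (pullHom_injective hπ hd).comp C.toFn_bijective.1
  have h := hind.lift_cardinalMk_le_trdeg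
  rw [hN] at h
  simpa using h

/-- **Structure theorem.** -/
theorem exists_tower (hpt : ∀ φ : Fn k X →ₐ[k] k, ∃ x, ∀ f, φ f = (f : X → k) x)
    (hsep : ∀ x y : X, (∀ f : Fn k X, (f : X → k) x = (f : X → k) y) → x = y)
    (hlow : ∀ f : Fn k X, ∃ l, Low l f) :
    ∃ (T : Tower k) (e : X ≃+ T.H), IsRegMap k e ∧ IsRegMap k e.symm := by
  classical
  obtain ⟨N, hN⟩ := exists_bound (k := k) (X := X)
  let P : ℕ → Prop := fun s => ∃ (T : Tower k) (π : X →+ T.H), IsRegMap k π ∧ Dense k π ∧ T.dim = s
  have hP : ∃ s, P s ∧ ∀ t, P t → t ≤ s := by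
    have h0 : P 0 := ⟨{ H := PUnit.{u + 1}, dim := 0, isTwr := IsTwr.zero }, 0, isRegMap_const _,
      fun g _ h => funext fun v => h 0, rfl⟩
    refine ⟨Nat.findGreatest P N, Nat.findGreatest_spec (Nat.zero_le N) h0, fun t ht => ?_⟩
    obtain ⟨T, π, h1, h2, rfl⟩ := id ht
    exact Nat.le_findGreatest (hN T π h1 h2) ht
  obtain ⟨s, ⟨T₀, π₀, hπ₀, hd₀, hs₀⟩, hmax⟩ := hP
  obtain ⟨C₀⟩ := T₀.isTwr.coord
  have := C₀.isDomain
  have hinj₀ := pullHom_injective hπ₀ hd₀
  let : Algebra (Fn k T₀.H) (Fn k X) := (pullHom (π₀ : X → T₀.H) hπ₀).toRingHom.toAlgebra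
  have : IsScalarTower k (Fn k T₀.H) (Fn k X) :=
    IsScalarTower.of_algebraMap_eq fun r => ((pullHom (π₀ : X → T₀.H) hπ₀).commutes r).symm
  have : Algebra.FiniteType (Fn k T₀.H) (Fn k X) := Algebra.FiniteType.of_restrictScalars_finiteType k _ _
  obtain ⟨K, _, _, _, _, _, ψ, hψ⟩ := exists_field (Fn k T₀.H) (Fn k X) hinj₀
  let Cand : (T : Tower k) → (X →+ T.H) → Subalgebra (Fn k T₀.H) (Fn k X) → Prop := fun T π B =>
    IsRegMap k π ∧ Dense k π ∧ T.dim = s ∧ B ≤ integralClosure (Fn k T₀.H) (Fn k X) ∧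
      ∀ F : Fn k X, F ∈ B ↔ (F : X → k) ∈ pullAlg k π
  have hmk : ∀ B : Subalgebra k (X → k), pullAlg k π₀ ≤ B →
      ∃ B' : Subalgebra (Fn k T₀.H) (Fn k X), ∀ F : Fn k X, F ∈ B' ↔ (F : X → k) ∈ B := fun B hB =>
    ⟨{ (B.comap (Fn k X).val).toSubsemiring with
        algebraMap_mem' := fun c => hB (mem_pullAlg.mpr ⟨c, c.2, fun _ => rfl⟩) }, fun F => Iff.rfl⟩
  obtain ⟨B₀, hB₀⟩ := hmk _ le_rfl
  have hcand₀ : Cand T₀ π₀ B₀ := ⟨hπ₀, hd₀, hs₀, fun F hF => by
    obtain ⟨g, hg, he⟩ := mem_pullAlg.mp ((hB₀ F).mp hF)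
    have : F = algebraMap (Fn k T₀.H) (Fn k X) ⟨g, hg⟩ := Subtype.ext (funext fun x => (he x).symm)
    rw [this]
    exact isIntegral_algebraMap, hB₀⟩
  let span : Subalgebra (Fn k T₀.H) (Fn k X) → Submodule (FractionRing (Fn k T₀.H)) K := fun B =>
    Submodule.span (FractionRing (Fn k T₀.H)) (ψ '' (B : Set (Fn k X)))
  -- choose a candidate with maximal span
  obtain ⟨_, ⟨T, π, B, hC, rfl⟩, hmaxS⟩ := set_has_maximal_iff_noetherian.mpr
    (inferInstance : IsNoetherian (FractionRing (Fn k T₀.H)) K)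
    {S | ∃ (T : Tower k) (π : X →+ T.H) (B : Subalgebra (Fn k T₀.H) (Fn k X)), Cand T π B ∧ S = span B}
    ⟨_, T₀, π₀, B₀, hcand₀, rfl⟩
  obtain ⟨hπ, hd, hdim, hint, hB⟩ := hC
  have hle : pullAlg k π₀ ≤ pullAlg k π := fun F hF => by
    obtain ⟨g, hg, he⟩ := mem_pullAlg.mp hF
    have h := (hB _).mp (B.algebraMap_mem (⟨g, hg⟩ : Fn k T₀.H))
    rwa [show F = ((algebraMap (Fn k T₀.H) (Fn k X) ⟨g, hg⟩ : Fn k X) : X → k) from funext fun x => (he x).symm]
  obtain ⟨C⟩ := T.isTwr.coord
  have hle' := isRegMap_iff_pullAlg.mp hπ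
  -- all functions are pulled back
  have hall : ∀ f : Fn k X, (f : X → k) ∈ pullAlg k π := by
    by_contra hne
    obtain ⟨f, hfB, hfD⟩ := exists_next hne hlow
    obtain ⟨d, hfd⟩ := exists_cocy hπ hd f hfD
    rcases dense_or_rel C hd d hfd with hde | ⟨φ, hφ, hφ0, g, hg, hgf⟩
    · have := hmax (s + 1) ⟨{ H := CExt d, dim := T.dim + 1, isTwr := IsTwr.ext d T.isTwr },
        homExt π d (f : X → k) hfd, isRegMap_mkExt hπ (show IsReg (f : X → k) from f.2), hde, congrArg (· + 1) hdim⟩
      omega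
    obtain ⟨q, hq⟩ := CharP.exists k
    rcases CharP.char_is_prime_or_zero k q with hprime | rfl
    swap
    · have : CharZero k := CharP.charP_to_charZero k
      have h1 : φ 1 ≠ 0 := fun h => hφ0 (AddMonoidHom.ext fun t => by rw [addHom_linear φ hφ t, h, mul_zero]; rfl)
      refine hfB (mem_pullAlg.mpr ⟨fun v => g v * (φ 1)⁻¹, hg.mul (isReg_const _), fun x => ?_⟩)
      change g (π x) * (φ 1)⁻¹ = _
      rw [hgf, addHom_linear φ hφ, mul_inv_cancel_right₀ h1]
    have := Fact.mk hprime
    obtain ⟨T', π', hdim', hd', hpull⟩ :=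
      ins q (O := Fn k X) T.isTwr π hd hle' (f : X → k) d f.2 hfd φ hφ hφ0 g hg hgf
    have hfint : IsIntegral (Fn k T₀.H) f := by
      obtain ⟨D, b, hb, hφe⟩ := exists_deg (p := q) φ hφ hφ0
      refine isIntegral_of_eq hprime.one_lt (D := D)
        (fun i => algebraMap k (Fn k T₀.H) ((b D)⁻¹ * b i)) (hint ((hB _).mpr ?_))
      refine mem_pullAlg.mpr ⟨fun v => (b D)⁻¹ * g v, (isReg_const _).mul hg, fun x => ?_⟩
      simp only [← IsScalarTower.algebraMap_apply k (Fn k T₀.H) (Fn k X), AddMemClass.coe_add,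
        SubmonoidClass.coe_pow, AddSubmonoidClass.coe_finsetSum, MulMemClass.coe_mul, Subalgebra.coe_algebraMap,
        Pi.add_apply, Pi.pow_apply, Finset.sum_apply, Pi.mul_apply, Pi.algebraMap_apply, Algebra.algebraMap_self,
        RingHom.id_apply]
      rw [hgf, hφe, Finset.sum_range_succ, mul_add, Finset.mul_sum, ← mul_assoc (b D)⁻¹, inv_mul_cancel₀ hb,
        one_mul, add_comm]
      simp only [← mul_assoc]
    have hπ' : IsRegMap k π' := by
      rw [isRegMap_iff_pullAlg, hpull]
      exact sup_le hle' (Algebra.adjoin_le (Set.singleton_subset_iff.mpr f.2))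
    have hBB : pullAlg k π ≤ pullAlg k π' := le_sup_left.trans hpull.ge
    have hfB' : (f : X → k) ∈ pullAlg k π' :=
      hpull.ge ((le_sup_right : Algebra.adjoin k {(f : X → k)} ≤ pullAlg k π ⊔ _) (Algebra.subset_adjoin rfl))
    obtain ⟨B', hB'⟩ := hmk _ (hle.trans hBB)
    have hint' : B' ≤ integralClosure (Fn k T₀.H) (Fn k X) := fun F hF => by
      have hsub : pullAlg k π' ≤ ((integralClosure (Fn k T₀.H) (Fn k X)).restrictScalars k).map (Fn k X).val := by
        rw [hpull]
        exact sup_le (fun F hF => ⟨⟨F, hle' hF⟩, hint ((hB _).mpr hF), rfl⟩)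
          (Algebra.adjoin_le (Set.singleton_subset_iff.mpr ⟨f, hfint, rfl⟩))
      obtain ⟨F', hF', e⟩ := hsub ((hB' F).mp hF)
      obtain rfl : F' = F := Subtype.ext e
      exact hF'
    have hsle : span B ≤ span B' :=
      Submodule.span_mono (Set.image_mono fun F hF => (hB' F).mpr (hBB ((hB F).mp hF)))
    have hmem : ψ f ∈ span B := by
      rw [hsle.eq_of_not_lt (hmaxS _ ⟨T', π', B', ⟨hπ', hd', hdim'.trans hdim, hint', hB'⟩, rfl⟩)]
      exact Submodule.subset_span ⟨f, (hB' f).mpr hfB', rfl⟩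
    obtain ⟨b, hb0, a, haB, he⟩ := exists_den ψ B hmem
    have heq : algebraMap (Fn k T₀.H) (Fn k X) b * f = a := sub_eq_zero.mp (hψ _
      ((isIntegral_algebraMap.mul hfint).sub (hint haB)) (by rw [map_sub, map_mul, AlgHom.commutes, he, sub_self]))
    have ha := (hB a).mp haB
    obtain ⟨a', ha', hae⟩ := mem_pullAlg.mp ha
    obtain ⟨b', hb', hbe⟩ := mem_pullAlg.mp (hle (mem_pullAlg.mpr
      ⟨(b : T₀.H → k), b.2, fun x => rfl⟩ : (fun x => (b : T₀.H → k) (π₀ x)) ∈ pullAlg k π₀))
    have hb'0 : b' ≠ 0 := fun h => hb0 (Subtype.ext (hd₀ _ b.2 fun x => by rw [← hbe x, h]; rfl))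
    obtain ⟨r, hr, hrf⟩ := exists_of_div C hd d.isReg hfd ha' hb' hb'0 fun x => by
      have := congrFun (congrArg Subtype.val heq) x
      rw [hae, hbe]
      exact this
    exact hfB (mem_pullAlg.mpr ⟨r, hr, hrf⟩)
  -- bijectivity
  have hsurj : Function.Surjective (pullHom (π : X → T.H) hπ) := fun F => by
    obtain ⟨g, hg, he⟩ := mem_pullAlg.mp (hall F)
    exact ⟨⟨g, hg⟩, Subtype.ext (funext he)⟩
  let E := AlgEquiv.ofBijective (pullHom (π : X → T.H) hπ) ⟨pullHom_injective hπ hd, hsurj⟩
  have hbij : Function.Bijective π := by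
    refine ⟨fun x y hxy => hsep x y fun F => ?_, fun v => ?_⟩
    · obtain ⟨g, -, he⟩ := mem_pullAlg.mp (hall F)
      rw [← he, ← he, hxy]
    · let ev : Fn k T.H →ₐ[k] k := (Pi.evalAlgHom k (fun _ : T.H => k) v).comp (Fn k T.H).val
      obtain ⟨x, hx⟩ := hpt (ev.comp E.symm.toAlgHom)
      refine ⟨x, C.separates fun g => ?_⟩
      have h1 := hx (E g)
      rw [AlgHom.comp_apply, AlgEquiv.coe_algHom, AlgEquiv.symm_apply_apply] at h1
      exact h1.symm
  refine ⟨T, AddEquiv.ofBijective π hbij, hπ, fun F hF => ?_⟩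
  obtain ⟨g, hg, he⟩ := mem_pullAlg.mp (hall ⟨F, hF⟩)
  have : F ∘ (AddEquiv.ofBijective π hbij).symm = g := funext fun v => by
    obtain ⟨x, rfl⟩ := hbij.2 v
    change F ((AddEquiv.ofBijective π hbij).symm (AddEquiv.ofBijective π hbij x)) = _
    rw [AddEquiv.symm_apply_apply]
    exact (he x).symm
  rw [this]
  exact hg

end Groth.Agent.Lib.WittU.UnipStruct
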