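import Groth.Agent.Lib.WittU.PtsProd
import Groth.Prelude.Def_AlgGrp
import Mathlib.AlgebraicGeometry.Morphisms.FinitePresentation
import Mathlib.AlgebraicGeometry.Morphisms.Finite
import Mathlib.AlgebraicGeometry.Morphisms.Separated
import Mathlib.Topology.JacobsonSpace
import Mathlib.AlgebraicGeometry.AlgClosed.Basic
import Mathlib.AlgebraicGeometry.Morphisms.QuasiFinite
import Mathlib.RingTheory.Jacobson.Artinian

/-!
# Surjectivity and finiteness of kernels read on `k`-points
-/

universe u

open CategoryTheory CategoryTheory.Limits AlgebraicGeometry MonoidalCategory CartesianMonoidalCategory MonObj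

namespace Groth.Agent.Lib.WittU.Criteria

open Groth.Agent.Lib.WittU.Pts

variable {k : Type u} [Field k] [IsAlgClosed k] {X Y N : Over (base k)}

/-- The closed point underlying a `k`-point. -/
noncomputable def pointOf (x : pt k ⟶ X) : X.left := x.left.base (IsLocalRing.closedPoint k)

omit [IsAlgClosed k] in
theorem pointOf_comp (x : pt k ⟶ X) (u : X ⟶ Y) : pointOf (x ≫ u) = u.left.base (pointOf x) := rfl

theorem exists_pointOf [LocallyOfFiniteType X.hom] {z : X.left} (hz : IsClosed {z}) :
    ∃ x : pt k ⟶ X, pointOf x = z :=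
  ⟨Over.homMk (pointOfClosedPoint X.hom z hz) (pointOfClosedPoint_comp X.hom z hz),
    pointOfClosedPoint_apply X.hom z hz _⟩

theorem isClosed_pointOf [LocallyOfFiniteType X.hom] (x : pt k ⟶ X) : IsClosed {pointOf x} :=
  (pointEquivClosedPoint X.hom ⟨x.left, Over.w x⟩).2

theorem pointOf_injective [LocallyOfFiniteType X.hom] :
    Function.Injective (pointOf : (pt k ⟶ X) → X.left) := fun x y h =>
  Over.OverMorphism.ext (ext_of_apply_closedPoint_eq X.hom (Over.w x) (Over.w y) h)

/-- A nonempty constructible set in a Jacobson space contains a closed point. -/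
theorem nonempty_inter_closedPoints_of_isConstructible {T : Type*} [TopologicalSpace T] [JacobsonSpace T]
    {s : Set T} (hs : Topology.IsConstructible s) (hne : s.Nonempty) : (s ∩ closedPoints T).Nonempty := by
  revert hne
  induction s, hs using BooleanSubalgebra.closure_sdiff_sup_induction with
  | isSublattice =>
    exact ⟨fun s hs t ht ↦ ⟨hs.1.union ht.1, hs.2.union ht.2⟩,
      fun s hs t ht ↦ ⟨hs.1.inter ht.1, hs.2.inter_isOpen ht.2 ht.1⟩⟩
  | bot_mem => exact ⟨isOpen_empty, .empty⟩
  | top_mem => exact ⟨isOpen_univ, .univ⟩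
  | sdiff U hU V hV =>
    exact fun hne => nonempty_inter_closedPoints hne
      (hU.1.isLocallyClosed.inter hV.1.isClosed_compl.isLocallyClosed)
  | sup s _ t _ hs' ht' =>
    intro hne
    rcases Set.union_nonempty.mp hne with h | h
    · obtain ⟨x, hx, hx'⟩ := hs' h; exact ⟨x, Or.inl hx, hx'⟩
    · obtain ⟨x, hx, hx'⟩ := ht' h; exact ⟨x, Or.inr hx, hx'⟩

/-- Surjectivity on points gives surjectivity. -/
theorem surjective_of_pts (u : X ⟶ Y) [LocallyOfFiniteType X.hom] [QuasiCompact X.hom]
    [LocallyOfFiniteType Y.hom] [QuasiCompact Y.hom] [QuasiSeparated Y.hom]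
    (h : ∀ y : pt k ⟶ Y, ∃ x : pt k ⟶ X, x ≫ u = y) : Surjective u.left := by
  have : JacobsonSpace Y.left := LocallyOfFiniteType.jacobsonSpace Y.hom
  have : CompactSpace Y.left := QuasiCompact.compactSpace_of_compactSpace Y.hom
  have : QuasiSeparatedSpace Y.left := quasiSeparatedSpace_of_quasiSeparated Y.hom
  have : IsLocallyNoetherian Y.left := LocallyOfFiniteType.isLocallyNoetherian Y.hom
  have : LocallyOfFiniteType (u.left ≫ Y.hom) := by rw [Over.w]; infer_instance
  have : LocallyOfFiniteType u.left := locallyOfFiniteType_of_comp u.left Y.hom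
  have : LocallyOfFinitePresentation u.left := inferInstance
  have : QuasiCompact (u.left ≫ Y.hom) := by rw [Over.w]; infer_instance
  have : QuasiCompact u.left := QuasiCompact.of_comp u.left Y.hom
  refine ⟨Set.range_eq_univ.mp ?_⟩
  by_contra hne
  have hc := (u.left.isConstructible_image Topology.IsConstructible.univ).compl
  rw [Set.image_univ] at hc
  obtain ⟨z, hz, hzc⟩ := nonempty_inter_closedPoints_of_isConstructible hc (Set.nonempty_compl.mpr hne)
  obtain ⟨y, rfl⟩ := exists_pointOf (mem_closedPoints_iff.mp hzc)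
  obtain ⟨x, rfl⟩ := h y
  exact hz ⟨pointOf x, rfl⟩

/-- A surjective morphism is surjective on points. -/
theorem pts_of_surjective (u : X ⟶ Y) [LocallyOfFiniteType X.hom] [LocallyOfFiniteType Y.hom]
    [Surjective u.left] (y : pt k ⟶ Y) : ∃ x : pt k ⟶ X, x ≫ u = y := by
  have : JacobsonSpace X.left := LocallyOfFiniteType.jacobsonSpace X.hom
  obtain ⟨z, hz, hzc⟩ := nonempty_inter_closedPoints
    (Z := u.left.base ⁻¹' {pointOf y}) (Set.singleton_nonempty _ |>.preimage u.left.surjective)
    ((isClosed_pointOf y).preimage u.left.continuous).isLocallyClosed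
  obtain ⟨x, rfl⟩ := exists_pointOf (mem_closedPoints_iff.mp hzc)
  exact ⟨x, pointOf_injective hz⟩

/-- A scheme with finitely many `k`-points is finite. -/
theorem isFinite_of_finite_pts [IsAffine X.left] [LocallyOfFiniteType X.hom] [Finite (pt k ⟶ X)] :
    IsFinite X.hom := by
  have : JacobsonSpace X.left := LocallyOfFiniteType.jacobsonSpace X.hom
  have hfin : (closedPoints X.left).Finite := (Set.finite_range (pointOf : (pt k ⟶ X) → X.left)).subset
    fun z hz => by obtain ⟨x, hx⟩ := exists_pointOf (mem_closedPoints_iff.mp hz); exact ⟨x, hx⟩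
  have hd : DiscreteTopology X.left := JacobsonSpace.discreteTopology hfin
  have h1 : X.hom.appTop.hom.FiniteType :=
    (HasRingHomProperty.iff_of_isAffine (P := @LocallyOfFiniteType)).mp inferInstance
  rw [HasAffineProperty.iff_of_isAffine (P := @IsFinite)]
  refine ⟨inferInstance, ?_⟩
  let : Algebra k Γ(X.left, ⊤) := (scal X).toAlgebra
  have h2 : (scal X).FiniteType :=
    h1.comp (RingHom.FiniteType.of_surjective _ (baseEquiv (k := k)).symm.surjective)
  have : Algebra.FiniteType k Γ(X.left, ⊤) := h2
  have hnoeth : IsNoetherianRing Γ(X.left, ⊤) := Algebra.FiniteType.isNoetherianRing k _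
  have : DiscreteTopology (PrimeSpectrum Γ(X.left, ⊤)) := by
    change DiscreteTopology (Spec Γ(X.left, ⊤))
    exact (Scheme.homeoOfIso X.left.isoSpec).symm.isEmbedding.discreteTopology
  have : IsArtinianRing Γ(X.left, ⊤) := by
    rw [isArtinianRing_iff_isNoetherianRing_krullDimLE_zero]
    exact ⟨hnoeth, Ring.KrullDimLE.mk₀ fun I hI => PrimeSpectrum.isClosed_singleton_iff_isMaximal ⟨I, hI⟩ |>.mp
      (isClosed_discrete _)⟩
  have : Module.Finite k Γ(X.left, ⊤) := Module.finite_of_isArtinianRing k _
  have h3 : (scal X).Finite := this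
  exact RingHom.Finite.of_comp_finite (f := (baseEquiv (k := k)).symm.toRingHom) h3

theorem finite_pts_of_isFinite [IsFinite X.hom] : Finite (pt k ⟶ X) := by
  have : Finite X.left := by
    have hf : (X.hom.base ⁻¹' {IsLocalRing.closedPoint k}).Finite := X.hom.finite_preimage_singleton _
    rw [← Set.finite_univ_iff]
    exact hf.subset fun x _ => Subsingleton.elim _ _
  exact Finite.of_injective _ (pointOf_injective (X := X))

/-- The kernel criterion. -/
theorem isFinite_kernel_iff [IsAffine X.left] [LocallyOfFiniteType X.hom] [IsAffine Y.left] [GrpObj Y]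
    (u : X ⟶ Y) (i : N ⟶ X) (h : AlgGrp.IsKernel i u) :
    IsFinite N.hom ↔ {x : pt k ⟶ X | x ≫ u = 1}.Finite := by
  have hleft : IsPullback i.left (toUnit N).left u.left η[Y].left := h.map (Over.forget _)
  have : IsSeparated Y.hom := inferInstance
  have hη : IsClosedImmersion η[Y].left := isClosedImmersion_of_comp_eq_id Y.hom η[Y].left (Over.w η[Y])
  have hi : IsClosedImmersion i.left := MorphismProperty.of_isPullback hleft.flip hη
  have : IsAffine N.left := isAffine_of_isAffineHom i.left
  have : LocallyOfFiniteType N.hom := by rw [← Over.w i]; infer_instance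
  have hinj : Function.Injective (fun x : pt k ⟶ N => x ≫ i) := fun a b hab =>
    h.hom_ext hab (toUnit_unique _ _)
  have hrange : Set.range (fun x : pt k ⟶ N => x ≫ i) = {x : pt k ⟶ X | x ≫ u = 1} := by
    ext x
    constructor
    · rintro ⟨a, rfl⟩
      simp only [Set.mem_ofPred_eq, Category.assoc, h.w, Hom.one_def]
      rw [← Category.assoc]
      congr 1
      exact toUnit_unique _ _
    · intro hx
      exact ⟨h.lift x (toUnit _) (by rw [Set.mem_ofPred_eq.mp hx, Hom.one_def]), h.lift_fst _ _ _⟩
  rw [← hrange]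
  constructor
  · intro hf
    have := finite_pts_of_isFinite (X := N)
    exact Set.finite_range _
  · intro hf
    have : Finite (pt k ⟶ N) := by
      have := hf.to_subtype
      exact Finite.of_injective (Set.rangeFactorization fun x : pt k ⟶ N => x ≫ i)
        (Set.rangeFactorization_injective.mpr hinj)
    exact isFinite_of_finite_pts

end Groth.Agent.Lib.WittU.Criteria
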