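import Mathlib.RingTheory.Flat.FaithfullyFlat.Basic
import Mathlib.RingTheory.TensorProduct.Basic
import Mathlib.Algebra.Algebra.Bilinear

/-!
# The first steps of the Amitsur complex of a faithfully flat algebra are exact
-/

universe u v

open TensorProduct

namespace Groth.Agent.Lib.WittU.Amitsur

variable (A : Type u) (C : Type v) [CommRing A] [CommRing C] [Algebra A C]

/-- `c ↦ c ⊗ 1 - 1 ⊗ c`. -/
noncomputable def d0 : C →ₗ[A] C ⊗[A] C :=
  (TensorProduct.mk A C C).flip 1 - TensorProduct.mk A C C 1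

theorem d0_apply (c : C) : d0 A C c = c ⊗ₜ 1 - 1 ⊗ₜ c := rfl

/-- The alternating sum of the three insertions. -/
noncomputable def d1 : C ⊗[A] C →ₗ[A] C ⊗[A] (C ⊗[A] C) :=
  TensorProduct.mk A C (C ⊗[A] C) 1 - LinearMap.lTensor C (TensorProduct.mk A C C 1) +
    LinearMap.lTensor C ((TensorProduct.mk A C C).flip 1)

theorem d1_tmul (y z : C) :
    d1 A C (y ⊗ₜ z) = 1 ⊗ₜ (y ⊗ₜ z) - y ⊗ₜ (1 ⊗ₜ z) + y ⊗ₜ (z ⊗ₜ 1) := rfl

theorem d1_d0 : d1 A C ∘ₗ d0 A C = 0 := by
  ext c
  simp [d0_apply, d1_tmul]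

/-- Multiply the first two factors. -/
noncomputable def contract (M : Type v) [AddCommGroup M] [Module A M] :
    C ⊗[A] (C ⊗[A] M) →ₗ[A] C ⊗[A] M :=
  LinearMap.rTensor M (LinearMap.mul' A C) ∘ₗ (TensorProduct.assoc A C C M).symm.toLinearMap

theorem contract_tmul (M : Type v) [AddCommGroup M] [Module A M] (x y : C) (m : M) :
    contract A C M (x ⊗ₜ (y ⊗ₜ m)) = (x * y) ⊗ₜ m := by
  simp [contract]

theorem homotopy (v : C ⊗[A] (C ⊗[A] C)) :
    contract A C (C ⊗[A] C) (LinearMap.lTensor C (d1 A C) v) =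
      v + LinearMap.lTensor C (d0 A C) (contract A C C v) := by
  induction v using TensorProduct.induction_on with
  | zero => simp
  | add a b ha hb => simp only [map_add, ha, hb]; abel
  | tmul x w =>
    induction w using TensorProduct.induction_on with
    | zero => simp
    | add a b ha hb => simp only [tmul_add, map_add, ha, hb]; abel
    | tmul y z =>
      simp only [LinearMap.lTensor_tmul, d1_tmul, contract_tmul, d0_apply, tmul_sub, tmul_add, map_sub, map_add]
      simp only [mul_one]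
      abel

theorem exact_d0_d1 [Module.FaithfullyFlat A C] : Function.Exact (d0 A C) (d1 A C) := by
  refine Module.FaithfullyFlat.lTensor_reflects_exact A C (d0 A C) (d1 A C) fun v => ⟨fun hv => ?_, ?_⟩
  · refine ⟨- contract A C C v, ?_⟩
    have h := homotopy A C v
    rw [hv, map_zero] at h
    rw [map_neg]
    exact neg_eq_of_add_eq_zero_left h.symm
  · rintro ⟨w, rfl⟩
    rw [← LinearMap.comp_apply, ← LinearMap.lTensor_comp, d1_d0, LinearMap.lTensor_zero, LinearMap.zero_apply]

theorem exact_algebraMap_d0 [Module.FaithfullyFlat A C] :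
    Function.Exact (Algebra.linearMap A C) (d0 A C) := by
  refine Module.FaithfullyFlat.lTensor_reflects_exact A C _ _ fun v => ⟨fun hv => ?_, ?_⟩
  · have key : ∀ w : C ⊗[A] C, contract A C C (LinearMap.lTensor C (d0 A C) w) =
        LinearMap.mul' A C w ⊗ₜ 1 - w := fun w => by
      induction w using TensorProduct.induction_on with
      | zero => simp
      | add a b ha hb => simp only [map_add, ha, hb, add_tmul]; abel
      | tmul x y => simp [d0_apply, tmul_sub, contract_tmul]
    have h := key v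
    rw [hv, map_zero] at h
    refine ⟨LinearMap.mul' A C v ⊗ₜ 1, ?_⟩
    rw [LinearMap.lTensor_tmul, Algebra.linearMap_apply, map_one]
    exact sub_eq_zero.mp h.symm
  · rintro ⟨w, rfl⟩
    rw [← LinearMap.comp_apply, ← LinearMap.lTensor_comp]
    have : d0 A C ∘ₗ Algebra.linearMap A C = 0 := by
      ext
      simp [d0_apply]
    rw [this, LinearMap.lTensor_zero, LinearMap.zero_apply]

theorem mem_range_of_tmul_comm [Module.FaithfullyFlat A C] {c : C}
    (h : c ⊗ₜ[A] (1 : C) = 1 ⊗ₜ c) : c ∈ (algebraMap A C).range := by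
  obtain ⟨a, ha⟩ := (exact_algebraMap_d0 A C c).mp (by rw [d0_apply, h, sub_self])
  exact ⟨a, ha⟩

theorem exists_of_cocycle [Module.FaithfullyFlat A C] {t : C ⊗[A] C} (h : d1 A C t = 0) :
    ∃ s : C, s ⊗ₜ (1 : C) - 1 ⊗ₜ s = t :=
  (exact_d0_d1 A C t).mp h

end Groth.Agent.Lib.WittU.Amitsur
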