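import Groth.Agent.Lib.WittU.Homs

/-!
# Regular symmetric cocycles on and with values in Witt vector groups
-/

universe u

namespace Groth.Agent.Lib.WittU.Ext

open Groth.Agent.Lib.WittU.Reg Groth.Agent.Lib.WittU.WittReg Groth.Agent.Lib.WittU.Lazard
  Groth.Agent.Lib.WittU.Witt Groth.Agent.Lib.WittU.Homs WittGrp

variable {p : ℕ} [hp : Fact p.Prime] {k : Type u} [Field k] [IsAlgClosed k] [CharP k p] {n m : ℕ}

/-- Truncated Witt vectors. -/
local notation "𝕋" => TruncatedWittVector p

section General

variable {G G' H H' : Type*} [AddCommGroup G] [AddCommGroup G'] [AddCommGroup H] [AddCommGroup H']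

theorem isCocycle_sub {c d : G → G → H} (hc : IsCocycle c) (hd : IsCocycle d) :
    IsCocycle (fun x y => c x y - d x y) where
  symm x y := by rw [hc.symm, hd.symm]
  assoc x y z := by
    rw [sub_add_sub_comm, sub_add_sub_comm, hc.assoc, hd.assoc]

theorem isCocycle_add {c d : G → G → H} (hc : IsCocycle c) (hd : IsCocycle d) :
    IsCocycle (fun x y => c x y + d x y) where
  symm x y := by rw [hc.symm, hd.symm]
  assoc x y z := by
    rw [add_add_add_comm, hc.assoc, hd.assoc, add_add_add_comm]

theorem isCocycle_pullback {c : G → G → H} (hc : IsCocycle c) (f : G' →+ G) :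
    IsCocycle (fun x y => c (f x) (f y)) where
  symm x y := hc.symm _ _
  assoc x y z := by simp only [map_add]; exact hc.assoc _ _ _

theorem isCocycle_push {c : G → G → H} (hc : IsCocycle c) (f : H →+ H') :
    IsCocycle (fun x y => f (c x y)) where
  symm x y := by rw [hc.symm]
  assoc x y z := by rw [← map_add, ← map_add, hc.assoc]

theorem four_term {c : G → G → H} (hc : IsCocycle c) (a b a' b' : G) :
    c (a + a') (b + b') + c a a' + c b b' = c (a + b) (a' + b') + c a b + c a' b' := by
  have e1 := hc.assoc a a' (b + b')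
  have e2 := hc.assoc a b (a' + b')
  have e3 := hc.assoc a' b b'
  have e4 := hc.assoc b a' b'
  rw [add_comm b a'] at e4
  rw [hc.symm b a'] at e4
  have e5 : a' + (b + b') = b + (a' + b') := by abel
  rw [e5] at e1
  calc c (a + a') (b + b') + c a a' + c b b' = c a (b + (a' + b')) + (c a' (b + b') + c b b') := by
          rw [e1]; abel
    _ = c a (b + (a' + b')) + (c b (a' + b') + c a' b') := by rw [← e3, ← e4]
    _ = _ := by rw [← add_assoc, ← e2]

/-- A cocycle pulled back by a sum. -/
theorem pullback_add {c : G → G → H} (hc : IsCocycle c) (f g : G' →+ G) (x y : G') :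
    c ((f + g) x) ((f + g) y) = bd (fun x => c (f x) (g x)) x y + (c (f x) (f y) + c (g x) (g y)) := by
  have h := four_term hc (f x) (f y) (g x) (g y)
  simp only [bd, AddMonoidHom.add_apply, map_add] at *
  rw [eq_comm, ← sub_eq_zero] at h ⊢
  rw [← h]
  abel

theorem invariant_right {c : G → G → H} (hc : IsCocycle c) {u : G} (hu : ∀ x, c x u = 0) (x y : G) :
    c x (y + u) = c x y := by
  have h := hc.assoc x y u
  rw [hu, hu, zero_add, add_zero] at h
  exact h.symm

theorem invariant_left {c : G → G → H} (hc : IsCocycle c) {u : G} (hu : ∀ x, c x u = 0) (x y : G) :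
    c (x + u) y = c x y := by rw [hc.symm, invariant_right hc hu, hc.symm]

theorem bd_add (f g : G → H) (x y : G) : bd (fun z => f z + g z) x y = bd f x y + bd g x y := by
  simp only [bd]; abel

theorem bd_neg (f : G → H) (x y : G) : bd (fun z => - f z) x y = - bd f x y := by
  simp only [bd]; abel

theorem bd_map (φ : H →+ H') (f : G → H) (x y : G) : bd (fun z => φ (f z)) x y = φ (bd f x y) := by
  simp only [bd, map_sub]

theorem bd_pull (φ : G' →+ G) (f : G → H) (x y : G') : bd (fun z => f (φ z)) x y = bd f (φ x) (φ y) := by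
  simp only [bd, map_add]

theorem IsCocycle.left_zero {c : G → G → H} (hc : IsCocycle c) (x : G) : c 0 x = c 0 0 := by
  rw [hc.symm]; exact hc.right_zero x

theorem isReg_bd [RegSpace k G] [RegAddGroup k G] {h : G → k} (hh : IsReg h) :
    IsReg (fun z : G × G => bd h z.1 z.2) :=
  ((hh.comp (RegAddGroup.reg_add (k := k))).sub (hh.comp isRegMap_fst)).sub (hh.comp isRegMap_snd)

end General

/-- The basic cocycle of `W 2` on `k`. -/
noncomputable def kappa (x y : k) : k := (teich p 2 x + teich p 2 y).coeff (Fin.last 1)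

omit [IsAlgClosed k] [CharP k p] in
theorem ins_toK_symm (x : k) : ins ((toK (p := p)).symm x) = teich p 2 x := by
  refine TruncatedWittVector.ext fun i => ?_
  refine i.lastCases ?_ (fun j => ?_)
  · rw [coeff_ins_last, coeff_teich_pos _ _ (by simp)]
  · rw [coeff_ins_castSucc, Subsingleton.elim j 0]
    exact ((toK (p := p) (k := k)).apply_symm_apply x).trans (coeff_teich_zero x).symm

omit [IsAlgClosed k] [CharP k p] in
theorem kappa_eq (x y : k) :
    kappa (p := p) x y = carry 1 ((toK (p := p)).symm x) ((toK (p := p)).symm y) := by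
  rw [kappa, carry, ins_toK_symm, ins_toK_symm]

omit [IsAlgClosed k] [CharP k p] in
theorem isCocycle_kappa : IsCocycle (kappa (p := p) (k := k)) where
  symm x y := by simp only [kappa_eq]; exact isCocycle_carry.symm _ _
  assoc x y z := by simp only [kappa_eq, map_add]; exact isCocycle_carry.assoc _ _ _

omit [IsAlgClosed k] [CharP k p] in
theorem isReg_kappa : IsReg (fun z : k × k => kappa (p := p) z.1 z.2) :=
  isRegMap_witt.mp ((isRegMap_teich.comp isRegMap_fst).add (isRegMap_teich.comp isRegMap_snd)) _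

omit [IsAlgClosed k] [CharP k p] in
theorem teich_add_teich (x y : k) :
    teich p 2 x + teich p 2 y = teich p 2 (x + y) + top 1 (kappa (p := p) x y) := by
  rw [kappa_eq, ← ins_toK_symm, ← ins_toK_symm, ← ins_toK_symm, ins_add, map_add]

omit [IsAlgClosed k] in
theorem teich_mul_top_one (t z : k) : teich p 2 t * top 1 z = top (p := p) 1 (t ^ p * z) := by
  have h : ∀ z, top (p := p) (k := k) 1 z = shift p (Nat.le_succ 1) ((toK (p := p)).symm z) := fun z => rfl
  rw [h, h, teich_mul_shift]
  congr 1
  refine (toK (p := p) (k := k)).injective ?_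
  rw [AddEquiv.apply_symm_apply, toK_apply, coeff_mul_zero, coeff_teich_zero]
  congr 1

omit [IsAlgClosed k] in
theorem kappa_smul (t x y : k) : kappa (p := p) (t * x) (t * y) = t ^ p * kappa (p := p) x y := by
  conv_lhs => rw [kappa, teich_mul, teich_mul, ← mul_add, teich_add_teich, mul_add, ← teich_mul,
    teich_mul_top_one, ← ins_toK_symm, last_ins_add_top]

omit [IsAlgClosed k] in
theorem kappa_pow (i : ℕ) (x y : k) :
    kappa (p := p) (x ^ p ^ i) (y ^ p ^ i) = kappa (p := p) x y ^ p ^ i := by
  have h : ∀ z : k, teich p 2 (z ^ p ^ i) = frobPow i (teich p 2 z) := fun z => by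
    refine TruncatedWittVector.ext fun j => ?_
    rw [coeff_frobPow]
    by_cases hj : 0 < (j : ℕ)
    · rw [coeff_teich_pos _ _ hj, coeff_teich_pos _ _ hj, zero_pow (pow_ne_zero _ hp.out.ne_zero)]
    · obtain rfl : j = 0 := Fin.ext (by simpa using hj)
      rw [coeff_teich_zero, coeff_teich_zero]
  rw [kappa, h, h, ← map_add, coeff_frobPow]
  rfl

omit [IsAlgClosed k] in
theorem smul_teich_two (m : ℕ) (x : k) :
    m • teich p 2 x = teich p 2 (m * x) + top 1 (∑ j ∈ Finset.range m, kappa (p := p) (j * x) x) := by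
  induction m with
  | zero =>
    simp only [zero_smul, Nat.cast_zero, zero_mul, Finset.range_zero, Finset.sum_empty, map_zero, add_zero]
    refine TruncatedWittVector.ext fun j => ?_
    rw [TruncatedWittVector.coeff_zero]
    by_cases hj : 0 < (j : ℕ)
    · exact (coeff_teich_pos _ _ hj).symm
    · obtain rfl : j = 0 := Fin.ext (by simpa using hj)
      exact (coeff_teich_zero _).symm
  | succ m ih =>
    rw [succ_nsmul, ih, add_right_comm, teich_add_teich, Finset.sum_range_succ, map_add, add_assoc,
      add_comm (top 1 (kappa (↑m * x) x)), Nat.cast_succ, add_mul, one_mul]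

omit [IsAlgClosed k] in
theorem sum_kappa (x : k) : ∑ j ∈ Finset.range p, kappa (p := p) (j * x) x = x ^ p := by
  have h := congrArg (fun z => z.coeff (Fin.last 1)) (smul_teich_two (p := p) (k := k) p x)
  simp only [p_cast, zero_mul] at h
  rw [← ins_toK_symm, ← ins_toK_symm, last_ins_add_top, ins_toK_symm] at h
  rw [← h]
  have h1 := coeff_pow_smul (p := p) 1 (teich p 2 x) (Fin.last 1)
  rw [pow_one, dif_pos (by simp)] at h1
  rw [h1]
  congr 1

omit [IsAlgClosed k] in
theorem kappa_zero : kappa (p := p) (0 : k) 0 = 0 := by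
  have := kappa_smul (p := p) (0 : k) 0 0
  rwa [zero_mul, zero_pow hp.out.ne_zero, zero_mul] at this

omit [IsAlgClosed k] in
/-- `φ ∘ κ` is a coboundary only if `φ = 0`. -/
theorem push_kappa_eq_zero [PerfectRing k p] (φ : k →+ k) (h : k → k)
    (he : ∀ x y, φ (kappa (p := p) x y) = bd h x y) : φ = 0 := by
  ext t
  obtain ⟨x, rfl⟩ := (frobeniusEquiv k p).surjective t
  have h0 : h 0 = 0 := by
    have := he 0 0
    rw [kappa_zero, map_zero] at this
    simpa [bd] using this.symm
  have hs : ∀ m : ℕ, ∑ j ∈ Finset.range m, bd h (j * x) x = h (m * x) - h 0 - m • h x := fun m => by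
    induction m with
    | zero => simp
    | succ m ih =>
      rw [Finset.sum_range_succ, ih, bd, Nat.cast_succ, add_mul, one_mul, succ_nsmul]
      abel
  have h2 := hs p
  rw [Finset.sum_congr rfl (fun (j : ℕ) _ => (he ((j : k) * x) x).symm), ← map_sum, sum_kappa, p_cast, zero_mul, sub_self,
    zero_sub, nsmul_eq_mul, p_cast, zero_mul, neg_zero] at h2
  rw [AddMonoidHom.zero_apply]
  simpa [frobeniusEquiv_def, frobenius_def] using h2

/-- Symmetric regular cocycles on `k` with values in `k`. -/
theorem exists_kappa {c : k → k → k} (hc : IsCocycle c) (hr : IsReg (fun z : k × k => c z.1 z.2)) :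
    ∃ (φ : k →+ k) (h : k → k), IsReg (φ : k → k) ∧ IsReg h ∧
      ∀ x y, c x y = φ (kappa (p := p) x y) + bd h x y := by
  classical
  let g : ℕ → k → k → k := fun d =>
    if hd : ∃ j, d = p ^ (j + 1) then fun x y => kappa (p := p) x y ^ p ^ hd.choose
    else bd (fun t => t ^ d)
  have hg : ∀ d, 2 ≤ d → IsCocycle (g d) ∧ IsReg (fun z : k × k => g d z.1 z.2) ∧
      (∀ t x y, g d (t * x) (t * y) = t ^ d * g d x y) ∧ ∃ x y, g d x y ≠ 0 := by
    intro d hd2
    by_cases hd : ∃ j, d = p ^ (j + 1)
    · simp only [g, dif_pos hd]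
      refine ⟨isCocycle_push isCocycle_kappa
        (iterateFrobenius k p hd.choose).toAddMonoidHom, isReg_kappa.pow _, fun t x y => ?_, ?_⟩
      · rw [kappa_smul, mul_pow, ← pow_mul, ← pow_succ', ← hd.choose_spec]
      · by_contra hne
        push Not at hne
        have hz : ∀ x y : k, kappa (p := p) x y = 0 := fun x y =>
          (pow_eq_zero_iff (pow_ne_zero _ hp.out.ne_zero)).mp (hne x y)
        have := sum_kappa (p := p) (k := k) 1
        simp only [hz, Finset.sum_const_zero, one_pow] at this
        exact zero_ne_one this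
    · simp only [g, dif_neg hd]
      refine ⟨isCocycle_bd _, isReg_bd (isReg_id.pow d), fun t x y => ?_, ?_⟩
      · simp only [bd, mul_pow, ← mul_add, mul_sub]
      · by_contra hne
        push Not at hne
        simp only [bd, sub_sub, sub_eq_zero] at hne
        obtain ⟨D, b, hb⟩ := exists_pPoly (p := p) (AddMonoidHom.mk' (fun t : k => t ^ d) hne) (isReg_id.pow d)
        have hP : (Polynomial.X : Polynomial k) ^ d =
            ∑ i ∈ Finset.range D, Polynomial.C (b i) * Polynomial.X ^ p ^ i :=
          Polynomial.funext fun t => by simpa [Polynomial.eval_finsetSum] using hb t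
        have := congrArg (fun P => Polynomial.coeff P d) hP
        simp only [Polynomial.coeff_X_pow_self, Polynomial.finsetSum_coeff, Polynomial.coeff_C_mul,
          Polynomial.coeff_X_pow] at this
        rw [Finset.sum_eq_zero fun i _ => ?_] at this
        · exact one_ne_zero this
        · rw [if_neg, mul_zero]
          intro hdi
          rcases i with _ | j
          · simp at hdi; omega
          · exact hd ⟨j, hdi⟩
  obtain ⟨M, l, hl⟩ := lazard (p := p) g hg hc hr
  have key : ∀ E, ∃ (φ : k →+ k) (h : k → k), IsReg (φ : k → k) ∧ IsReg h ∧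
      ∀ x y, ∑ d ∈ Finset.Ico 2 E, l d * g d x y = φ (kappa (p := p) x y) + bd h x y := by
    intro E
    induction E with
    | zero => exact ⟨0, 0, isReg_const 0, isReg_const 0, fun x y => by simp [bd]⟩
    | succ E ih =>
      obtain ⟨φ, h, hφ, hh, e⟩ := ih
      by_cases hE : 2 ≤ E
      swap
      · exact ⟨0, 0, isReg_const 0, isReg_const 0, fun x y => by
          rw [Finset.Ico_eq_empty (by omega)]; simp [bd]⟩
      by_cases hd : ∃ j, E = p ^ (j + 1)
      · refine ⟨φ + (AddMonoidHom.mulLeft (l E)).comp (iterateFrobenius k p hd.choose).toAddMonoidHom, h,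
          hφ.add ((isReg_const _).mul (isReg_id.pow _)), hh, fun x y => ?_⟩
        rw [Finset.sum_Ico_succ_top hE, e]
        simp only [g, dif_pos hd, AddMonoidHom.add_apply, AddMonoidHom.comp_apply, RingHom.toAddMonoidHom_eq_coe,
          AddMonoidHom.coe_coe, AddMonoidHom.coe_mulLeft, iterateFrobenius_def]
        ring
      · refine ⟨φ, fun t => h t + l E * t ^ E, hφ, hh.add ((isReg_const _).mul (isReg_id.pow _)), fun x y => ?_⟩
        rw [Finset.sum_Ico_succ_top hE, e]
        simp only [g, dif_neg hd, bd]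
        ring
  obtain ⟨φ, h, hφ, hh, e⟩ := key M
  refine ⟨φ, fun t => h t - c 0 0, hφ, hh.sub (isReg_const _), fun x y => ?_⟩
  rw [hl, e]
  simp only [bd]
  ring

omit [IsAlgClosed k] [CharP k p] in
theorem shift_top {j : ℕ} (h : j + 1 ≤ n + 1) (t : k) :
    shift p h (top (p := p) j t) = top n t := by
  rw [top_apply, top_apply, shift_shift]

omit [IsAlgClosed k] [CharP k p] in
theorem ins_top (x : k) :
    ins (top (p := p) n x) = shift p (show 2 ≤ n + 2 by omega) (teich p 2 x) := by
  refine TruncatedWittVector.ext fun i => ?_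
  refine i.lastCases ?_ (fun j => ?_)
  · rw [coeff_ins_last, coeff_shift, dif_pos (by simp)]
    rw [coeff_teich_pos]
    simp
  · rw [coeff_ins_castSucc]
    refine j.lastCases ?_ (fun l => ?_)
    · rw [coeff_top_last, coeff_shift, dif_pos (by simp)]
      have e : (⟨(((Fin.last n).castSucc : Fin (n + 2)) : ℕ) - (n + 2 - 2), by simp⟩ : Fin 2) = 0 :=
        Fin.ext (by simp)
      rw [e, coeff_teich_zero]
    · rw [coeff_top_castSucc, coeff_shift, dif_neg (by simp)]

omit [IsAlgClosed k] [CharP k p] in
theorem carry_top (x y : k) :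
    carry (n + 1) (top (p := p) n x) (top n y) = kappa (p := p) x y := by
  rw [carry, ins_top, ins_top, ← map_add, teich_add_teich, map_add, shift_top (by omega), ← ins_top,
    last_ins_add_top]

/-- **Extensions of `W n` by the additive group.** -/
theorem exists_carry : ∀ (n : ℕ) {c : 𝕋 (n + 1) k → 𝕋 (n + 1) k → k}, IsCocycle c →
    IsReg (fun z : 𝕋 (n + 1) k × 𝕋 (n + 1) k => c z.1 z.2) →
    ∃ (φ : k →+ k) (h : 𝕋 (n + 1) k → k), IsReg (φ : k → k) ∧ IsReg h ∧
      ∀ x y, c x y = φ (carry (n + 1) x y) + bd h x y := by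
  intro n
  induction n with
  | zero =>
    intro c hc hr
    obtain ⟨φ, h, hφ, hh, e⟩ := exists_kappa (p := p)
      (isCocycle_pullback hc ((toK (p := p) (k := k)).symm : k →+ 𝕋 1 k))
      (hr.comp ((isRegMap_toK_symm.comp isRegMap_fst).prod (isRegMap_toK_symm.comp isRegMap_snd)))
    refine ⟨φ, fun x => h (toK x), hφ, hh.comp isRegMap_toK, fun x y => ?_⟩
    have := e (toK x) (toK y)
    simp only [AddMonoidHom.coe_coe, AddEquiv.symm_apply_apply, kappa_eq] at this
    rw [this]
    congr 1
    simp only [bd, map_add]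
  | succ n ih =>
    intro c hc hr
    obtain ⟨φ, h, hφ, hh, e⟩ := exists_kappa (p := p) (isCocycle_pullback hc (top (p := p) (n + 1)))
      (hr.comp ((isRegMap_top.comp isRegMap_fst).prod (isRegMap_top.comp isRegMap_snd)))
    let hl : 𝕋 (n + 2) k → k := fun x => h (x.coeff (Fin.last (n + 1)))
    have hlreg : IsReg hl := hh.comp (isRegMap_iff_isReg.mpr (isReg_coeff _))
    let c1 : 𝕋 (n + 2) k → 𝕋 (n + 2) k → k := fun x y => c x y - (φ (carry (n + 2) x y) + bd hl x y)
    have hc1 : IsCocycle c1 :=
      isCocycle_sub hc (isCocycle_add (isCocycle_push isCocycle_carry φ) (isCocycle_bd hl))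
    have hc1r : IsReg (fun z : 𝕋 (n + 2) k × 𝕋 (n + 2) k => c1 z.1 z.2) :=
      hr.sub ((hφ.comp (isRegMap_iff_isReg.mpr isReg_carry)).add (isReg_bd hlreg))
    have hlt : ∀ s : k, hl (top (n + 1) s) = h s := fun s => by simp only [hl, coeff_top_last]
    have htop : ∀ s t, c1 (top (n + 1) s) (top (n + 1) t) = 0 := fun s t => by
      simp only [c1]
      rw [e s t, carry_top (n := n + 1), sub_eq_zero]
      congr 1
      simp only [bd, ← map_add, hlt]
    have h00 : c1 0 0 = 0 := by simpa using htop 0 0
    let g : 𝕋 (n + 2) k → k := fun x =>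
      c1 (ins (TruncatedWittVector.truncate (Nat.le_succ (n + 1)) x)) (top (n + 1) (x.coeff (Fin.last (n + 1))))
    have hgreg : IsReg g := hc1r.comp ((isRegMap_ins.comp (isRegMap_truncate (Nat.le_succ (n + 1)))).prod
      (isRegMap_top.comp (isRegMap_iff_isReg.mpr (isReg_coeff _))))
    let c2 : 𝕋 (n + 2) k → 𝕋 (n + 2) k → k := fun x y => c1 x y - bd g x y
    have hc2 : IsCocycle c2 := isCocycle_sub hc1 (isCocycle_bd g)
    have hg0 : ∀ t, g (top (n + 1) t) = 0 := fun t => by
      simp only [g, truncate_top, coeff_top_last]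
      have hi : ins (0 : 𝕋 (n + 1) k) = 0 := TruncatedWittVector.ext fun i => by
        rw [TruncatedWittVector.coeff_zero]
        refine i.lastCases (coeff_ins_last _) fun j => ?_
        rw [coeff_ins_castSucc, TruncatedWittVector.coeff_zero]
      rw [hi, IsCocycle.left_zero hc1, h00]
    have hu : ∀ t x, c2 x (top (n + 1) t) = 0 := fun t x => by
      simp only [c2, bd, hg0, sub_zero]
      simp only [g]
      rw [map_add (TruncatedWittVector.truncate (Nat.le_succ (n + 1))), truncate_top, add_zero, last_add_top,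
        map_add]
      set A := ins (TruncatedWittVector.truncate (Nat.le_succ (n + 1)) x) with hA
      set T := top (p := p) (n + 1) (x.coeff (Fin.last (n + 1))) with hT
      have hx : x = A + T := (decomp x).symm
      have h4 := hc1.assoc A T (top (n + 1) t)
      rw [htop, add_zero, ← hx] at h4
      rw [← h4]
      ring
    let c' : 𝕋 (n + 1) k → 𝕋 (n + 1) k → k := fun a b => c2 (ins a) (ins b)
    have hins : ∀ a b : 𝕋 (n + 1) k, ins (a + b) = ins a + ins b + top (n + 1) (- carry (n + 1) a b) := fun a b => by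
      rw [ins_add, add_assoc (ins (a + b)), ← map_add, add_neg_cancel, map_zero, add_zero]
    have hc' : IsCocycle c' :=
      { symm := fun a b => hc2.symm _ _
        assoc := fun a b d => by
          simp only [c', hins, invariant_left hc2 (hu _), invariant_right hc2 (hu _)]
          exact hc2.assoc _ _ _ }
    have hc'r : IsReg (fun z : 𝕋 (n + 1) k × 𝕋 (n + 1) k => c' z.1 z.2) :=
      (hc1r.sub (isReg_bd hgreg)).comp ((isRegMap_ins.comp isRegMap_fst).prod (isRegMap_ins.comp isRegMap_snd))
    obtain ⟨ψ, h', hψ, hh', e'⟩ := ih hc' hc'r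
    let tr := fun x : 𝕋 (n + 2) k => TruncatedWittVector.truncate (Nat.le_succ (n + 1)) x
    refine ⟨φ, fun x => hl x + (g x + (ψ (x.coeff (Fin.last (n + 1))) + h' (tr x))), hφ,
      hlreg.add (hgreg.add ((hψ.comp (isRegMap_iff_isReg.mpr (isReg_coeff _))).add
        (hh'.comp (isRegMap_truncate (Nat.le_succ (n + 1)))))), fun x y => ?_⟩
    have hxy : c2 x y = c' (tr x) (tr y) := by
      conv_lhs => rw [← decomp x, ← decomp y, invariant_left hc2 (hu _), invariant_right hc2 (hu _)]
    rw [e'] at hxy
    have hlast : carry (n + 1) (tr x) (tr y) = bd (fun z => z.coeff (Fin.last (n + 1))) x y := by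
      simp only [bd, last_add]
      ring
    rw [hlast, ← bd_map] at hxy
    rw [bd_add, bd_add, bd_add]
    have e3 : bd (fun x => h' (tr x)) x y = bd h' (tr x) (tr y) := by simp only [bd, tr, map_add]
    rw [e3, ← hxy]
    simp only [c2, c1]
    ring

/-- The class of `W (n+1)` is free. -/
theorem push_carry_eq_zero (φ : k →+ k) (h : 𝕋 (n + 1) k → k)
    (he : ∀ x y, φ (carry (n + 1) x y) = bd h x y) : φ = 0 :=
  push_kappa_eq_zero (p := p) φ (fun t => h (top n t)) fun x y => by
    rw [← carry_top (n := n), he]; simp only [bd, map_add]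

/-- `φ ∘ κ` is, up to coboundary, `κ ∘ ψ`. -/
theorem exists_pull_kappa (φ : k →+ k) (hφ : IsReg (φ : k → k)) :
    ∃ (ψ : k →+ k) (h : k → k), IsReg (ψ : k → k) ∧ IsReg h ∧
      ∀ x y, φ (kappa (p := p) x y) = kappa (p := p) (ψ x) (ψ y) + bd h x y := by
  obtain ⟨D, b, hb⟩ := exists_pPoly (p := p) φ hφ
  suffices ∀ E, ∃ (ψ : k →+ k) (h : k → k), IsReg (ψ : k → k) ∧ IsReg h ∧ ∀ x y,
      ∑ i ∈ Finset.range E, b i * kappa (p := p) x y ^ p ^ i = kappa (p := p) (ψ x) (ψ y) + bd h x y by
    obtain ⟨ψ, h, hψ, hh, e⟩ := this D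
    exact ⟨ψ, h, hψ, hh, fun x y => by rw [hb, e]⟩
  intro E
  induction E with
  | zero =>
    exact ⟨0, 0, isReg_const 0, isReg_const 0, fun x y => by simp [bd, kappa_zero]⟩
  | succ E ih =>
    obtain ⟨ψ, h, hψ, hh, e⟩ := ih
    obtain ⟨a, ha⟩ := IsAlgClosed.exists_pow_nat_eq (b E) hp.out.pos
    let χ : k →+ k := (AddMonoidHom.mulLeft a).comp (iterateFrobenius k p E).toAddMonoidHom
    have hχ : ∀ t, χ t = a * t ^ p ^ E := fun t => rfl
    have hχr : IsReg (χ : k → k) := (isReg_const a).mul (isReg_id.pow _)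
    refine ⟨ψ + χ, fun t => h t + - kappa (p := p) (ψ t) (χ t), hψ.add hχr,
      hh.add (isReg_kappa.comp ((isRegMap_iff_isReg.mpr hψ).prod (isRegMap_iff_isReg.mpr hχr))).neg,
      fun x y => ?_⟩
    rw [Finset.sum_range_succ, e, pullback_add isCocycle_kappa, bd_add, bd_neg]
    rw [hχ, hχ, kappa_smul, kappa_pow, ha]
    ring

omit [IsAlgClosed k] [CharP k p] in
theorem truncate_teich (h : n ≤ m) (x : k) :
    TruncatedWittVector.truncate h (teich p m x) = teich p n x := by
  rw [teich, teich, TruncatedWittVector.truncate_wittVector_truncate]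

omit [IsAlgClosed k] [CharP k p] in
theorem truncate_lam (h : n ≤ m) (x y : k) :
    TruncatedWittVector.truncate h (lam (p := p) m x y) = lam n x y := by
  refine shift_injective (Nat.le_succ n) ?_
  rw [← truncate_shift_succ h, shift_lam, shift_lam, map_sub, map_add, truncate_teich, truncate_teich,
    truncate_teich]

omit [IsAlgClosed k] in
theorem lam_one (x y : k) : lam (p := p) 1 x y = (toK (p := p)).symm (kappa (p := p) x y) := by
  refine shift_injective (Nat.le_succ 1) ?_
  rw [shift_lam, teich_add_teich, add_sub_cancel_left]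
  rfl

/-- **Extensions of the additive group by `W n`.** -/
theorem exists_lam : ∀ (n : ℕ) {c : k → k → 𝕋 (n + 1) k}, IsCocycle c →
    IsRegMap k (fun z : k × k => c z.1 z.2) →
    ∃ (ψ : k →+ k) (f : k → 𝕋 (n + 1) k), IsReg (ψ : k → k) ∧ IsRegMap k f ∧
      ∀ x y, c x y = lam (n + 1) (ψ x) (ψ y) + bd f x y := by
  intro n
  induction n with
  | zero =>
    intro c hc hr
    obtain ⟨φ, h, hφ, hh, e⟩ := exists_kappa (p := p)
      (isCocycle_push hc ((toK (p := p) (k := k)) : 𝕋 1 k →+ k)) (isReg_toK.comp hr)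
    obtain ⟨ψ, h', hψ, hh', e'⟩ := exists_pull_kappa (p := p) φ hφ
    refine ⟨ψ, fun t => (toK (p := p)).symm (h' t + h t), hψ,
      isRegMap_toK_symm.comp (isRegMap_iff_isReg.mpr (hh'.add hh)), fun x y => ?_⟩
    apply (toK (p := p) (k := k)).injective
    have := e x y
    simp only [AddMonoidHom.coe_coe] at this
    rw [this, e', map_add, lam_one, AddEquiv.apply_symm_apply]
    simp only [bd, map_sub, AddEquiv.apply_symm_apply]
    ring
  | succ n ih =>
    intro c hc hr
    have htr : IsRegMap k (fun z : k × k => TruncatedWittVector.truncate (Nat.le_succ (n + 1)) (c z.1 z.2)) :=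
      (isRegMap_truncate (Nat.le_succ (n + 1))).comp hr
    obtain ⟨ψ, f, hψ, hf, e⟩ := ih
      (isCocycle_push hc (TruncatedWittVector.truncate (Nat.le_succ (n + 1))).toAddMonoidHom) htr
    let insf : k → 𝕋 (n + 2) k := fun t => ins (f t)
    have hinsf : IsRegMap k insf := isRegMap_ins.comp hf
    let c1 : k → k → 𝕋 (n + 2) k := fun x y => c x y - (lam (n + 2) (ψ x) (ψ y) + bd insf x y)
    have hc1 : IsCocycle c1 :=
      isCocycle_sub hc (isCocycle_add (isCocycle_pullback isCocycle_lam ψ) (isCocycle_bd insf))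
    have hψm : IsRegMap k (ψ : k → k) := isRegMap_iff_isReg.mpr hψ
    have hadd : IsRegMap k (fun z : k × k => z.1 + z.2) := RegAddGroup.reg_add
    have hc1r : IsRegMap k (fun z : k × k => c1 z.1 z.2) :=
      hr.sub ((isRegMap_lam.comp ((hψm.comp isRegMap_fst).prod (hψm.comp isRegMap_snd))).add
        (((hinsf.comp hadd).sub (hinsf.comp isRegMap_fst)).sub (hinsf.comp isRegMap_snd)))
    have htop : ∀ x y, c1 x y = top (n + 1) ((c1 x y).coeff (Fin.last (n + 1))) := fun x y => by
      have h0 : TruncatedWittVector.truncate (Nat.le_succ (n + 1)) (c1 x y) = 0 := by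
        have ee := e x y
        simp only [RingHom.toAddMonoidHom_eq_coe, AddMonoidHom.coe_coe] at ee
        simp only [c1, bd, insf, map_sub, map_add, truncate_lam, truncate_ins]
        rw [ee]
        simp only [bd]
        abel
      conv_lhs => rw [← decomp (c1 x y), h0]
      rw [add_eq_right]
      refine TruncatedWittVector.ext fun i => ?_
      rw [TruncatedWittVector.coeff_zero]
      refine i.lastCases (coeff_ins_last _) fun j => ?_
      rw [coeff_ins_castSucc, TruncatedWittVector.coeff_zero]
    have hcl : IsCocycle (fun x y => (c1 x y).coeff (Fin.last (n + 1))) :=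
      { symm := fun x y => by rw [hc1.symm]
        assoc := fun x y z => by
          have h := hc1.assoc x y z
          rw [htop (x + y), htop x y, htop x (y + z), htop y z, ← map_add, ← map_add] at h
          have := congrArg (fun v => v.coeff (Fin.last (n + 1))) h
          simpa only [coeff_top_last] using this }
    obtain ⟨φ, h, hφ, hh, e1⟩ := exists_kappa (p := p) hcl ((isReg_coeff _).comp hc1r)
    obtain ⟨χ, h', hχ, hh', e2⟩ := exists_pull_kappa (p := p) φ hφ
    let T : k → 𝕋 (n + 2) k := fun t => shift p (show 2 ≤ n + 2 by omega) (teich p 2 (χ t))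
    have hT : IsRegMap k T :=
      (isRegMap_shift _).comp (isRegMap_teich.comp (isRegMap_iff_isReg.mpr hχ))
    refine ⟨ψ, fun t => insf t + (top (n + 1) (h t + h' t) + - T t), hψ,
      hinsf.add ((isRegMap_top.comp (isRegMap_iff_isReg.mpr (hh.add hh'))).add hT.neg), fun x y => ?_⟩
    have hTk : top (n + 1) (kappa (p := p) (χ x) (χ y)) = - bd T x y := by
      rw [← shift_top (show 1 + 1 ≤ n + 1 + 1 by omega),
        show top (p := p) 1 (kappa (p := p) (χ x) (χ y)) =
          teich p 2 (χ x) + teich p 2 (χ y) - teich p 2 (χ x + χ y) by rw [teich_add_teich, add_sub_cancel_left]]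
      simp only [bd, T, map_add, map_sub]
      abel
    have hmain := htop x y
    rw [e1 x y, e2 x y, map_add, map_add, hTk] at hmain
    simp only [c1] at hmain
    rw [sub_eq_iff_eq_add'] at hmain
    rw [hmain, bd_add, bd_add, bd_neg]
    simp only [bd, T, map_add, map_sub]
    abel

/-- The class of `W (n+1)` is free, second form. -/
theorem lam_eq_imp {ψ ψ' : k →+ k} {f : k → 𝕋 (n + 1) k}
    (he : ∀ x y, lam (n + 1) (ψ x) (ψ y) = lam (n + 1) (ψ' x) (ψ' y) + bd f x y) : ψ = ψ' := by
  ext t
  let q : k → 𝕋 (n + 2) k := fun x => teich p (n + 2) (ψ x) - teich p (n + 2) (ψ' x) + shift p (Nat.le_succ (n + 1)) (f x)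
  have hq : ∀ x y, q (x + y) = q x + q y := fun x y => by
    have h := congrArg (shift p (Nat.le_succ (n + 1))) (he x y)
    rw [map_add, shift_lam, shift_lam] at h
    simp only [bd, map_sub] at h
    simp only [q, map_add]
    rw [eq_comm, ← sub_eq_zero] at h
    rw [← sub_eq_zero, ← h]
    abel
  have h0 : p • AddMonoidHom.mk' q hq t = 0 := by
    rw [← map_nsmul, nsmul_eq_mul, p_cast, zero_mul, map_zero]
  have h1 := congrArg (fun v => v.coeff 1) h0
  have hc := coeff_pow_smul (p := p) 1 (AddMonoidHom.mk' q hq t) 1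
  rw [pow_one] at hc
  simp only [TruncatedWittVector.coeff_zero, hc, dif_pos (show 1 ≤ ((1 : Fin (n + 2)) : ℕ) by simp)] at h1
  have h2 := (pow_eq_zero_iff hp.out.ne_zero).mp h1
  have e : (⟨((1 : Fin (n + 2)) : ℕ) - 1, by omega⟩ : Fin (n + 2)) = 0 := Fin.ext (by simp)
  rw [e] at h2
  change (q t).coeff 0 = 0 at h2
  simp only [q] at h2
  rw [← coeff0_apply, map_add, map_sub, coeff0_apply, coeff0_apply, coeff0_apply, coeff_teich_zero,
    coeff_teich_zero, coeff_shift_zero, add_zero, sub_eq_zero] at h2
  exact h2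

/-- A map of standard extensions compares the carries. -/
theorem carry_of_hom (G : 𝕋 (n + 1) k →+ 𝕋 (m + 1) k) (f : 𝕋 n k →+ 𝕋 m k) (φ : k →+ k)
    (hf : ∀ z, TruncatedWittVector.truncate (Nat.le_succ m) (G z) = f (TruncatedWittVector.truncate (Nat.le_succ n) z))
    (hφ : ∀ t, G (top n t) = top m (φ t)) (x y : 𝕋 n k) :
    φ (carry n x y) = carry m (f x) (f y) - bd (fun v => (G (ins v)).coeff (Fin.last m)) x y := by
  have hG : ∀ v, G (ins v) = ins (f v) + top m ((G (ins v)).coeff (Fin.last m)) := fun v => by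
    conv_lhs => rw [← decomp (G (ins v)), hf, truncate_ins]
  have h := congrArg G (ins_add x y)
  rw [map_add, map_add, hφ, hG x, hG y, hG (x + y), add_add_add_comm, ins_add, ← map_add f, add_assoc,
    add_assoc, ← map_add, ← map_add, ← map_add] at h
  have := congrArg (fun v => v.coeff (Fin.last m)) h
  simp only [last_ins_add_top] at this
  simp only [bd]
  linear_combination -this

/-- A map of standard extensions compares the Teichmüller carries. -/
theorem lam_of_hom (G : 𝕋 (n + 1) k →+ 𝕋 (m + 1) k) (g : 𝕋 n k →+ 𝕋 m k) (ψ : k →+ k)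
    (hg : ∀ y, G (shift p (Nat.le_succ n) y) = shift p (Nat.le_succ m) (g y))
    (hψ : ∀ t, (G (teich p (n + 1) t)).coeff 0 = ψ t) (x y : k) :
    g (lam n x y) = lam m (ψ x) (ψ y) -
      bd (fun t => dropW (Nat.le_succ m) (G (teich p (n + 1) t) - teich p (m + 1) (ψ t))) x y := by
  apply shift_injective (Nat.le_succ m)
  rw [← hg, shift_lam, map_sub (shift (R := k) p (Nat.le_succ m)), shift_lam]
  have hD : ∀ t, shift p (Nat.le_succ m) (dropW (Nat.le_succ m) (G (teich p (n + 1) t) - teich p (m + 1) (ψ t))) =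
      G (teich p (n + 1) t) - teich p (m + 1) (ψ t) := fun t =>
    (exists_shift_of_coeff_zero _ (by
      rw [← coeff0_apply, map_sub, coeff0_apply, coeff0_apply, coeff_teich_zero, hψ, sub_self])).symm
  simp only [bd, map_sub (shift (R := k) p (Nat.le_succ m)), hD]
  simp only [map_sub, map_add]
  abel

end Groth.Agent.Lib.WittU.Ext
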