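import Groth.Agent.Lib.WittU.Witt
import Mathlib.FieldTheory.IsAlgClosed.Basic
import Mathlib.FieldTheory.Perfect

/-!
# Regular homomorphisms between Witt vector groups over an algebraically closed field
-/

universe u

namespace Groth.Agent.Lib.WittU.Homs

open Groth.Agent.Lib.WittU.Reg Groth.Agent.Lib.WittU.WittReg Groth.Agent.Lib.WittU.Lazard
  Groth.Agent.Lib.WittU.Witt WittGrp

variable {p : ℕ} [hp : Fact p.Prime] {k : Type u} [Field k] [IsAlgClosed k] [CharP k p] {n m : ℕ}

/-- Truncated Witt vectors. -/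
local notation "𝕋" => TruncatedWittVector p

/-- Iterated Frobenius on truncated Witt vectors. -/
noncomputable def frobPow : ℕ → (𝕋 n k →+* 𝕋 n k)
  | 0 => RingHom.id _
  | i + 1 => (frob p n p_cast).comp (frobPow i)

omit [IsAlgClosed k] in
theorem coeff_frobPow (i : ℕ) (x : 𝕋 n k) (j : Fin n) :
    (frobPow i x).coeff j = x.coeff j ^ p ^ i := by
  induction i with
  | zero => simp [frobPow]
  | succ i ih => rw [frobPow, RingHom.comp_apply, coeff_frob, ih, ← pow_mul, pow_succ]

omit [IsAlgClosed k] in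
theorem isRegMap_frobPow (i : ℕ) : IsRegMap k (frobPow (p := p) (k := k) (n := n) i) :=
  isRegMap_witt.mpr fun j => by simp only [coeff_frobPow]; exact (isReg_coeff j).pow _

/-- `x ↦ [a] F^i x`. -/
noncomputable def basic (a : k) (i : ℕ) (n : ℕ) : 𝕋 n k →+ 𝕋 n k :=
  (AddMonoidHom.mulLeft (teich p n a)).comp (frobPow i).toAddMonoidHom

omit [IsAlgClosed k] in
theorem basic_apply (a : k) (i : ℕ) (x : 𝕋 n k) : basic a i n x = teich p n a * frobPow i x := rfl

/-- `x ↦ R V (Φ x)`. -/
noncomputable def vop {n : ℕ} (f : 𝕋 n k →+ 𝕋 n k) : 𝕋 n k →+ 𝕋 n k :=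
  ((TruncatedWittVector.truncate (Nat.le_succ n)).toAddMonoidHom.comp (shift p (Nat.le_succ n))).comp f

omit [IsAlgClosed k] [CharP k p] in
theorem vop_apply (f : 𝕋 n k →+ 𝕋 n k) (x : 𝕋 n k) :
    vop f x = TruncatedWittVector.truncate (Nat.le_succ n) (shift p (Nat.le_succ n) (f x)) := rfl

/-- The operators generated by `[a] F^i` and `V`. -/
inductive IsOp : (∀ n, 𝕋 n k →+ 𝕋 n k) → Prop
  | zero : IsOp (fun _ => 0)
  | mk (a : k) (i : ℕ) : IsOp (basic a i)
  | add {Φ Ψ} : IsOp Φ → IsOp Ψ → IsOp (fun n => Φ n + Ψ n)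
  | v {Φ} : IsOp Φ → IsOp (fun n => vop (Φ n))

omit [IsAlgClosed k] in
theorem IsOp.isRegMap {Φ : ∀ n, 𝕋 n k →+ 𝕋 n k} (h : IsOp Φ) (n : ℕ) : IsRegMap k (Φ n) := by
  induction h with
  | zero => exact isRegMap_const 0
  | mk a i => exact family_mul_reg (isRegMap_const _) (isRegMap_frobPow i)
  | add _ _ h1 h2 => exact h1.add h2
  | v _ h => exact (isRegMap_truncate (Nat.le_succ n)).comp ((isRegMap_shift (Nat.le_succ n)).comp h)

omit [IsAlgClosed k] in
theorem IsOp.truncate {Φ : ∀ n, 𝕋 n k →+ 𝕋 n k} (h : IsOp Φ) (hnm : n ≤ m) (x : 𝕋 m k) :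
    TruncatedWittVector.truncate hnm (Φ m x) = Φ n (TruncatedWittVector.truncate hnm x) := by
  induction h generalizing x with
  | zero => simp
  | mk a i =>
    rw [basic_apply, basic_apply, map_mul, teich, teich, TruncatedWittVector.truncate_wittVector_truncate]
    congr 1
    refine TruncatedWittVector.ext fun j => ?_
    rw [TruncatedWittVector.coeff_truncate, coeff_frobPow, coeff_frobPow, TruncatedWittVector.coeff_truncate]
  | add _ _ h1 h2 => simp only [AddMonoidHom.add_apply, map_add, h1, h2]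
  | v _ h =>
    rw [vop_apply, vop_apply, ← h, ← truncate_shift_succ hnm, truncate_truncate', truncate_truncate']

/-- The leading part of an operator. -/
noncomputable def lead (Φ : ∀ n, 𝕋 n k →+ 𝕋 n k) : k →+ k :=
  (toK.toAddMonoidHom.comp (Φ 1)).comp toK.symm.toAddMonoidHom

omit [IsAlgClosed k] in
theorem IsOp.coeff_zero {Φ : ∀ n, 𝕋 n k →+ 𝕋 n k} (h : IsOp Φ) (x : 𝕋 (n + 1) k) :
    (Φ (n + 1) x).coeff 0 = lead Φ (x.coeff 0) := by
  have h1 := congrArg toK (h.truncate (Nat.le_add_left 1 n) x)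
  rw [toK_apply, TruncatedWittVector.coeff_truncate] at h1
  refine h1.trans ?_
  change toK (Φ 1 _) = toK (Φ 1 (toK.symm _))
  congr 2
  rw [AddEquiv.eq_symm_apply, toK_apply, TruncatedWittVector.coeff_truncate]
  rfl

omit [IsAlgClosed k] in
theorem lead_zero : lead (fun n => (0 : 𝕋 n k →+ 𝕋 n k)) = 0 := by ext t; simp [lead]

omit [IsAlgClosed k] in
theorem lead_add (Φ Ψ : ∀ n, 𝕋 n k →+ 𝕋 n k) : lead (fun n => Φ n + Ψ n) = lead Φ + lead Ψ := by
  ext t; simp [lead]

omit [IsAlgClosed k] in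
theorem lead_basic (a : k) (i : ℕ) (t : k) : lead (basic (p := p) a i) t = a * t ^ p ^ i := by
  change toK (basic a i 1 (toK.symm t)) = _
  rw [toK_apply, basic_apply, coeff_mul_zero, coeff_teich_zero, coeff_frobPow]
  have h : ((toK (p := p) (k := k)).symm t).coeff 0 = t := (toK (p := p) (k := k)).apply_symm_apply t
  rw [h]

omit [IsAlgClosed k] in
theorem lead_v (Φ : ∀ n, 𝕋 n k →+ 𝕋 n k) : lead (fun n => vop (Φ n)) = 0 := by
  ext t
  change toK (vop (Φ 1) (toK.symm t)) = 0
  rw [toK_apply, vop_apply, TruncatedWittVector.coeff_truncate]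
  exact coeff_shift_zero _

omit [IsAlgClosed k] in
theorem teich_mul_shift (a : k) (y : 𝕋 n k) :
    teich p (n + 1) a * shift p (Nat.le_succ n) y = shift p (Nat.le_succ n) (teich p n (a ^ p) * y) := by
  obtain ⟨Y, rfl⟩ := WittVector.truncate_surjective p n k y
  rw [teich, teich, shift_truncate, ← map_mul, ← map_mul, shift_truncate, Nat.succ_sub (le_refl n), Nat.sub_self,
    Function.iterate_one, mul_comm, ← WittVector.verschiebung_mul_frobenius]
  congr 2
  rw [mul_comm]
  congr 1
  refine WittVector.ext fun j => ?_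
  rw [WittVector.coeff_frobenius_charP]
  rcases Nat.eq_zero_or_pos j with rfl | hj
  · rw [WittVector.teichmuller_coeff_zero, WittVector.teichmuller_coeff_zero]
  · rw [WittVector.teichmuller_coeff_pos p a j hj, WittVector.teichmuller_coeff_pos p _ j hj,
      zero_pow hp.out.ne_zero]

omit [IsAlgClosed k] in
theorem frobPow_shift (i : ℕ) (h : n ≤ m) (y : 𝕋 n k) :
    frobPow i (shift p h y) = shift p h (frobPow i y) := by
  refine TruncatedWittVector.ext fun j => ?_
  rw [coeff_frobPow, coeff_shift, coeff_shift]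
  split_ifs
  · rw [coeff_frobPow]
  · exact zero_pow (pow_ne_zero _ hp.out.ne_zero)

omit [IsAlgClosed k] in
theorem basic_shift (a : k) (i : ℕ) (y : 𝕋 n k) :
    basic a i (n + 1) (shift p (Nat.le_succ n) y) = shift p (Nat.le_succ n) (basic (a ^ p) i n y) := by
  rw [basic_apply, basic_apply, frobPow_shift, teich_mul_shift]

omit [IsAlgClosed k] in
theorem vop_shift (Φ Φ' : ∀ n, 𝕋 n k →+ 𝕋 n k) (y : 𝕋 n k)
    (h : Φ (n + 1) (shift p (Nat.le_succ n) y) = shift p (Nat.le_succ n) (Φ' n y)) :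
    vop (Φ (n + 1)) (shift p (Nat.le_succ n) y) = shift p (Nat.le_succ n) (vop (Φ' n) y) := by
  rw [vop_apply, h, vop_apply]
  exact truncate_shift_succ (Nat.le_succ n) _

omit [IsAlgClosed k] in
/-- Moving an operator past `V`. -/
theorem IsOp.exists_twist {Φ : ∀ n, 𝕋 n k →+ 𝕋 n k} (h : IsOp Φ) :
    ∃ Φ', IsOp Φ' ∧ (∀ n y, Φ (n + 1) (shift p (Nat.le_succ n) y) = shift p (Nat.le_succ n) (Φ' n y)) ∧
      ∀ t, lead Φ' (t ^ p) = lead Φ t ^ p := by
  induction h with
  | zero => exact ⟨_, .zero, fun n y => by simp, fun t => by simp [lead_zero, zero_pow hp.out.ne_zero]⟩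
  | mk a i => exact ⟨_, .mk (a ^ p) i, fun n y => basic_shift a i y, fun t => by
      rw [lead_basic, lead_basic, mul_pow, ← pow_mul, ← pow_mul, mul_comm (p ^ i)]⟩
  | add _ _ h1 h2 =>
    obtain ⟨A, hA, hA', hA''⟩ := h1
    obtain ⟨B, hB, hB', hB''⟩ := h2
    exact ⟨_, .add hA hB, fun n y => by simp [hA', hB'], fun t => by
      simp [lead_add, hA'', hB'', add_pow_char]⟩
  | v _ h1 =>
    obtain ⟨A, hA, hA', -⟩ := h1
    exact ⟨_, .v hA, fun n y => vop_shift _ _ y (hA' n y), fun t => by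
      rw [lead_v, lead_v]; simp [zero_pow hp.out.ne_zero]⟩

/-- Moving an operator past `V`, the other way. -/
theorem IsOp.exists_untwist {Φ' : ∀ n, 𝕋 n k →+ 𝕋 n k} (h : IsOp Φ') :
    ∃ Φ, IsOp Φ ∧ (∀ n y, Φ (n + 1) (shift p (Nat.le_succ n) y) = shift p (Nat.le_succ n) (Φ' n y)) ∧
      ∀ t, lead Φ' (t ^ p) = lead Φ t ^ p := by
  induction h with
  | zero => exact ⟨_, .zero, fun n y => by simp, fun t => by simp [lead_zero, zero_pow hp.out.ne_zero]⟩
  | mk a i =>
    obtain ⟨b, hb⟩ := IsAlgClosed.exists_pow_nat_eq a hp.out.pos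
    subst hb
    exact ⟨_, .mk b i, fun n y => basic_shift b i y, fun t => by
      rw [lead_basic, lead_basic, mul_pow, ← pow_mul, ← pow_mul, mul_comm (p ^ i)]⟩
  | add _ _ h1 h2 =>
    obtain ⟨A, hA, hA', hA''⟩ := h1
    obtain ⟨B, hB, hB', hB''⟩ := h2
    exact ⟨_, .add hA hB, fun n y => by simp [hA', hB'], fun t => by
      simp [lead_add, hA'', hB'', add_pow_char]⟩
  | v _ h1 =>
    obtain ⟨A, hA, hA', -⟩ := h1
    exact ⟨_, .v hA, fun n y => vop_shift _ _ y (hA' n y), fun t => by
      rw [lead_v, lead_v]; simp [zero_pow hp.out.ne_zero]⟩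

theorem frob_shift_iter {Φ : ∀ n, 𝕋 n k →+ 𝕋 n k} (h : IsOp Φ) (j : ℕ) :
    (∃ Φ', IsOp Φ' ∧ (∀ n y, Φ (n + j) (shift p (Nat.le_add_right n j) y) =
        shift p (Nat.le_add_right n j) (Φ' n y)) ∧ ∀ t, lead Φ' (t ^ p ^ j) = lead Φ t ^ p ^ j) ∧
    (∃ Φ', IsOp Φ' ∧ (∀ n y, Φ' (n + j) (shift p (Nat.le_add_right n j) y) =
        shift p (Nat.le_add_right n j) (Φ n y)) ∧ ∀ t, lead Φ (t ^ p ^ j) = lead Φ' t ^ p ^ j) := by
  induction j with
  | zero => exact ⟨⟨Φ, h, fun n y => by simp [shift_self], fun t => by simp⟩,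
      ⟨Φ, h, fun n y => by simp [shift_self], fun t => by simp⟩⟩
  | succ j ih =>
    obtain ⟨⟨A, hA, hA', hA''⟩, ⟨B, hB, hB', hB''⟩⟩ := ih
    obtain ⟨A1, hA1, hA1', hA1''⟩ := hA.exists_twist
    obtain ⟨B1, hB1, hB1', hB1''⟩ := hB.exists_untwist
    refine ⟨⟨A1, hA1, fun n y => ?_, fun t => ?_⟩, ⟨B1, hB1, fun n y => ?_, fun t => ?_⟩⟩
    · have h1 := hA' (n + 1) (shift p (Nat.le_succ n) y)
      rw [hA1', shift_shift, shift_shift] at h1
      have e : n + 1 + j = n + (j + 1) := by omega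
      revert h1
      generalize Nat.le_add_right (n + 1) j = l1
      generalize Nat.le_add_right n (j + 1) = l2
      intro h1
      revert l1 l2
      rw [e]
      intro l1 l2 h1
      exact h1
    · rw [pow_succ, pow_mul, hA1'', hA'', ← pow_mul]
    · have h1 := hB1' (n + j) (shift p (Nat.le_add_right n j) y)
      rw [hB', shift_shift, shift_shift] at h1
      exact h1
    · rw [pow_succ', pow_mul, pow_mul, hB'', hB1'']

/-! ### Additive polynomials -/

omit [IsAlgClosed k] in
/-- A regular additive function on `k` is a combination of `t ↦ t ^ p ^ i`. -/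
theorem exists_pPoly [Infinite k] (f : k →+ k) (hf : IsReg (f : k → k)) :
    ∃ (D : ℕ) (b : ℕ → k), ∀ t, f t = ∑ i ∈ Finset.range D, b i * t ^ p ^ i := by
  have hreg : IsReg (fun z : k × k => f z.1 * z.2 ^ 0) := by
    simpa using hf.comp isRegMap_fst
  obtain ⟨D, a, hr⟩ := exists_rep (f := fun x y => f x * y ^ 0) hreg
  let c : ℕ → k := fun i => a i 0
  have hcD : ∀ i, D ≤ i → c i = 0 := fun i hi => hr.left i 0 hi
  have hc : ∀ x, f x = ∑ i ∈ Finset.range D, c i * x ^ i := fun x => by
    have h := hr.eq x 0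
    simp only [pow_zero, mul_one] at h
    rw [h]
    refine Finset.sum_congr rfl fun i _ => ?_
    rw [Finset.sum_eq_single 0 (fun j _ hj => by simp [hj]) (fun h0 => ?_)]
    · simp [c]
    · rw [hr.right i 0 (by simpa using h0)]; simp
  have hzero : ∀ A b, 0 < A → 0 < b → c (A + b) * ((A + b).choose b : k) = 0 := by
    intro A b hA hb
    by_cases hbD : b < D
    swap
    · rw [hcD _ (by omega), zero_mul]
    by_cases hAD : A < D
    swap
    · rw [hcD _ (by omega), zero_mul]
    have h1 : ∀ x, ∑ i ∈ Finset.range D, c i * (i.choose b : k) * x ^ (i - b) - c b = 0 := fun x => by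
      have := coeff_eq_zero_of_sum (D := D) (i := b)
        (a := fun b => ∑ i ∈ Finset.range D, c i * (i.choose b : k) * x ^ (i - b) - c b -
          if b = 0 then f x else 0) (fun y => ?_) hbD
      · simpa [hb.ne'] using this
      · have e1 : ∑ i ∈ Finset.range D, c i * (x + y) ^ i =
            ∑ b ∈ Finset.range D, (∑ i ∈ Finset.range D, c i * (i.choose b : k) * x ^ (i - b)) * y ^ b := by
          simp only [Finset.sum_mul]
          rw [eq_comm, Finset.sum_comm]
          refine Finset.sum_congr rfl fun i hi => ?_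
          rw [add_pow_range (Finset.mem_range.mp hi) x y, Finset.mul_sum]
          exact Finset.sum_congr rfl fun b _ => by ring
        simp only [sub_mul, Finset.sum_sub_distrib]
        rw [← e1, ← hc, ← hc, Finset.sum_eq_single (f := fun b => (if b = 0 then f x else 0) * y ^ b) 0
          (fun b _ hb => by simp [hb]) (fun h => absurd (Finset.mem_range.mpr (by omega)) h), map_add]
        simp
    have h2 := coeff_eq_zero_of_sum (D := D) (i := A)
      (a := fun A => c (A + b) * ((A + b).choose b : k) - if A = 0 then c b else 0) (fun x => ?_) hAD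
    · simpa [hA.ne'] using h2
    · simp only [sub_mul, Finset.sum_sub_distrib]
      rw [← sum_shift hcD b x, Finset.sum_eq_single (f := fun A => (if A = 0 then c b else 0) * x ^ A) 0
        (fun b _ hb => by simp [hb]) (fun h => absurd (Finset.mem_range.mpr (by omega)) h)]
      simpa using h1 x
  refine ⟨D, fun i => c (p ^ i), fun t => ?_⟩
  have hpow : ∀ i, c i ≠ 0 → ∃ e, i = p ^ e := by
    intro i hi
    rcases Nat.eq_zero_or_pos i with rfl | hi0
    · exfalso
      apply hi
      have h0 := hc 0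
      rw [map_zero, Finset.sum_eq_single 0 (fun b _ hb => by simp [hb])
        (fun h => by rw [hcD 0 (by simpa using h)]; simp)] at h0
      simpa using h0.symm
    obtain ⟨e, u, hu, rfl⟩ := Nat.exists_eq_pow_mul_and_not_dvd hi0.ne' p hp.out.ne_one
    refine ⟨e, ?_⟩
    rcases Nat.lt_or_ge u 2 with hu2 | hu2
    · interval_cases u
      · simp at hu
      · rw [Nat.mul_one]
    · exfalso
      have h := hzero (p ^ e * (u - 1)) (p ^ e) (Nat.mul_pos (pow_pos hp.out.pos e) (by omega))
        (pow_pos hp.out.pos e)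
      have hsum : p ^ e * (u - 1) + p ^ e = p ^ e * u := by
        rw [← Nat.mul_succ, show Nat.succ (u - 1) = u by omega]
      rw [hsum] at h
      have hcu : (((p ^ e * u).choose (p ^ e) : ℕ) : k) = (u : k) := by
        simpa using LazardComb.cast_choose_mul (p := p) (k := k) e u 1
      rw [hcu] at h
      exact (mul_ne_zero hi fun h0 => hu ((CharP.cast_eq_zero_iff k p u).mp h0)) h
  rw [hc]
  refine (Finset.sum_bij_ne_zero (fun e _ _ => p ^ e) (fun e he hne => ?_) (fun a _ _ b _ _ h => ?_)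
    (fun i hi hne => ?_) (fun e _ _ => rfl)).symm
  · by_contra h
    exact hne (by rw [hcD _ (by simpa using h), zero_mul])
  · exact Nat.pow_right_injective hp.out.two_le h
  · obtain ⟨e, rfl⟩ := hpow i (fun h => hne (by rw [h, zero_mul]))
    exact ⟨e, Finset.mem_range.mpr ((Nat.lt_pow_self hp.out.one_lt).trans (Finset.mem_range.mp hi)), hne, rfl⟩

/-- Every regular additive function is the leading part of an operator. -/
theorem exists_op_lead (f : k →+ k) (hf : IsReg (f : k → k)) :
    ∃ Φ : ∀ n, 𝕋 n k →+ 𝕋 n k, IsOp Φ ∧ ∀ t, lead Φ t = f t := by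
  obtain ⟨D, b, hb⟩ := exists_pPoly (p := p) f hf
  suffices ∀ E, ∃ Φ : ∀ n, 𝕋 n k →+ 𝕋 n k, IsOp Φ ∧
      ∀ t, lead Φ t = ∑ i ∈ Finset.range E, b i * t ^ p ^ i by
    obtain ⟨Φ, hΦ, h⟩ := this D
    exact ⟨Φ, hΦ, fun t => by rw [h, hb]⟩
  intro E
  induction E with
  | zero => exact ⟨_, .zero, fun t => by simp [lead_zero]⟩
  | succ E ih =>
    obtain ⟨Φ, hΦ, h⟩ := ih
    exact ⟨_, .add hΦ (.mk (b E) E), fun t => by
      rw [lead_add, AddMonoidHom.add_apply, h, lead_basic, Finset.sum_range_succ]⟩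

/-- A homomorphism to `k` only depends on the zeroth coordinate. -/
theorem hom_to_k (f : 𝕋 (n + 1) k →+ k) (z : 𝕋 (n + 1) k) :
    f z = f (teich p (n + 1) (z.coeff 0)) := by
  conv_lhs => rw [teich_decomp z, map_add]
  rw [add_eq_left]
  obtain ⟨x, hx⟩ := exists_pow_smul (p := p) 1
    (shift p (Nat.le_succ n) (dropW (Nat.le_succ n) (z - teich p (n + 1) (z.coeff 0)))) (fun i hi => by
      obtain rfl : i = 0 := Fin.ext (by simp only [Fin.val_zero]; omega)
      exact coeff_shift_zero _)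
  rw [← hx, pow_one, map_nsmul, nsmul_eq_mul, p_cast, zero_mul]

/-- **Structure of endomorphisms**: every regular endomorphism of `W n` comes from an operator. -/
theorem exists_op : ∀ (n : ℕ) (φ : 𝕋 n k →+ 𝕋 n k), IsRegMap k φ →
    ∃ Φ : ∀ n, 𝕋 n k →+ 𝕋 n k, IsOp Φ ∧ ∀ x, Φ n x = φ x := by
  intro n
  induction n with
  | zero => exact fun φ _ => ⟨_, .zero, fun x => TruncatedWittVector.ext fun i => i.elim0⟩
  | succ n ih =>
    intro φ hφ
    let f : k →+ k := AddMonoidHom.mk' (fun t => (φ (teich p (n + 1) t)).coeff 0) fun s t => by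
      have h := hom_to_k ((coeff0 n).comp φ) (teich p (n + 1) s + teich p (n + 1) t)
      rw [← coeff0_apply (n := n) (teich p (n + 1) s + _), map_add (coeff0 n)] at h
      simp only [AddMonoidHom.comp_apply, coeff0_apply, coeff_teich_zero, map_add] at h
      exact h.symm
    obtain ⟨Φ₀, hΦ₀, hlead⟩ := exists_op_lead (p := p) f
      (((isReg_coeff 0).comp hφ).comp isRegMap_teich)
    have hd : ∀ x, ((φ - Φ₀ (n + 1)) x).coeff 0 = 0 := fun x => by
      rw [AddMonoidHom.sub_apply, ← coeff0_apply, map_sub, coeff0_apply, coeff0_apply, hΦ₀.coeff_zero, hlead]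
      have h := hom_to_k ((coeff0 n).comp φ) x
      simp only [AddMonoidHom.comp_apply, coeff0_apply] at h
      rw [h, sub_eq_zero]
      rfl
    let d : 𝕋 (n + 1) k →+ 𝕋 n k := AddMonoidHom.mk'
      (fun x => dropW (Nat.le_succ n) ((φ - Φ₀ (n + 1)) x)) fun x y =>
        shift_injective (Nat.le_succ n) (by
          rw [map_add (shift p (Nat.le_succ n)), ← exists_shift_of_coeff_zero _ (hd _),
            ← exists_shift_of_coeff_zero _ (hd _), ← exists_shift_of_coeff_zero _ (hd _), map_add])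
    have hdreg : IsRegMap k d := (isRegMap_dropW (Nat.le_succ n)).comp (hφ.sub (hΦ₀.isRegMap _))
    have hker : ∀ x, TruncatedWittVector.truncate (Nat.le_succ n) x = 0 → d x = 0 := fun x hx => by
      obtain ⟨y, hy⟩ := exists_pow_smul (p := p) n x (fun i hi => by
        have h := congrArg (fun z => z.coeff ⟨i, hi⟩) hx
        simp only [TruncatedWittVector.coeff_truncate, TruncatedWittVector.coeff_zero] at h
        exact h)
      rw [← hy, map_nsmul, pow_smul_eq_zero]
    let d' : 𝕋 n k →+ 𝕋 n k := AddMonoidHom.mk' (fun x => d (ins x)) fun x y => by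
      rw [← map_add d, ins_add, map_add d, hker _ (truncate_top _), add_zero]
    have hd'reg : IsRegMap k d' := hdreg.comp isRegMap_ins
    obtain ⟨Φ₁, hΦ₁, h₁⟩ := ih d' hd'reg
    refine ⟨_, .add hΦ₀ (.v hΦ₁), fun x => ?_⟩
    rw [AddMonoidHom.add_apply, vop_apply, truncate_shift_succ (Nat.le_succ n) (Φ₁ (n + 1) x),
      hΦ₁.truncate, h₁]
    have : d' (TruncatedWittVector.truncate (Nat.le_succ n) x) = d x := by
      change d (ins _) = d x
      conv_rhs => rw [← decomp x, map_add, hker _ (truncate_top _), add_zero]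
    rw [this]
    change Φ₀ (n + 1) x + shift p (Nat.le_succ n) (dropW (Nat.le_succ n) ((φ - Φ₀ (n + 1)) x)) = φ x
    rw [← exists_shift_of_coeff_zero _ (hd x), AddMonoidHom.sub_apply, add_sub_cancel]

include hp in
/-- Roots of a nonzero regular additive function are finite and it is surjective. -/
theorem pPoly_surjective_finite (f : k →+ k) (hf : IsReg (f : k → k)) (hne : f ≠ 0) :
    Function.Surjective f ∧ {t | f t = 0}.Finite := by
  obtain ⟨D, b, hb⟩ := exists_pPoly (p := p) f hf
  let P : Polynomial k := ∑ i ∈ Finset.range D, Polynomial.C (b i) * Polynomial.X ^ p ^ i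
  have hP : ∀ t, P.eval t = f t := fun t => by simp [P, hb, Polynomial.eval_finsetSum]
  have hdeg : 0 < P.degree := by
    by_contra h
    have hC := Polynomial.eq_C_of_degree_le_zero (not_lt.mp h)
    apply hne
    ext t
    rw [AddMonoidHom.zero_apply, ← hP, ← f.map_zero, ← hP, hC]
    simp
  constructor
  · intro y
    have hd' : (P - Polynomial.C y).degree ≠ 0 := by
      rw [Polynomial.degree_sub_C hdeg]; exact hdeg.ne'
    obtain ⟨t, ht⟩ := IsAlgClosed.exists_root _ hd'
    exact ⟨t, by rw [← hP]; simpa [Polynomial.IsRoot, sub_eq_zero] using ht⟩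
  · have hP0 : P ≠ 0 := fun h => by simp [h] at hdeg
    exact (Polynomial.finite_setOf_isRoot hP0).subset fun t ht => by
      simpa [Polynomial.IsRoot, hP] using ht

/-- An operator with nonzero leading part is surjective with finite kernel. -/
theorem IsOp.surjective_finite : ∀ (n : ℕ) {Φ : ∀ n, 𝕋 n k →+ 𝕋 n k}, IsOp Φ → lead Φ ≠ 0 →
    Function.Surjective (Φ n) ∧ {x | Φ n x = 0}.Finite := by
  intro n
  induction n with
  | zero =>
    intro Φ _ _
    have : Subsingleton (𝕋 0 k) := ⟨fun _ _ => TruncatedWittVector.ext fun i => i.elim0⟩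
    exact ⟨fun y => ⟨y, Subsingleton.elim _ _⟩, Set.toFinite _⟩
  | succ n ih =>
    intro Φ hΦ hne
    obtain ⟨Φ', hΦ', htw, hl⟩ := hΦ.exists_twist
    have hne' : lead Φ' ≠ 0 := fun h => hne (AddMonoidHom.ext fun t => by
      have := hl t
      rw [h, AddMonoidHom.zero_apply] at this
      exact pow_eq_zero_iff hp.out.ne_zero |>.mp this.symm)
    obtain ⟨hsurj, hfin⟩ := ih hΦ' hne'
    have hleadreg : IsReg (lead Φ : k → k) :=
      ((isReg_toK.comp (hΦ.isRegMap 1)).comp isRegMap_toK_symm)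
    obtain ⟨hs0, hf0⟩ := pPoly_surjective_finite (p := p) (lead Φ) hleadreg hne
    constructor
    · intro y
      obtain ⟨t, ht⟩ := hs0 (y.coeff 0)
      have h0 : (y - Φ (n + 1) (teich p (n + 1) t)).coeff 0 = 0 := by
        rw [← coeff0_apply, map_sub, coeff0_apply, coeff0_apply, hΦ.coeff_zero, coeff_teich_zero, ht, sub_self]
      obtain ⟨v, hv⟩ := hsurj (dropW (Nat.le_succ n) (y - Φ (n + 1) (teich p (n + 1) t)))
      exact ⟨teich p (n + 1) t + shift p (Nat.le_succ n) v, by
        rw [map_add, htw, hv, ← exists_shift_of_coeff_zero _ h0, add_sub_cancel]⟩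
    · have hfib : ∀ t, {x | Φ (n + 1) x = 0 ∧ x.coeff 0 = t}.Finite := by
        intro t
        rcases Set.eq_empty_or_nonempty {x | Φ (n + 1) x = 0 ∧ x.coeff 0 = t} with h | ⟨x₀, hx₀, ht₀⟩
        · rw [h]; exact Set.finite_empty
        · refine (hfin.image fun v => x₀ + shift p (Nat.le_succ n) v).subset ?_
          rintro x ⟨hx, hxt⟩
          have h0 : (x - x₀).coeff 0 = 0 := by
            rw [← coeff0_apply, map_sub, coeff0_apply, coeff0_apply, hxt, ht₀, sub_self]
          refine ⟨dropW (Nat.le_succ n) (x - x₀), shift_injective (Nat.le_succ n) ?_, ?_⟩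
          · rw [← htw, ← exists_shift_of_coeff_zero _ h0, map_sub, hx, hx₀, sub_self, map_zero]
          · simp only
            rw [← exists_shift_of_coeff_zero _ h0, add_sub_cancel]
      refine (hf0.biUnion fun t _ => hfib t).subset fun x hx => ?_
      simp only [Set.mem_iUnion]
      refine ⟨x.coeff 0, ?_, hx, rfl⟩
      change lead Φ (x.coeff 0) = 0
      rw [← hΦ.coeff_zero]
      rw [show Φ (n + 1) x = 0 from hx, TruncatedWittVector.coeff_zero]

/-- An operator with zero leading part on `W (n+1)` is not surjective. -/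
theorem IsOp.not_surjective {Φ : ∀ n, 𝕋 n k →+ 𝕋 n k} (hΦ : IsOp Φ) (h : lead Φ = 0) :
    ¬ Function.Surjective (Φ (n + 1)) := by
  intro hs
  obtain ⟨x, hx⟩ := hs (teich p (n + 1) 1)
  have := congrArg (fun z => z.coeff 0) hx
  simp only [hΦ.coeff_zero, h, AddMonoidHom.zero_apply, coeff_teich_zero] at this
  exact zero_ne_one this

/-- A homomorphism to a smaller Witt group factors through truncation. -/
theorem eq_op_truncate (h : n ≤ m) (f : 𝕋 m k →+ 𝕋 n k) (hf : IsRegMap k f) :
    ∃ Φ : ∀ n, 𝕋 n k →+ 𝕋 n k, IsOp Φ ∧ ∀ x, f x = Φ n (TruncatedWittVector.truncate h x) := by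
  have hker : ∀ x, TruncatedWittVector.truncate h x = 0 → f x = 0 := fun x hx => by
    obtain ⟨y, hy⟩ := exists_pow_smul (p := p) n x (fun i hi => by
      have h := congrArg (fun z => z.coeff ⟨i, hi⟩) hx
      simp only [TruncatedWittVector.coeff_truncate, TruncatedWittVector.coeff_zero] at h
      exact h)
    rw [← hy, map_nsmul, pow_smul_eq_zero]
  let sec : 𝕋 n k → 𝕋 m k := fun x =>
    TruncatedWittVector.mk p fun i => if hi : (i : ℕ) < n then x.coeff ⟨i, hi⟩ else 0
  have hsec : ∀ x, TruncatedWittVector.truncate h (sec x) = x := fun x => TruncatedWittVector.ext fun i => by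
    rw [TruncatedWittVector.coeff_truncate, TruncatedWittVector.coeff_mk, dif_pos (by exact i.2)]
    rfl
  have hsecreg : IsRegMap k sec := isRegMap_witt.mpr fun i => by
    simp only [sec, TruncatedWittVector.coeff_mk]
    split_ifs
    · exact isReg_coeff _
    · exact isReg_const 0
  have heq : ∀ x y, TruncatedWittVector.truncate h x = TruncatedWittVector.truncate h y → f x = f y :=
    fun x y hxy => sub_eq_zero.mp (by rw [← map_sub]; exact hker _ (by rw [map_sub, hxy, sub_self]))
  let g : 𝕋 n k →+ 𝕋 n k := AddMonoidHom.mk' (fun x => f (sec x)) fun x y => by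
    rw [← map_add]; exact heq _ _ (by rw [map_add, hsec, hsec, hsec])
  obtain ⟨Φ, hΦ, hg⟩ := exists_op n g (hf.comp hsecreg)
  exact ⟨Φ, hΦ, fun x => by rw [hg]; exact (heq _ _ (hsec _)).symm⟩

/-- A homomorphism to a bigger Witt group factors through the shift. -/
theorem eq_shift_op (h : n ≤ m) (f : 𝕋 n k →+ 𝕋 m k) (hf : IsRegMap k f) :
    ∃ Φ : ∀ n, 𝕋 n k →+ 𝕋 n k, IsOp Φ ∧ ∀ x, f x = shift p h (Φ n x) := by
  have hz : ∀ x (i : Fin m), (i : ℕ) < m - n → (f x).coeff i = 0 := by
    intro x i hi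
    have h0 : (p ^ n) • f x = 0 := by rw [← map_nsmul, pow_smul_eq_zero, map_zero]
    have h1 := congrArg (fun z => z.coeff ⟨(i : ℕ) + n, by omega⟩) h0
    simp only [coeff_pow_smul, TruncatedWittVector.coeff_zero, dif_pos (Nat.le_add_left n (i : ℕ))] at h1
    have h2 := (pow_eq_zero_iff (pow_ne_zero n hp.out.ne_zero)).mp h1
    simpa using h2
  let g : 𝕋 n k →+ 𝕋 n k := AddMonoidHom.mk' (fun x => dropW h (f x)) fun x y =>
    shift_injective h (by
      rw [map_add (shift p h), shift_dropW h _ (hz _), shift_dropW h _ (hz _), shift_dropW h _ (hz _), map_add])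
  obtain ⟨Φ, hΦ, hg⟩ := exists_op n g ((isRegMap_dropW h).comp hf)
  exact ⟨Φ, hΦ, fun x => by rw [hg]; exact (shift_dropW h _ (hz x)).symm⟩

end Groth.Agent.Lib.WittU.Homs
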