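import Mathlib.RingTheory.Adjoin.Basic
import Mathlib.Algebra.Algebra.Subalgebra.Basic
import Mathlib.Algebra.MvPolynomial.Funext
import Mathlib.Algebra.Algebra.Pi

/-!
# Sets of points with an algebra of regular functions
-/

namespace Groth.Agent.Lib.WittU.Reg

universe u v w

/-- A type of points with an algebra of regular `k`-valued functions on it. -/
class RegSpace (k : Type u) [CommSemiring k] (X : Type v) where
  /-- the regular functions -/
  reg : Subalgebra k (X → k)

variable {k : Type u} [CommRing k] {X : Type v} {Y : Type w}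

/-- `f` is a regular function. -/
def IsReg [RegSpace k X] (f : X → k) : Prop := f ∈ (RegSpace.reg : Subalgebra k (X → k))

/-- `φ` is a regular map. -/
def IsRegMap (k : Type u) [CommRing k] [RegSpace k X] [RegSpace k Y] (φ : X → Y) : Prop :=
  ∀ g : Y → k, IsReg g → IsReg (g ∘ φ)

variable [RegSpace k X] [RegSpace k Y]

theorem isReg_const (c : k) : IsReg (fun _ : X => c) := Subalgebra.algebraMap_mem _ c

theorem IsReg.add {f g : X → k} (hf : IsReg f) (hg : IsReg g) : IsReg (fun x => f x + g x) :=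
  Subalgebra.add_mem _ hf hg

theorem IsReg.sub {f g : X → k} (hf : IsReg f) (hg : IsReg g) : IsReg (fun x => f x - g x) :=
  Subalgebra.sub_mem _ hf hg

theorem IsReg.neg {f : X → k} (hf : IsReg f) : IsReg (fun x => - f x) :=
  Subalgebra.neg_mem _ hf

theorem IsReg.mul {f g : X → k} (hf : IsReg f) (hg : IsReg g) : IsReg (fun x => f x * g x) :=
  Subalgebra.mul_mem _ hf hg

theorem IsReg.pow {f : X → k} (hf : IsReg f) (n : ℕ) : IsReg (fun x => f x ^ n) :=
  Subalgebra.pow_mem _ hf n

theorem IsReg.sum {ι : Type*} (s : Finset ι) {f : ι → X → k} (hf : ∀ i ∈ s, IsReg (f i)) :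
    IsReg (fun x => ∑ i ∈ s, f i x) := by
  have h : (fun x => ∑ i ∈ s, f i x) = ∑ i ∈ s, f i := by funext x; rw [Finset.sum_apply]
  rw [h]
  exact Subalgebra.sum_mem _ hf

theorem isRegMap_id : IsRegMap k (id : X → X) := fun _ h => h

theorem isRegMap_id' : IsRegMap k (fun x : X => x) := fun _ h => h

theorem IsRegMap.comp {Z : Type*} [RegSpace k Z] {ψ : Y → Z} {φ : X → Y} (hψ : IsRegMap k ψ)
    (hφ : IsRegMap k φ) : IsRegMap k (ψ ∘ φ) := fun g hg => hφ _ (hψ g hg)

theorem IsReg.comp {φ : X → Y} {g : Y → k} (hg : IsReg g) (hφ : IsRegMap k φ) :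
    IsReg (fun x => g (φ x)) := hφ g hg

theorem isRegMap_const (y : Y) : IsRegMap k (fun _ : X => y) := fun g _ => isReg_const (g y)

/-- Regularity of a map can be tested on generators. -/
theorem isRegMap_of_adjoin {s : Set (Y → k)} (hY : (RegSpace.reg : Subalgebra k (Y → k)) = Algebra.adjoin k s)
    {φ : X → Y} (h : ∀ g ∈ s, IsReg (g ∘ φ)) : IsRegMap k φ := by
  intro g hg
  let F : (Y → k) →ₐ[k] (X → k) :=
    { toFun := fun g => g ∘ φ
      map_one' := rfl
      map_mul' := fun _ _ => rfl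
      map_zero' := rfl
      map_add' := fun _ _ => rfl
      commutes' := fun _ => rfl }
  have hle : Algebra.adjoin k s ≤ (RegSpace.reg : Subalgebra k (X → k)).comap F :=
    Algebra.adjoin_le fun g hg => h g hg
  rw [IsReg, hY] at hg
  exact hle hg

section Instances

/-- The line. -/
instance regSelf : RegSpace k k := ⟨Algebra.adjoin k {id}⟩

theorem isReg_id : IsReg (id : k → k) := Algebra.subset_adjoin rfl

theorem isReg_id' : IsReg (fun t : k => t) := isReg_id

theorem isRegMap_iff_isReg {f : X → k} : IsRegMap k f ↔ IsReg f :=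
  ⟨fun h => h id isReg_id, fun h => isRegMap_of_adjoin rfl fun g hg => by
    rw [Set.mem_singleton_iff.mp hg]; exact h⟩

/-- Affine space. -/
instance regPi {σ : Type*} : RegSpace k (σ → k) := ⟨Algebra.adjoin k (Set.range fun i x => x i)⟩

theorem isReg_apply {σ : Type*} (i : σ) : IsReg (fun x : σ → k => x i) :=
  Algebra.subset_adjoin ⟨i, rfl⟩

theorem isRegMap_pi {σ : Type*} {φ : X → σ → k} :
    IsRegMap k φ ↔ ∀ i, IsReg (fun x => φ x i) :=
  ⟨fun h i => h _ (isReg_apply i), fun h => isRegMap_of_adjoin rfl (by rintro g ⟨i, rfl⟩; exact h i)⟩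

theorem isReg_pi_iff {σ : Type*} {f : (σ → k) → k} :
    IsReg f ↔ ∃ P : MvPolynomial σ k, ∀ x, f x = MvPolynomial.eval x P := by
  change f ∈ Algebra.adjoin k _ ↔ _
  rw [Algebra.adjoin_range_eq_range_aeval, AlgHom.mem_range]
  have key : ∀ (P : MvPolynomial σ k) (x : σ → k),
      MvPolynomial.aeval (fun i (x : σ → k) => x i) P x = MvPolynomial.eval x P := by
    intro P x
    induction P using MvPolynomial.induction_on with
    | C a => simp
    | add P Q hP hQ => simp [hP, hQ]
    | mul_X P i hP => simp [hP]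
  exact ⟨fun ⟨P, hP⟩ => ⟨P, fun x => by rw [← hP, key]⟩, fun ⟨P, hP⟩ => ⟨P, funext fun x => by rw [key, hP]⟩⟩

/-- Product. -/
instance regProd : RegSpace k (X × Y) :=
  ⟨Algebra.adjoin k ({f | ∃ g : X → k, IsReg g ∧ f = fun z => g z.1} ∪
    {f | ∃ g : Y → k, IsReg g ∧ f = fun z => g z.2})⟩

theorem isRegMap_fst : IsRegMap k (Prod.fst : X × Y → X) := fun g hg =>
  Algebra.subset_adjoin (Or.inl ⟨g, hg, rfl⟩)

theorem isRegMap_snd : IsRegMap k (Prod.snd : X × Y → Y) := fun g hg =>
  Algebra.subset_adjoin (Or.inr ⟨g, hg, rfl⟩)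

theorem IsRegMap.prod {Z : Type*} [RegSpace k Z] {φ : Z → X} {ψ : Z → Y} (hφ : IsRegMap k φ)
    (hψ : IsRegMap k ψ) : IsRegMap k (fun z => (φ z, ψ z)) :=
  isRegMap_of_adjoin rfl (by
    rintro g (⟨g, hg, rfl⟩ | ⟨g, hg, rfl⟩)
    · exact hφ g hg
    · exact hψ g hg)

theorem isRegMap_swap : IsRegMap k (fun z : X × Y => (z.2, z.1)) :=
  isRegMap_snd.prod isRegMap_fst

end Instances

section Group

/-- An additive group with regular operations. -/
class RegAddGroup (k : Type u) [CommRing k] (G : Type v) [AddCommGroup G] [RegSpace k G] : Prop where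
  reg_add : IsRegMap k fun z : G × G => z.1 + z.2
  reg_neg : IsRegMap k fun z : G => - z

variable {G : Type*} [AddCommGroup G] [RegSpace k G] [RegAddGroup k G]

theorem IsRegMap.add {φ ψ : X → G} (hφ : IsRegMap k φ) (hψ : IsRegMap k ψ) :
    IsRegMap k (fun x => φ x + ψ x) :=
  (RegAddGroup.reg_add (k := k)).comp (hφ.prod hψ)

theorem IsRegMap.neg {φ : X → G} (hφ : IsRegMap k φ) : IsRegMap k (fun x => - φ x) :=
  (RegAddGroup.reg_neg (k := k)).comp hφ

theorem IsRegMap.sub {φ ψ : X → G} (hφ : IsRegMap k φ) (hψ : IsRegMap k ψ) :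
    IsRegMap k (fun x => φ x - ψ x) := by
  simp only [sub_eq_add_neg]
  exact hφ.add hψ.neg

theorem IsRegMap.nsmul {φ : X → G} (hφ : IsRegMap k φ) (n : ℕ) : IsRegMap k (fun x => n • φ x) := by
  induction n with
  | zero => simpa only [zero_smul] using isRegMap_const (k := k) (X := X) (0 : G)
  | succ n ih => simpa only [succ_nsmul] using ih.add hφ

instance regAddGroupSelf : RegAddGroup k k :=
  ⟨isRegMap_iff_isReg.mpr ((isRegMap_fst _ isReg_id).add (isRegMap_snd _ isReg_id)),
    isRegMap_iff_isReg.mpr isReg_id.neg⟩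

end Group

end Groth.Agent.Lib.WittU.Reg
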