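import Groth.Agent.Lib.WittU.LazardComb
import Groth.Agent.Lib.WittU.Reg
import Mathlib.Algebra.Polynomial.Roots
import Mathlib.Algebra.CharP.Lemmas

/-!
# Regular symmetric cocycles on the additive group: Lazard's lemma
-/

namespace Groth.Agent.Lib.WittU.Lazard

open Groth.Agent.Lib.WittU.Reg Groth.Agent.Lib.WittU.LazardComb Polynomial

/-- A symmetric `2`-cocycle. -/
structure IsCocycle {G H : Type*} [AddCommGroup G] [AddCommGroup H] (c : G → G → H) : Prop where
  symm : ∀ x y, c x y = c y x
  assoc : ∀ x y z, c (x + y) z + c x y = c x (y + z) + c y z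

/-- The coboundary of a function. -/
def bd {G H : Type*} [AddCommGroup G] [AddCommGroup H] (h : G → H) (x y : G) : H :=
  h (x + y) - h x - h y

theorem isCocycle_bd {G H : Type*} [AddCommGroup G] [AddCommGroup H] (h : G → H) : IsCocycle (bd h) where
  symm x y := by simp [bd, add_comm x y, sub_right_comm]
  assoc x y z := by simp only [bd, add_assoc x y z]; abel

theorem IsCocycle.right_zero {G H : Type*} [AddCommGroup G] [AddCommGroup H] {c : G → G → H}
    (hc : IsCocycle c) (x : G) : c x 0 = c 0 0 := by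
  have h := hc.assoc x 0 0
  rw [add_zero, add_zero] at h
  exact add_left_cancel h

section

variable {k : Type*} [Field k] [Infinite k]

theorem coeff_eq_zero_of_sum {D : ℕ} {a : ℕ → k} (h : ∀ x : k, ∑ i ∈ Finset.range D, a i * x ^ i = 0)
    {i : ℕ} (hi : i < D) : a i = 0 := by
  have hP : (∑ i ∈ Finset.range D, C (a i) * X ^ i) = 0 :=
    Polynomial.funext fun x => by simp [eval_finsetSum, h x]
  have := congrArg (fun P => P.coeff i) hP
  simpa [hi] using this

omit [Infinite k] in
theorem sum_shift {D : ℕ} {a : ℕ → k} (ha : ∀ i, D ≤ i → a i = 0) (b : ℕ) (x : k) :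
    ∑ i ∈ Finset.range D, a i * (i.choose b : k) * x ^ (i - b) =
      ∑ A ∈ Finset.range D, a (A + b) * ((A + b).choose b : k) * x ^ A := by
  have h1 : ∑ i ∈ Finset.range (b + D), a i * (i.choose b : k) * x ^ (i - b) =
      ∑ i ∈ Finset.range D, a i * (i.choose b : k) * x ^ (i - b) := by
    refine (Finset.sum_subset (Finset.range_mono (Nat.le_add_left D b)) fun i _ hi => ?_).symm
    rw [ha i (by simpa using hi), zero_mul, zero_mul]
  rw [← h1, Finset.sum_range_add, Finset.sum_eq_zero fun i hi => ?_, zero_add]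
  · exact Finset.sum_congr rfl fun A _ => by rw [add_comm b A, Nat.add_sub_cancel]
  · rw [Nat.choose_eq_zero_of_lt (Finset.mem_range.mp hi), Nat.cast_zero, mul_zero, zero_mul]

omit [Infinite k] in
theorem add_pow_range {D i : ℕ} (hi : i < D) (x y : k) :
    (x + y) ^ i = ∑ b ∈ Finset.range D, (i.choose b : k) * x ^ (i - b) * y ^ b := by
  rw [add_comm x y, add_pow]
  refine Eq.trans (Finset.sum_congr rfl fun b _ => by ring) (Finset.sum_subset
    (Finset.range_mono (Nat.succ_le_of_lt hi)) fun b _ hb => ?_)
  rw [Nat.choose_eq_zero_of_lt (by simpa using hb), Nat.cast_zero, zero_mul, zero_mul]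

/-- `f` is given by the coefficients `a`, supported in the box `[0,D) × [0,D)`. -/
structure Rep (D : ℕ) (a : ℕ → ℕ → k) (f : k → k → k) : Prop where
  left : ∀ i j, D ≤ i → a i j = 0
  right : ∀ i j, D ≤ j → a i j = 0
  eq : ∀ x y, f x y = ∑ i ∈ Finset.range D, ∑ j ∈ Finset.range D, a i j * x ^ i * y ^ j

omit [Infinite k] in
theorem Rep.mono {D E : ℕ} {a : ℕ → ℕ → k} {f : k → k → k} (h : Rep D a f) (hDE : D ≤ E) : Rep E a f where
  left i j hi := h.left i j (hDE.trans hi)
  right i j hj := h.right i j (hDE.trans hj)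
  eq x y := by
    rw [h.eq]
    refine Eq.trans (Finset.sum_congr rfl fun i _ => ?_) (Finset.sum_subset (Finset.range_mono hDE) fun i _ hi => ?_)
    · exact Finset.sum_subset (Finset.range_mono hDE) fun j _ hj => by
        rw [h.right i j (by simpa using hj), zero_mul, zero_mul]
    · exact Finset.sum_eq_zero fun j _ => by rw [h.left i j (by simpa using hi), zero_mul, zero_mul]

theorem Rep.coeff_eq_zero {D : ℕ} {a : ℕ → ℕ → k} {f : k → k → k} (h : Rep D a f) (hf : ∀ x y, f x y = 0)
    (i j : ℕ) : a i j = 0 := by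
  by_cases hij : i < D ∧ j < D
  · refine coeff_eq_zero_of_sum (a := fun j => a i j) (D := D) (fun y => ?_) hij.2
    refine coeff_eq_zero_of_sum (a := fun i => ∑ j ∈ Finset.range D, a i j * y ^ j) (fun x => ?_) hij.1
    rw [← hf x y, h.eq]
    exact Finset.sum_congr rfl fun i _ => by
      rw [Finset.sum_mul]; exact Finset.sum_congr rfl fun j _ => by ring
  · by_cases hi : i < D
    · exact h.right i j (by omega)
    · exact h.left i j (by omega)

omit [Infinite k] in
theorem exists_rep {f : k → k → k} (hf : IsReg (fun z : k × k => f z.1 z.2)) :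
    ∃ D a, Rep D a f := by
  have hφ : IsRegMap k (fun v : Fin 2 → k => (v 0, v 1)) :=
    (isRegMap_iff_isReg.mpr (isReg_apply 0)).prod (isRegMap_iff_isReg.mpr (isReg_apply 1))
  obtain ⟨P, hP⟩ := isReg_pi_iff.mp (hf.comp hφ)
  let toF : ℕ × ℕ → (Fin 2 →₀ ℕ) := fun q => Finsupp.equivFunOnFinite.symm ![q.1, q.2]
  have htoF : ∀ s, toF (s 0, s 1) = s := fun s => by
    apply Finsupp.ext; intro t; fin_cases t <;> rfl
  let a : ℕ → ℕ → k := fun i j => P.coeff (toF (i, j))
  obtain ⟨D, hD⟩ : ∃ D, ∀ s ∈ P.support, s 0 < D ∧ s 1 < D :=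
    ⟨P.support.sup (fun s => s 0 + s 1) + 1, fun s hs => by
      have : s 0 + s 1 ≤ P.support.sup (fun s => s 0 + s 1) := Finset.le_sup (f := fun s => s 0 + s 1) hs
      omega⟩
  have hbox : ∀ i j, a i j ≠ 0 → i < D ∧ j < D := fun i j h => by
    simpa [toF] using hD _ (MvPolynomial.mem_support_iff.mpr h)
  refine ⟨D, a, ⟨fun i j hi => by_contra fun h => by have := (hbox i j h).1; omega,
    fun i j hj => by_contra fun h => by have := (hbox i j h).2; omega, fun x y => ?_⟩⟩
  have h := hP ![x, y]
  simp only [Matrix.cons_val_zero, Matrix.cons_val_one] at h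
  rw [h, MvPolynomial.eval_eq', ← Finset.sum_product']
  refine Finset.sum_bij_ne_zero (fun s _ _ => (s 0, s 1)) (fun s hs _ => ?_) (fun s₁ _ _ s₂ _ _ e => ?_)
    (fun q hq hne => ?_) (fun s _ _ => ?_)
  · simpa using hD s hs
  · rw [← htoF s₁, ← htoF s₂, e]
  · have hq0 : P.coeff (toF q) ≠ 0 := fun h0 => hne (by simp [a, h0])
    refine ⟨toF q, MvPolynomial.mem_support_iff.mpr hq0, ?_, by simp [toF]⟩
    intro h0
    apply hne
    rw [← h0]
    simp [a, toF, Fin.prod_univ_two, mul_assoc]
  · change _ = P.coeff (toF (s 0, s 1)) * _ * _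
    rw [htoF, Fin.prod_univ_two]
    simp [mul_assoc]

theorem rel_of_rep {D : ℕ} {a : ℕ → ℕ → k} {f : k → k → k} (hr : Rep D a f) (hf : IsCocycle f)
    (A b c : ℕ) (hA : 0 < A) (hb : 0 < b) (hc : 0 < c) :
    a (A + b) c * ((A + b).choose b : k) = a A (b + c) * ((b + c).choose c : k) := by
  by_cases hcD : c < D
  swap
  · rw [hr.right _ c (by omega), hr.right A (b + c) (by omega), zero_mul, zero_mul]
  by_cases hbD : b < D
  swap
  · rw [hr.left (A + b) c (by omega), hr.right A (b + c) (by omega), zero_mul, zero_mul]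
  by_cases hAD : A < D
  swap
  · rw [hr.left (A + b) c (by omega), hr.left A (b + c) (by omega), zero_mul, zero_mul]
  have hz : ∀ x y : k, (∑ i ∈ Finset.range D, a i c * (x + y) ^ i) -
      (∑ i ∈ Finset.range D, ∑ j ∈ Finset.range D, a i j * x ^ i * (j.choose c : k) * y ^ (j - c)) -
      (∑ i ∈ Finset.range D, a i c * y ^ i) = 0 := by
    intro x y
    have key := coeff_eq_zero_of_sum (D := D) (i := c) (a := fun c => (if c = 0 then f x y else 0) +
      ((∑ i ∈ Finset.range D, a i c * (x + y) ^ i) -
      (∑ i ∈ Finset.range D, ∑ j ∈ Finset.range D, a i j * x ^ i * (j.choose c : k) * y ^ (j - c)) -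
      (∑ i ∈ Finset.range D, a i c * y ^ i))) (fun z => ?_) hcD
    · simpa [hc.ne'] using key
    · have e := hf.assoc x y z
      rw [hr.eq (x + y) z, hr.eq x (y + z), hr.eq y z] at e
      have e1 : ∀ (u : k), ∑ i ∈ Finset.range D, ∑ j ∈ Finset.range D, a i j * u ^ i * z ^ j =
          ∑ c ∈ Finset.range D, (∑ i ∈ Finset.range D, a i c * u ^ i) * z ^ c := fun u => by
        rw [Finset.sum_comm]; simp only [Finset.sum_mul]
      have e2 : ∑ i ∈ Finset.range D, ∑ j ∈ Finset.range D, a i j * x ^ i * (y + z) ^ j =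
          ∑ c ∈ Finset.range D,
            (∑ i ∈ Finset.range D, ∑ j ∈ Finset.range D, a i j * x ^ i * (j.choose c : k) * y ^ (j - c)) * z ^ c := by
        simp only [Finset.sum_mul]
        rw [eq_comm, Finset.sum_comm]
        refine Finset.sum_congr rfl fun i _ => ?_
        rw [Finset.sum_comm]
        refine Finset.sum_congr rfl fun j hj => ?_
        rw [add_pow_range (Finset.mem_range.mp hj) y z, Finset.mul_sum]
        exact Finset.sum_congr rfl fun c _ => by ring
      rw [e1, e2, e1] at e
      simp only [add_mul, sub_mul, Finset.sum_add_distrib, Finset.sum_sub_distrib]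
      rw [Finset.sum_eq_single 0 (fun b _ hb => by simp [hb]) (fun h => absurd (Finset.mem_range.mpr (by omega)) h)]
      simp only [if_pos, pow_zero, mul_one]
      linear_combination e
  have hy : ∀ x : k, (∑ i ∈ Finset.range D, a i c * (i.choose b : k) * x ^ (i - b)) -
      (∑ i ∈ Finset.range D, a i (b + c) * ((b + c).choose c : k) * x ^ i) - a b c = 0 := by
    intro x
    have key := coeff_eq_zero_of_sum (D := D) (i := b) (a := fun b =>
      (∑ i ∈ Finset.range D, a i c * (i.choose b : k) * x ^ (i - b)) -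
      (∑ i ∈ Finset.range D, a i (b + c) * ((b + c).choose c : k) * x ^ i) - a b c) (fun y => ?_) hbD
    · exact key
    · have e := hz x y
      have e1 : ∑ i ∈ Finset.range D, a i c * (x + y) ^ i =
          ∑ b ∈ Finset.range D, (∑ i ∈ Finset.range D, a i c * (i.choose b : k) * x ^ (i - b)) * y ^ b := by
        simp only [Finset.sum_mul]
        rw [eq_comm, Finset.sum_comm]
        refine Finset.sum_congr rfl fun i hi => ?_
        rw [add_pow_range (Finset.mem_range.mp hi) x y, Finset.mul_sum]
        exact Finset.sum_congr rfl fun b _ => by ring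
      have e2 : ∑ i ∈ Finset.range D, ∑ j ∈ Finset.range D, a i j * x ^ i * (j.choose c : k) * y ^ (j - c) =
          ∑ b ∈ Finset.range D, (∑ i ∈ Finset.range D, a i (b + c) * ((b + c).choose c : k) * x ^ i) * y ^ b := by
        simp only [Finset.sum_mul]
        rw [eq_comm, Finset.sum_comm]
        refine Finset.sum_congr rfl fun i _ => ?_
        have h := sum_shift (D := D) (a := fun j => a i j * x ^ i)
          (fun j hj => by simp only [hr.right i j hj, zero_mul]) c y
        rw [h]
        exact Finset.sum_congr rfl fun b _ => by ring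
      rw [e1, e2] at e
      simp only [sub_mul, Finset.sum_sub_distrib]
      exact e
  have key := coeff_eq_zero_of_sum (D := D) (i := A) (a := fun A => a (A + b) c * ((A + b).choose b : k) -
    a A (b + c) * ((b + c).choose c : k) - (if A = 0 then a b c else 0)) (fun x => ?_) hAD
  · simpa [hA.ne', sub_eq_zero] using key
  · have e := hy x
    rw [sum_shift (a := fun i => a i c) (fun i hi => hr.left i c hi) b x] at e
    simp only [sub_mul, Finset.sum_sub_distrib]
    rw [Finset.sum_eq_single (f := fun A => (if A = 0 then a b c else 0) * x ^ A) 0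
      (fun b _ hb => by simp [hb]) (fun h => absurd (Finset.mem_range.mpr (by omega)) h)]
    simp only [if_pos, pow_zero, mul_one]
    exact e

theorem symm_of_rep {D : ℕ} {a : ℕ → ℕ → k} {f : k → k → k} (hr : Rep D a f) (hf : ∀ x y, f x y = f y x)
    (i j : ℕ) : a i j = a j i := by
  have h : Rep D (fun i j => a i j - a j i) (fun _ _ => (0 : k)) :=
    { left := fun i j h => by simp only [hr.left i j h, hr.right j i h, sub_zero]
      right := fun i j h => by simp only [hr.right i j h, hr.left j i h, sub_zero]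
      eq := fun x y => by
        simp only [sub_mul, Finset.sum_sub_distrib]
        rw [← hr.eq x y, hf, hr.eq y x, eq_comm, sub_eq_zero, Finset.sum_comm]
        exact Finset.sum_congr rfl fun i _ => Finset.sum_congr rfl fun j _ => by ring }
  exact sub_eq_zero.mp (h.coeff_eq_zero (fun _ _ => rfl) i j)

theorem isSol_of_rep {D : ℕ} {a : ℕ → ℕ → k} {f : k → k → k} (hr : Rep D a f) (hf : IsCocycle f) (d : ℕ) :
    IsSol k d (fun i => a i (d - i)) where
  symm i _ hid := by
    simp only [Nat.sub_sub_self hid.le]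
    exact symm_of_rep hr hf.symm _ _
  rel A i hA hAi hid := by
    have h := rel_of_rep hr hf A (i - A) (d - i) hA (by omega) (by omega)
    rw [Nat.add_sub_cancel' hAi.le, show i - A + (d - i) = d - A by omega, Nat.choose_symm hAi.le,
      show (d - A).choose (d - i) = (d - A).choose (i - A) from
        Nat.choose_symm_of_eq_add (by omega)] at h
    exact h

theorem boundary_of_rep {D : ℕ} {a : ℕ → ℕ → k} {f : k → k → k} (hr : Rep D a f) (hf : IsCocycle f)
    {i : ℕ} (hi : 0 < i) : a i 0 = 0 := by
  by_cases hiD : i < D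
  swap
  · exact hr.left i 0 (by omega)
  have h := coeff_eq_zero_of_sum (D := D) (i := i) (a := fun i => a i 0 - if i = 0 then f 0 0 else 0)
    (fun x => ?_) hiD
  · simpa [hi.ne'] using h
  · have e := hf.right_zero x
    rw [hr.eq x 0] at e
    simp only [sub_mul, Finset.sum_sub_distrib]
    rw [Finset.sum_eq_single (f := fun i => (if i = 0 then f 0 0 else 0) * x ^ i) 0
      (fun b _ hb => by simp [hb]) (fun h => absurd (Finset.mem_range.mpr (by omega)) h)]
    simp only [if_pos, pow_zero, mul_one]
    rw [← e, sub_eq_zero]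
    refine Finset.sum_congr rfl fun i _ => ?_
    rw [Finset.sum_eq_single 0 (fun j _ hj => by simp [hj]) (fun h => absurd (Finset.mem_range.mpr (by omega)) h)]
    simp

theorem rep_homogeneous {D d : ℕ} {a : ℕ → ℕ → k} {f : k → k → k} (hr : Rep D a f)
    (hf : ∀ t x y, f (t * x) (t * y) = t ^ d * f x y) {i j : ℕ} (hij : i + j ≠ d) : a i j = 0 := by
  obtain ⟨t, ht⟩ : ∃ t : k, t ^ (i + j) ≠ t ^ d := by
    by_contra h
    simp only [not_exists, not_not] at h
    have h' : (X : k[X]) ^ (i + j) = X ^ d := Polynomial.funext fun t => by simpa using h t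
    exact hij (by simpa using congrArg Polynomial.natDegree h')
  have h : Rep D (fun i j => a i j * (t ^ (i + j) - t ^ d)) (fun _ _ => (0 : k)) :=
    { left := fun i j h => by simp only [hr.left i j h, zero_mul]
      right := fun i j h => by simp only [hr.right i j h, zero_mul]
      eq := fun x y => by
        have e := hf t x y
        rw [hr.eq, hr.eq x y] at e
        simp only [mul_sub, sub_mul, Finset.sum_sub_distrib]
        rw [eq_comm, sub_eq_zero]
        refine Eq.trans ?_ (e.trans ?_)
        · exact Finset.sum_congr rfl fun i _ => Finset.sum_congr rfl fun j _ => by rw [pow_add]; ring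
        · simp only [Finset.mul_sum]
          exact Finset.sum_congr rfl fun i _ => Finset.sum_congr rfl fun j _ => by ring }
  exact (mul_eq_zero.mp (h.coeff_eq_zero (fun _ _ => rfl) i j)).resolve_right (sub_ne_zero.mpr ht)

variable {p : ℕ} [hp : Fact p.Prime] [CharP k p]

include hp in
/-- **Lazard's lemma**: given a nonzero homogeneous cocycle in each degree `≥ 2`, every regular symmetric
cocycle is a combination of those and a constant. -/
theorem lazard (g : ℕ → k → k → k)
    (hg : ∀ d, 2 ≤ d → IsCocycle (g d) ∧ IsReg (fun z : k × k => g d z.1 z.2) ∧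
      (∀ t x y, g d (t * x) (t * y) = t ^ d * g d x y) ∧ ∃ x y, g d x y ≠ 0)
    {c : k → k → k} (hc : IsCocycle c) (hreg : IsReg (fun z : k × k => c z.1 z.2)) :
    ∃ (M : ℕ) (l : ℕ → k), ∀ x y, c x y = c 0 0 + ∑ d ∈ Finset.Ico 2 M, l d * g d x y := by
  obtain ⟨D, a, hr⟩ := exists_rep hreg
  have hw : ∀ d, 2 ≤ d → ∃ E w, Rep E w (g d) := fun d hd => exists_rep (hg d hd).2.1
  choose E w hwr using hw
  have hl : ∀ d, ∀ hd : 2 ≤ d, ∃ l : k, ∀ i, 0 < i → i < d → a i (d - i) = l * w d hd i (d - i) := by
    intro d hd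
    refine (isSol_of_rep hr hc d).exists_smul (p := p) (isSol_of_rep (hwr d hd) (hg d hd).1 d) ?_
    by_contra hne
    push Not at hne
    obtain ⟨x, y, hxy⟩ := (hg d hd).2.2.2
    refine hxy ?_
    rw [(hwr d hd).eq]
    refine Finset.sum_eq_zero fun i _ => Finset.sum_eq_zero fun j _ => ?_
    have : w d hd i j = 0 := by
      by_cases hij : i + j = d
      · rcases Nat.eq_zero_or_pos i with rfl | hi
        · rw [symm_of_rep (hwr d hd) (hg d hd).1.symm]
          exact boundary_of_rep (hwr d hd) (hg d hd).1 (by omega)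
        · rcases Nat.eq_zero_or_pos j with rfl | hj
          · exact boundary_of_rep (hwr d hd) (hg d hd).1 hi
          · obtain rfl : j = d - i := by omega
            exact hne i hi (by omega)
      · exact rep_homogeneous (hwr d hd) (hg d hd).2.2.1 hij
    rw [this, zero_mul, zero_mul]
  choose l hl using hl
  let M := 2 * D + 2
  let l' : ℕ → k := fun d => if hd : 2 ≤ d then l d hd else 0
  let w' : ℕ → ℕ → ℕ → k := fun d => if hd : 2 ≤ d then w d hd else 0
  obtain ⟨B, hDB, hEB⟩ : ∃ B, D + 1 ≤ B ∧ ∀ d, ∀ hd : 2 ≤ d, d < M → E d hd ≤ B :=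
    ⟨D + 1 + (Finset.range M).sup (fun d => if hd : 2 ≤ d then E d hd else 0), by omega, fun d hd hdM => by
      have := Finset.le_sup (f := fun d => if hd : 2 ≤ d then E d hd else 0) (Finset.mem_range.mpr hdM)
      simp only [dif_pos hd] at this
      omega⟩
  refine ⟨M, l', fun x y => sub_eq_zero.mp ?_⟩
  let r : ℕ → ℕ → k := fun i j =>
    a i j - ((if i = 0 ∧ j = 0 then c 0 0 else 0) + ∑ d ∈ Finset.Ico 2 M, l' d * w' d i j)
  have hw' : ∀ d ∈ Finset.Ico 2 M, Rep B (w' d) (g d) := fun d hd => by
    obtain ⟨h2, hM⟩ := Finset.mem_Ico.mp hd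
    simp only [w', dif_pos h2]
    exact (hwr d h2).mono (hEB d h2 hM)
  have hrB := hr.mono (show D ≤ B by omega)
  have hrep : ∀ x y, c x y - (c 0 0 + ∑ d ∈ Finset.Ico 2 M, l' d * g d x y) =
      ∑ i ∈ Finset.range B, ∑ j ∈ Finset.range B, r i j * x ^ i * y ^ j := by
    intro x y
    simp only [r, sub_mul, add_mul, Finset.sum_sub_distrib, Finset.sum_add_distrib, Finset.sum_mul]
    rw [← hrB.eq]
    congr 1
    congr 1
    · rw [Finset.sum_eq_single 0 (fun i _ hi => Finset.sum_eq_zero fun j _ => by simp [hi])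
        (fun h => absurd (Finset.mem_range.mpr (by omega)) h),
        Finset.sum_eq_single 0 (fun j _ hj => by simp [hj]) (fun h => absurd (Finset.mem_range.mpr (by omega)) h)]
      simp
    · rw [eq_comm, Finset.sum_congr rfl fun i _ => Finset.sum_comm, Finset.sum_comm]
      refine Finset.sum_congr rfl fun d hd => ?_
      rw [(hw' d hd).eq, Finset.mul_sum]
      refine Finset.sum_congr rfl fun i _ => ?_
      rw [Finset.mul_sum]
      exact Finset.sum_congr rfl fun j _ => by ring
  rw [hrep]
  refine Finset.sum_eq_zero fun i _ => Finset.sum_eq_zero fun j _ => ?_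
  suffices r i j = 0 by rw [this, zero_mul, zero_mul]
  have hoff : ∀ d ∈ Finset.Ico 2 M, i + j ≠ d → w' d i j = 0 := fun d hd hne => by
    obtain ⟨h2, -⟩ := Finset.mem_Ico.mp hd
    simp only [w', dif_pos h2]
    exact rep_homogeneous (hwr d h2) (hg d h2).2.2.1 hne
  have hdiag : ∀ d ∈ Finset.Ico 2 M, i = 0 ∨ j = 0 → w' d i j = 0 := fun d hd hij => by
    by_cases hne : i + j = d
    · obtain ⟨h2, -⟩ := Finset.mem_Ico.mp hd
      simp only [w', dif_pos h2]
      rcases hij with rfl | rfl
      · rw [symm_of_rep (hwr d h2) (hg d h2).1.symm]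
        exact boundary_of_rep (hwr d h2) (hg d h2).1 (by omega)
      · exact boundary_of_rep (hwr d h2) (hg d h2).1 (by omega)
    · exact hoff d hd hne
  simp only [r]
  rcases Nat.eq_zero_or_pos i with rfl | hi
  · rw [Finset.sum_eq_zero fun d hd => by rw [hdiag d hd (Or.inl rfl), mul_zero]]
    rcases Nat.eq_zero_or_pos j with rfl | hj
    · simp only [and_self, if_true, add_zero, sub_eq_zero]
      have h00 := hr.eq 0 0
      rw [h00]
      rcases Nat.eq_zero_or_pos D with hD | hD
      · subst hD
        simp [hr.left 0 0 le_rfl]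
      · rw [Finset.sum_eq_single 0 (fun i _ hi => Finset.sum_eq_zero fun j _ => by simp [hi])
          (fun h => absurd (Finset.mem_range.mpr hD) h),
          Finset.sum_eq_single 0 (fun j _ hj => by simp [hj]) (fun h => absurd (Finset.mem_range.mpr hD) h)]
        simp
    · rw [symm_of_rep hr hc.symm, boundary_of_rep hr hc hj]
      simp [hj.ne']
  rcases Nat.eq_zero_or_pos j with rfl | hj
  · rw [Finset.sum_eq_zero fun d hd => by rw [hdiag d hd (Or.inr rfl), mul_zero], boundary_of_rep hr hc hi]
    simp [hi.ne']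
  rw [if_neg (by omega), zero_add, sub_eq_zero]
  by_cases hM : i + j < M
  · have hmem : i + j ∈ Finset.Ico 2 M := Finset.mem_Ico.mpr ⟨by omega, hM⟩
    rw [Finset.sum_eq_single (i + j) (fun d hd hne => by rw [hoff d hd (Ne.symm hne), mul_zero])
      (fun h => absurd hmem h)]
    simp only [l', w', dif_pos (show 2 ≤ i + j by omega)]
    have h := hl (i + j) (by omega) i hi (by omega)
    rwa [show i + j - i = j by omega] at h
  · rw [Finset.sum_eq_zero fun d hd => by
      rw [hoff d hd (by have := (Finset.mem_Ico.mp hd).2; omega), mul_zero]]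
    by_cases hiD : i < D
    · exact hr.right i j (by omega)
    · exact hr.left i j (by omega)

end

end Groth.Agent.Lib.WittU.Lazard
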