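import Mathlib.Data.Nat.Choose.Lucas
import Mathlib.Data.Nat.Factorization.Basic
import Mathlib.Algebra.CharP.Basic
import Mathlib.Algebra.Field.Defs
import Mathlib.Tactic.Ring
import Mathlib.Tactic.LinearCombination

/-!
# The combinatorial core of Lazard's lemma on symmetric cocycles in characteristic `p`
-/

namespace Groth.Agent.Lib.WittU.LazardComb

variable {p : ℕ} [hp : Fact p.Prime] {k : Type*} [Field k] [CharP k p]

theorem cast_choose_mul (e n a : ℕ) :
    (((p ^ e * n).choose (p ^ e * a) : ℕ) : k) = ((n.choose a : ℕ) : k) :=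
  (CharP.natCast_eq_natCast k p).mpr Choose.choose_pow_mul_pow_mul_modEq_choose_nat

theorem cast_choose_succ_digit (w : ℕ) :
    (((p * w + (p - 1)).choose (p - 1) : ℕ) : k) = 1 := by
  have hlt : p - 1 < p := by have := hp.out.pos; omega
  have h := Choose.choose_modEq_choose_mod_mul_choose_div_nat (p := p) (n := p * w + (p - 1)) (k := p - 1)
  rw [(CharP.natCast_eq_natCast k p).mpr h]
  rw [Nat.mul_add_mod, Nat.mod_eq_of_lt hlt, Nat.div_eq_of_lt hlt, Nat.choose_self, Nat.choose_zero_right]
  simp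

/-- A symmetric solution of the degree `d` cocycle equations. -/
structure IsSol (k : Type*) [Field k] (d : ℕ) (v : ℕ → k) : Prop where
  symm : ∀ i, 0 < i → i < d → v i = v (d - i)
  rel : ∀ A i, 0 < A → A < i → i < d →
    v i * ((i.choose A : ℕ) : k) = v A * (((d - A).choose (i - A) : ℕ) : k)

variable (p) in
/-- The critical index in degree `d`. -/
noncomputable def crit (d : ℕ) : ℕ :=
  if d = p ^ d.factorization p then p ^ (d.factorization p - 1) else p ^ d.factorization p

omit hp in
theorem IsSol.smul_sub {d : ℕ} {v w : ℕ → k} (hv : IsSol k d v) (hw : IsSol k d w) (c : k) :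
    IsSol k d (fun i => v i - c * w i) where
  symm i h1 h2 := by rw [hv.symm i h1 h2, hw.symm i h1 h2]
  rel A i h1 h2 h3 := by
    have e1 := hv.rel A i h1 h2 h3
    have e2 := hw.rel A i h1 h2 h3
    linear_combination e1 - c * e2

theorem IsSol.eq_zero_of_primePow {d : ℕ} {v : ℕ → k} (hv : IsSol k d v)
    (h : ∀ e, p ^ e < d → v (p ^ e) = 0) {i : ℕ} (hi0 : 0 < i) (hid : i < d) : v i = 0 := by
  obtain ⟨e, u, hu, rfl⟩ := Nat.exists_eq_pow_mul_and_not_dvd hi0.ne' p hp.out.ne_one
  rcases Nat.lt_or_ge u 2 with hu2 | hu2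
  · interval_cases u
    · simp at hi0
    · rw [Nat.mul_one] at hid ⊢; exact h e hid
  · have hlt : p ^ e < p ^ e * u := by
      calc p ^ e = p ^ e * 1 := (Nat.mul_one _).symm
        _ < p ^ e * u := Nat.mul_lt_mul_of_pos_left (by omega) (pow_pos hp.out.pos e)
    have hr := hv.rel (p ^ e) (p ^ e * u) (pow_pos hp.out.pos e) hlt hid
    rw [h e (hlt.trans hid), zero_mul] at hr
    have hc : (((p ^ e * u).choose (p ^ e) : ℕ) : k) = (u : k) := by
      have := cast_choose_mul (p := p) (k := k) e u 1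
      simpa using this
    rw [hc] at hr
    exact (mul_eq_zero.mp hr).resolve_right fun hu0 => hu ((CharP.cast_eq_zero_iff k p u).mp hu0)

/-- A solution vanishing at the critical index vanishes. -/
theorem IsSol.eq_zero {d : ℕ} {v : ℕ → k} (hv : IsSol k d v) (hcrit : v (crit p d) = 0) {i : ℕ}
    (hi0 : 0 < i) (hid : i < d) : v i = 0 := by
  have hd0 : d ≠ 0 := by omega
  refine hv.eq_zero_of_primePow (p := p) (fun e he => ?_) hi0 hid
  clear hi0 hid i
  obtain ⟨h, m, hm, rfl⟩ := Nat.exists_eq_pow_mul_and_not_dvd hd0 p hp.out.ne_one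
  have hfac : (p ^ h * m).factorization p = h := by
    rw [Nat.factorization_mul (pow_pos hp.out.pos h).ne' (by rintro rfl; simp at hm)]
    simp [hp.out.factorization_self, Nat.factorization_eq_zero_of_not_dvd hm]
  have hm0 : 0 < m := Nat.pos_of_ne_zero (by rintro rfl; simp at hm)
  simp only [crit, hfac] at hcrit
  have hpos : 0 < p ^ e := pow_pos hp.out.pos e
  rcases lt_trichotomy e h with heh | heh | heh
  · obtain ⟨j, rfl⟩ : ∃ j, h = e + 1 + j := ⟨h - e - 1, by omega⟩
    by_cases hone : p ^ j * m = 1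
    · rw [mul_eq_one] at hone
      obtain ⟨hj, rfl⟩ := hone
      have : j = 0 := by
        by_contra hj0
        have : 1 < p ^ j := Nat.one_lt_pow hj0 hp.out.one_lt
        omega
      subst this
      simpa using hcrit
    · rw [hv.symm _ hpos he]
      obtain ⟨w, hw⟩ : ∃ w, p ^ j * m = w + 1 :=
        ⟨p ^ j * m - 1, by have : 0 < p ^ j * m := Nat.mul_pos (pow_pos hp.out.pos j) hm0; omega⟩
      have hwpos : 0 < w := by omega
      have hd : p ^ (e + 1 + j) * m = p ^ e * (p * w + p) := by
        rw [pow_add, mul_assoc, hw, pow_succ]; ring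
      have hp1 : p ^ e * (p * w + p) - p ^ e = p ^ e * (p * w + (p - 1)) := by
        obtain ⟨q, hq⟩ : ∃ q, p = q + 1 := ⟨p - 1, by have := hp.out.pos; omega⟩
        rw [show p * w + p = (p * w + (p - 1)) + 1 by omega, Nat.mul_add, Nat.mul_one, Nat.add_sub_cancel]
      rw [hd] at hv ⊢
      rw [hp1]
      have hA : 0 < p ^ e * (p * w) := Nat.mul_pos hpos (Nat.mul_pos hp.out.pos hwpos)
      have hAi : p ^ e * (p * w) < p ^ e * (p * w + (p - 1)) :=
        Nat.mul_lt_mul_of_pos_left (by have := hp.out.one_lt; omega) hpos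
      have hid' : p ^ e * (p * w + (p - 1)) < p ^ e * (p * w + p) :=
        Nat.mul_lt_mul_of_pos_left (by have := hp.out.pos; omega) hpos
      have hr := hv.rel _ _ hA hAi hid'
      rw [← Nat.mul_sub, ← Nat.mul_sub, Nat.add_sub_cancel_left, Nat.add_sub_cancel_left,
        cast_choose_mul, cast_choose_mul] at hr
      have hl : (((p * w + (p - 1)).choose (p * w) : ℕ) : k) = 1 := by
        rw [Nat.choose_symm_add]; exact cast_choose_succ_digit w
      have hz : ((p.choose (p - 1) : ℕ) : k) = 0 := by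
        rw [Nat.choose_symm (Nat.one_le_iff_ne_zero.mpr hp.out.ne_zero), Nat.choose_one_right]
        exact CharP.cast_eq_zero k p
      rwa [hl, hz, mul_one, mul_zero] at hr
  · subst heh
    have : m ≠ 1 := by rintro rfl; simp at he
    rwa [if_neg] at hcrit
    intro h'
    exact this ((Nat.mul_eq_left hpos.ne').mp h')
  · have hm1 : m ≠ 1 := by
      rintro rfl
      rw [Nat.mul_one] at he
      exact absurd he (not_lt.mpr (Nat.pow_le_pow_right hp.out.pos heh.le))
    have hq : v (p ^ h) = 0 := by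
      rwa [if_neg (fun h' => hm1 ((Nat.mul_eq_left (pow_pos hp.out.pos h).ne').mp h'))] at hcrit
    rw [hv.symm _ hpos he]
    obtain ⟨j, rfl⟩ : ∃ j, e = h + (j + 1) := ⟨e - h - 1, by omega⟩
    have hlt : p ^ (j + 1) < m := by
      rw [pow_add] at he
      exact Nat.lt_of_mul_lt_mul_left he
    obtain ⟨u, rfl⟩ : ∃ u, m = p ^ (j + 1) + u := ⟨m - p ^ (j + 1), by omega⟩
    have hu : ¬ p ∣ u := fun hu => hm (Nat.dvd_add (dvd_pow_self p (Nat.succ_ne_zero j)) hu)
    have hd : p ^ h * (p ^ (j + 1) + u) - p ^ (h + (j + 1)) = p ^ h * u := by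
      rw [Nat.mul_add, ← pow_add, Nat.add_sub_cancel_left]
    rw [hd]
    rcases Nat.lt_or_ge u 2 with hu2 | hu2
    · interval_cases u
      · simp at hu
      · rwa [Nat.mul_one]
    · have hlt' : p ^ h < p ^ h * u := by
        calc p ^ h = p ^ h * 1 := (Nat.mul_one _).symm
          _ < p ^ h * u := Nat.mul_lt_mul_of_pos_left (by omega) (pow_pos hp.out.pos h)
      have hr := hv.rel (p ^ h) (p ^ h * u) (pow_pos hp.out.pos h) hlt'
        (Nat.mul_lt_mul_of_pos_left (by have := pow_pos hp.out.pos (j + 1); omega) (pow_pos hp.out.pos h))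
      rw [hq, zero_mul] at hr
      have hc : (((p ^ h * u).choose (p ^ h) : ℕ) : k) = (u : k) := by
        have := cast_choose_mul (p := p) (k := k) h u 1
        simpa using this
      rw [hc] at hr
      exact (mul_eq_zero.mp hr).resolve_right fun hu0 => hu ((CharP.cast_eq_zero_iff k p u).mp hu0)

include hp in
/-- The solutions in each degree form at most a line. -/
theorem IsSol.exists_smul {d : ℕ} {v w : ℕ → k} (hv : IsSol k d v) (hw : IsSol k d w)
    (hne : ∃ i, 0 < i ∧ i < d ∧ w i ≠ 0) :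
    ∃ c : k, ∀ i, 0 < i → i < d → v i = c * w i := by
  have hwc : w (crit p d) ≠ 0 := fun h => by
    obtain ⟨i, h1, h2, h3⟩ := hne
    exact h3 (hw.eq_zero (p := p) h h1 h2)
  refine ⟨v (crit p d) / w (crit p d), fun i h1 h2 => sub_eq_zero.mp ?_⟩
  exact (hv.smul_sub hw _).eq_zero (p := p) (by rw [div_mul_cancel₀ _ hwc, sub_self]) h1 h2

end Groth.Agent.Lib.WittU.LazardComb
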