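import Groth.Agent.Lib.WittU.Pts
import Groth.Prelude.Def_WittGrp

/-!
# Points and functions on products; homomorphisms are detected on points
-/

universe u

open CategoryTheory CategoryTheory.Limits AlgebraicGeometry MonoidalCategory CartesianMonoidalCategory MonObj

namespace Groth.Agent.Lib.WittU.PtsProd

open Groth.Agent.Lib.WittU.Reg Groth.Agent.Lib.WittU.Pts

variable {k : Type u} [Field k] {X Y Z : Over (base k)}

theorem isAffine_tensor [IsAffine X.left] [IsAffine Y.left] : IsAffine (X ⊗ Y).left :=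
  inferInstanceAs (IsAffine (pullback X.hom Y.hom))

/-- The functions on a product of affine schemes are sums of products. -/
theorem exists_sum [IsAffine X.left] [IsAffine Y.left] (f : Γ((X ⊗ Y).left, ⊤)) :
    ∃ (J : Type) (s : Finset J) (a : J → Γ(X.left, ⊤)) (b : J → Γ(Y.left, ⊤)),
      f = ∑ i ∈ s, (fst X Y).left.appTop (a i) * (snd X Y).left.appTop (b i) := by
  have h : IsPushout X.hom.appTop Y.hom.appTop (fst X Y).left.appTop (snd X Y).left.appTop :=
    isPushout_appTop_of_isPullback (IsPullback.of_hasPullback X.hom Y.hom)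
  let P : Set Γ((X ⊗ Y).left, ⊤) := { g | ∃ (J : Type) (s : Finset J) (a : J → Γ(X.left, ⊤))
    (b : J → Γ(Y.left, ⊤)), g = ∑ i ∈ s, (fst X Y).left.appTop (a i) * (snd X Y).left.appTop (b i) }
  have hone : ∀ a b, (fst X Y).left.appTop a * (snd X Y).left.appTop b ∈ P := fun a b =>
    ⟨Unit, {()}, fun _ => a, fun _ => b, by simp⟩
  have hadd : ∀ {g g'}, g ∈ P → g' ∈ P → g + g' ∈ P := by
    rintro _ _ ⟨J, s, a, b, rfl⟩ ⟨J', s', a', b', rfl⟩
    exact ⟨J ⊕ J', s.disjSum s', Sum.elim a a', Sum.elim b b', by
      rw [Finset.sum_disjSum]; rfl⟩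
  have hzero : (0 : Γ((X ⊗ Y).left, ⊤)) ∈ P := by
    have := hone 0 0
    simpa using this
  let S : Subring Γ((X ⊗ Y).left, ⊤) :=
    { carrier := P
      zero_mem' := hzero
      add_mem' := hadd
      one_mem' := by have := hone 1 1; simpa using this
      neg_mem' := by
        rintro _ ⟨J, s, a, b, rfl⟩
        exact ⟨J, s, fun i => - a i, b, by simp⟩
      mul_mem' := by
        rintro _ _ ⟨J, s, a, b, rfl⟩ ⟨J', s', a', b', rfl⟩
        refine ⟨J × J', s ×ˢ s', fun i => a i.1 * a' i.2, fun i => b i.1 * b' i.2, ?_⟩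
        rw [Finset.sum_mul_sum, Finset.sum_product]
        refine Finset.sum_congr rfl fun i _ => Finset.sum_congr rfl fun j _ => ?_
        simp only [map_mul]
        ring }
  have h1 : ∀ a, (fst X Y).left.appTop a ∈ S := fun a => by
    have := hone a 1; rw [map_one, _root_.mul_one] at this; exact this
  have h2 : ∀ b, (snd X Y).left.appTop b ∈ S := fun b => by
    have := hone 1 b; rw [map_one, _root_.one_mul] at this; exact this
  let i1 : Γ(X.left, ⊤) ⟶ CommRingCat.of S := CommRingCat.ofHom ((fst X Y).left.appTop.hom.codRestrict S h1)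
  let i2 : Γ(Y.left, ⊤) ⟶ CommRingCat.of S := CommRingCat.ofHom ((snd X Y).left.appTop.hom.codRestrict S h2)
  let incl : CommRingCat.of S ⟶ Γ((X ⊗ Y).left, ⊤) := CommRingCat.ofHom S.subtype
  have hw : X.hom.appTop ≫ i1 = Y.hom.appTop ≫ i2 := by
    ext c
    skip
    exact congr($(h.w).hom c)
  have hid : h.desc i1 i2 hw ≫ incl = 𝟙 _ := by
    apply h.hom_ext
    · rw [IsPushout.inl_desc_assoc, Category.comp_id]; rfl
    · rw [IsPushout.inr_desc_assoc, Category.comp_id]; rfl
  have hf : f = incl (h.desc i1 i2 hw f) := (congr($(hid).hom f)).symm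
  exact hf ▸ (h.desc i1 i2 hw f).2

/-- Pairing of points. -/
noncomputable def pair (x : pt k ⟶ X) (y : pt k ⟶ Y) : pt k ⟶ X ⊗ Y := lift x y

theorem ev_pair_fst (x : pt k ⟶ X) (y : pt k ⟶ Y) (a : Γ(X.left, ⊤)) :
    ev (lift x y) ((fst X Y).left.appTop a) = ev x a := by
  rw [← ev_comp, lift_fst]

theorem ev_pair_snd (x : pt k ⟶ X) (y : pt k ⟶ Y) (b : Γ(Y.left, ⊤)) :
    ev (lift x y) ((snd X Y).left.appTop b) = ev y b := by
  rw [← ev_comp, lift_snd]

/-- The bijection between points of a product and pairs is regular. -/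
theorem isRegMap_lift [IsAffine X.left] [IsAffine Y.left] :
    IsRegMap k (fun z : (pt k ⟶ X) × (pt k ⟶ Y) => lift z.1 z.2) := by
  intro g hg
  obtain ⟨f, hf⟩ := isReg_pts.mp hg
  obtain ⟨J, s, a, b, rfl⟩ := exists_sum f
  have : IsReg (fun z : (pt k ⟶ X) × (pt k ⟶ Y) => ∑ i ∈ s, ev z.1 (a i) * ev z.2 (b i)) :=
    IsReg.sum s fun i _ => ((isReg_ev (a i)).comp isRegMap_fst).mul ((isReg_ev (b i)).comp isRegMap_snd)
  convert this using 1
  funext z
  simp only [Function.comp, ← hf, map_sum, map_mul, ev_pair_fst, ev_pair_snd]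

variable [IsAlgClosed k]

/-- A function on a product of reduced affine schemes is determined by values on pairs of points. -/
theorem prod_eq_of_ev_eq [IsAffine X.left] [LocallyOfFiniteType X.hom] [IsReduced X.left]
    [IsAffine Y.left] [LocallyOfFiniteType Y.hom] [IsReduced Y.left]
    {f g : Γ((X ⊗ Y).left, ⊤)} (h : ∀ (x : pt k ⟶ X) (y : pt k ⟶ Y), ev (lift x y) f = ev (lift x y) g) :
    f = g := by
  rw [← sub_eq_zero]
  obtain ⟨J, s, a, b, hab⟩ := exists_sum (f - g)
  let : Algebra k Γ(Y.left, ⊤) := (scal Y).toAlgebra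
  let B := Module.Free.chooseBasis k Γ(Y.left, ⊤)
  classical
  let t := s.biUnion fun i => (B.repr (b i)).support
  let A : Module.Free.ChooseBasisIndex k Γ(Y.left, ⊤) → Γ(X.left, ⊤) :=
    fun j => ∑ i ∈ s, scal X (B.repr (b i) j) * a i
  have hzero : ∀ j ∈ t, A j = 0 := by
    intro j hj
    refine eq_of_ev_eq fun x => ?_
    rw [map_zero]
    have hlin : ∑ j ∈ t, ev x (A j) • B j = 0 := by
      refine eq_of_ev_eq fun y => ?_
      have hb : ∀ i ∈ s, ev y (b i) = ∑ j ∈ t, B.repr (b i) j * ev y (B j) := by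
        intro i hi
        conv_lhs => rw [← B.linearCombination_repr (b i)]
        rw [Finsupp.linearCombination_apply, Finsupp.sum_of_support_subset _
          (Finset.subset_biUnion_of_mem (fun i => (B.repr (b i)).support) hi) _ (by simp), map_sum]
        refine Finset.sum_congr rfl fun j _ => ?_
        rw [Algebra.smul_def, map_mul]
        change ev y (scal Y _) * _ = _
        rw [ev_scal]
      calc ev y (∑ j ∈ t, ev x (A j) • B j) = ∑ j ∈ t, ev x (A j) * ev y (B j) := by
              rw [map_sum]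
              refine Finset.sum_congr rfl fun j _ => ?_
              rw [Algebra.smul_def, map_mul]
              change ev y (scal Y _) * _ = _
              rw [ev_scal]
        _ = ∑ i ∈ s, ev x (a i) * ev y (b i) := by
              simp only [A, map_sum, map_mul, ev_scal, Finset.sum_mul]
              rw [Finset.sum_comm]
              refine Finset.sum_congr rfl fun i hi => ?_
              rw [hb i hi, Finset.mul_sum]
              exact Finset.sum_congr rfl fun j _ => by ring
        _ = ev (lift x y) (f - g) := by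
              simp only [hab, map_sum, map_mul, ev_pair_fst, ev_pair_snd]
        _ = ev y 0 := by rw [map_sub, h, sub_self, map_zero]
    exact linearIndependent_iff'.mp B.linearIndependent t _ hlin j hj
  rw [hab]
  have hb : ∀ i ∈ s, (snd X Y).left.appTop (b i) =
      ∑ j ∈ t, scal (X ⊗ Y) (B.repr (b i) j) * (snd X Y).left.appTop (B j) := by
    intro i hi
    conv_lhs => rw [← B.linearCombination_repr (b i)]
    rw [Finsupp.linearCombination_apply, Finsupp.sum_of_support_subset _
      (Finset.subset_biUnion_of_mem (fun i => (B.repr (b i)).support) hi) _ (by simp), map_sum]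
    refine Finset.sum_congr rfl fun j _ => ?_
    rw [Algebra.smul_def, map_mul]
    change (snd X Y).left.appTop (scal Y _) * _ = _
    rw [appTop_scal]
  calc _ = ∑ j ∈ t, (fst X Y).left.appTop (A j) * (snd X Y).left.appTop (B j) := by
          simp only [A, map_sum, map_mul, appTop_scal, Finset.sum_mul]
          rw [Finset.sum_comm]
          refine Finset.sum_congr rfl fun i hi => ?_
          rw [hb i hi, Finset.mul_sum]
          exact Finset.sum_congr rfl fun j _ => by ring
    _ = 0 := Finset.sum_eq_zero fun j hj => by rw [hzero j hj, map_zero, zero_mul]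

/-- Morphisms out of a product of reduced affine schemes are determined on pairs of points. -/
theorem prod_hom_ext [IsAffine X.left] [LocallyOfFiniteType X.hom] [IsReduced X.left]
    [IsAffine Y.left] [LocallyOfFiniteType Y.hom] [IsReduced Y.left] [IsAffine Z.left]
    {u v : X ⊗ Y ⟶ Z} (h : ∀ (x : pt k ⟶ X) (y : pt k ⟶ Y), lift x y ≫ u = lift x y ≫ v) : u = v := by
  refine Over.OverMorphism.ext (ext_of_isAffine ?_)
  ext g
  exact prod_eq_of_ev_eq fun x y => by rw [← ev_comp, ← ev_comp, h]

/-- A morphism multiplicative on `k`-points is a homomorphism. -/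
theorem isMonHom_of_pts [IsAffine X.left] [LocallyOfFiniteType X.hom] [IsReduced X.left] [GrpObj X]
    [IsAffine Y.left] [GrpObj Y] (f : X ⟶ Y) (h : ∀ x y : pt k ⟶ X, (x * y) ≫ f = (x ≫ f) * (y ≫ f)) :
    IsMonHom f := by
  have h1 : (1 : pt k ⟶ X) ≫ f = 1 := by
    have := h 1 1
    rw [_root_.one_mul] at this
    exact left_eq_mul.mp this
  refine WittGrp.isMonHom_of_comp_mul f h1 fun T x y => ?_
  have key : μ[X] ≫ f = (fst X X ≫ f) * (snd X X ≫ f) := by
    refine prod_hom_ext fun a b => ?_
    rw [← Category.assoc, ← Hom.mul_def, h, MonObj.comp_mul, lift_fst_assoc, lift_snd_assoc]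
  rw [Hom.mul_def, Category.assoc, key, MonObj.comp_mul, lift_fst_assoc, lift_snd_assoc]

end Groth.Agent.Lib.WittU.PtsProd
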