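import Groth.Prelude.Def_WittGrp
import Groth.Agent.Lib.WittU.Reg
import Mathlib.RingTheory.WittVector.Teichmuller

/-!
# Truncated Witt vectors over `k` as a space with regular functions
-/

universe u v

namespace Groth.Agent.Lib.WittU.WittReg

open Groth.Agent.Lib.WittU.Reg WittGrp

variable {p : ℕ} [hp : Fact p.Prime] {k : Type u} [CommRing k] {n m : ℕ} {X : Type v} [RegSpace k X]

instance regWitt : RegSpace k (TruncatedWittVector p n k) :=
  ⟨Algebra.adjoin k (Set.range fun i x => TruncatedWittVector.coeff (p := p) i x)⟩

omit hp in
theorem isReg_coeff (i : Fin n) : IsReg (fun x : TruncatedWittVector p n k => x.coeff i) :=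
  Algebra.subset_adjoin ⟨i, rfl⟩

omit hp in
theorem isRegMap_witt {φ : X → TruncatedWittVector p n k} :
    IsRegMap k φ ↔ ∀ i, IsReg (fun x => (φ x).coeff i) :=
  ⟨fun h i => h _ (isReg_coeff i), fun h => isRegMap_of_adjoin rfl (by rintro g ⟨i, rfl⟩; exact h i)⟩

omit hp in
theorem isRegMap_coeffs : IsRegMap k (fun x : TruncatedWittVector p n k => fun i => x.coeff i) :=
  isRegMap_pi.mpr isReg_coeff

omit hp in
theorem isRegMap_mk : IsRegMap k (fun v : Fin n → k => TruncatedWittVector.mk p v) :=
  isRegMap_witt.mpr fun i => by simpa only [TruncatedWittVector.coeff_mk] using isReg_apply i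

omit hp in
theorem isReg_witt_iff {f : TruncatedWittVector p n k → k} :
    IsReg f ↔ ∃ P : MvPolynomial (Fin n) k, ∀ x, f x = MvPolynomial.eval (fun i => x.coeff i) P := by
  constructor
  · intro h
    obtain ⟨P, hP⟩ := isReg_pi_iff.mp (h.comp isRegMap_mk)
    exact ⟨P, fun x => by have := hP fun i => x.coeff i; rwa [TruncatedWittVector.mk_coeff] at this⟩
  · rintro ⟨P, hP⟩
    have : IsReg (fun v : Fin n → k => MvPolynomial.eval v P) := isReg_pi_iff.mpr ⟨P, fun _ => rfl⟩
    have := this.comp (isRegMap_coeffs (p := p))
    exact (funext hP : f = _) ▸ this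

/-- The ring of regular functions. -/
abbrev regRing (k : Type u) [CommRing k] (X : Type v) [RegSpace k X] : Subalgebra k (X → k) := RegSpace.reg

/-- Evaluation of regular functions at a point. -/
def evalAt (x : X) : regRing k X →+* k :=
  (Pi.evalRingHom (fun _ : X => k) x).comp (regRing k X).val.toRingHom

/-- The family of Witt vectors given by a Witt vector with regular functions as components. -/
noncomputable def family (v : TruncatedWittVector p n (regRing k X)) (x : X) : TruncatedWittVector p n k :=
  truncMap p n (evalAt x) v

theorem isRegMap_family (v : TruncatedWittVector p n (regRing k X)) : IsRegMap k (family v) :=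
  isRegMap_witt.mpr fun i => by
    have h : (fun x => (family v x).coeff i) = ((v.coeff i : regRing k X) : X → k) := by
      funext x; rw [family, coeff_truncMap]; rfl
    rw [h]; exact (v.coeff i).2

theorem exists_family {φ : X → TruncatedWittVector p n k} (h : IsRegMap k φ) :
    ∃ v : TruncatedWittVector p n (regRing k X), φ = family v :=
  ⟨TruncatedWittVector.mk p fun i => ⟨_, isRegMap_witt.mp h i⟩,
    funext fun x => TruncatedWittVector.ext fun i => by
      rw [family, coeff_truncMap, TruncatedWittVector.coeff_mk]; rfl⟩

theorem family_mul_reg {φ ψ : X → TruncatedWittVector p n k} (hφ : IsRegMap k φ) (hψ : IsRegMap k ψ) :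
    IsRegMap k (fun x => φ x * ψ x) := by
  obtain ⟨a, rfl⟩ := exists_family hφ
  obtain ⟨b, rfl⟩ := exists_family hψ
  have h : (fun x => family a x * family b x) = family (a * b) := funext fun x => (map_mul _ _ _).symm
  rw [h]; exact isRegMap_family _

instance regAddGroupWitt : RegAddGroup k (TruncatedWittVector p n k) where
  reg_add := by
    obtain ⟨a, ha⟩ := exists_family (p := p) (n := n) (k := k)
      (φ := (Prod.fst : TruncatedWittVector p n k × TruncatedWittVector p n k → _)) isRegMap_fst
    obtain ⟨b, hb⟩ := exists_family (p := p) (n := n) (k := k)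
      (φ := (Prod.snd : TruncatedWittVector p n k × TruncatedWittVector p n k → _)) isRegMap_snd
    have h : (fun z : TruncatedWittVector p n k × TruncatedWittVector p n k => z.1 + z.2) = family (a + b) := by
      funext z
      rw [family, map_add]
      exact congrArg₂ (· + ·) (congrFun ha z) (congrFun hb z)
    rw [h]; exact isRegMap_family _
  reg_neg := by
    obtain ⟨a, ha⟩ := exists_family (p := p) (n := n) (k := k)
      (φ := (id : TruncatedWittVector p n k → _)) isRegMap_id
    have h : (fun z : TruncatedWittVector p n k => -z) = family (-a) := by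
      funext z
      rw [family, map_neg]
      exact congrArg (- ·) (congrFun ha z)
    rw [h]; exact isRegMap_family _

theorem isRegMap_truncate (h : n ≤ m) :
    IsRegMap k (fun x : TruncatedWittVector p m k => TruncatedWittVector.truncate h x) :=
  isRegMap_witt.mpr fun i => by
    simp only [TruncatedWittVector.coeff_truncate]
    exact isReg_coeff _

theorem isRegMap_shift (h : n ≤ m) :
    IsRegMap k (fun x : TruncatedWittVector p n k => shift p h x) :=
  isRegMap_witt.mpr fun i => by
    simp only [coeff_shift]
    split_ifs
    · exact isReg_coeff _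
    · exact isReg_const 0

theorem isRegMap_frob (hk : (p : k) = 0) :
    IsRegMap k (fun x : TruncatedWittVector p n k => frob p n hk x) :=
  isRegMap_witt.mpr fun i => by
    simp only [coeff_frob]
    exact (isReg_coeff i).pow p

variable (p n) in
/-- Teichmüller representative, truncated. -/
noncomputable def teich (t : k) : TruncatedWittVector p n k :=
  WittVector.truncate n (WittVector.teichmuller p t)

theorem teich_mul (s t : k) : teich p n (s * t) = teich p n s * teich p n t := by
  rw [teich, map_mul, map_mul]; rfl

theorem coeff_teich_zero (t : k) : (teich p (n + 1) t).coeff 0 = t := by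
  rw [teich, WittVector.coeff_truncate]
  exact WittVector.teichmuller_coeff_zero p t

theorem coeff_teich_pos (t : k) (i : Fin n) (hi : 0 < (i : ℕ)) : (teich p n t).coeff i = 0 := by
  rw [teich, WittVector.coeff_truncate]
  exact WittVector.teichmuller_coeff_pos p t _ hi

theorem isRegMap_teich : IsRegMap k (teich p n : k → TruncatedWittVector p n k) :=
  isRegMap_witt.mpr fun i => by
    by_cases hi : 0 < (i : ℕ)
    · simp only [coeff_teich_pos _ i hi]
      exact isReg_const 0
    · obtain ⟨j, rfl⟩ : ∃ j, n = j + 1 := ⟨n - 1, by omega⟩
      obtain rfl : i = 0 := Fin.ext (by simpa using hi)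
      simp only [coeff_teich_zero]
      exact isReg_id

theorem isRegMap_teich_mul (a : k) :
    IsRegMap k (fun x : TruncatedWittVector p n k => teich p n a * x) :=
  family_mul_reg (isRegMap_const _) isRegMap_id'

end Groth.Agent.Lib.WittU.WittReg
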