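import Groth.Agent.Lib.WittU.Geom
import Groth.Agent.Lib.WittU.PtsProd
import Groth.Agent.Lib.WittU.WittReg

/-!
# `k`-points of Witt groups: morphisms are regular maps
-/

universe u

open CategoryTheory CategoryTheory.Limits AlgebraicGeometry MonoidalCategory CartesianMonoidalCategory MonObj

namespace Groth.Agent.Lib.WittU.WPts

open WittGrp Groth.Agent.Lib.WittU.Basic Groth.Agent.Lib.WittU.Reg Groth.Agent.Lib.WittU.Pts
  Groth.Agent.Lib.WittU.PtsProd Groth.Agent.Lib.WittU.WittReg

variable {p : ℕ} [hp : Fact p.Prime] {k : Type u} [Field k] {n m : ℕ}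

instance isAffine_W : IsAffine (W p n (base k)).left :=
  inferInstanceAs (IsAffine 𝔸(ULift.{u} (Fin n); Spec (CommRingCat.of k)))

instance isReduced_W : IsReduced (W p n (base k)).left :=
  isReduced_of_isOpenImmersion (AffineSpace.SpecIso (ULift.{u} (Fin n)) (CommRingCat.of k)).hom

instance isIntegral_W : IsIntegral (W p n (base k)).left :=
  IsIntegral.of_isIso (AffineSpace.SpecIso (ULift.{u} (Fin n)) (CommRingCat.of k)).inv

instance locallyOfFinitePresentation_W : LocallyOfFinitePresentation (W p n (base k)).hom := by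
  change LocallyOfFinitePresentation (𝔸(ULift.{u} (Fin n); base k) ↘ base k)
  infer_instance

instance locallyOfFiniteType_W : LocallyOfFiniteType (W p n (base k)).hom := inferInstance

instance quasiCompact_W : QuasiCompact (W p n (base k)).hom := inferInstance

theorem gen_W (g : Γ((W p n (base k)).left, ⊤)) :
    ∃ P : MvPolynomial (ULift.{u} (Fin n)) k,
      g = MvPolynomial.eval₂Hom (scal (W p n (base k))) (fun i => coord p i.down) P := by
  let e := AffineSpace.SpecIso (ULift.{u} (Fin n)) (CommRingCat.of k)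
  have h : Function.Surjective e.hom.appTop := fun g => ⟨e.inv.appTop g, by
    rw [← CommRingCat.comp_apply, ← Scheme.Hom.comp_appTop, e.hom_inv_id]
    rfl⟩
  obtain ⟨P, rfl⟩ := h g
  exact ⟨(Scheme.ΓSpecIso (CommRingCat.of (MvPolynomial (ULift.{u} (Fin n)) k))).hom P, by
    rw [AffineSpace.SpecIso_hom_appTop]; rfl⟩

/-- The `k`-points of the Witt group are Witt vectors over `k`. -/
noncomputable def kpt : (pt k ⟶ W p n (base k)) ≃ TruncatedWittVector p n k where
  toFun x := TruncatedWittVector.mk p fun i => ev x (coord p i)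
  invFun v := mkPt fun i => (baseEquiv (k := k)).symm (v.coeff i)
  left_inv x := hom_ext' fun i => by
    rw [coeff_mkPt, TruncatedWittVector.coeff_mk, coeff_pts]
    exact baseEquiv.symm_apply_apply _
  right_inv v := TruncatedWittVector.ext fun i => by
    rw [TruncatedWittVector.coeff_mk]
    have h := coeff_mkPt (p := p) (S := base k) (T := pt k) (fun i => (baseEquiv (k := k)).symm (v.coeff i)) i
    rw [coeff_pts] at h
    exact (congrArg baseEquiv h).trans (baseEquiv.apply_symm_apply _)

theorem coeff_kpt (x : pt k ⟶ W p n (base k)) (i : Fin n) : (kpt x).coeff i = ev x (coord p i) :=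
  TruncatedWittVector.coeff_mk _ _

theorem kpt_eq (x : pt k ⟶ W p n (base k)) :
    kpt x = truncMap p n (baseEquiv (k := k)).toRingHom (pts p _ (Additive.ofMul x)) :=
  TruncatedWittVector.ext fun i => by rw [coeff_kpt, coeff_truncMap, coeff_pts]; rfl

theorem kpt_mul (x y : pt k ⟶ W p n (base k)) : kpt (x * y) = kpt x + kpt y := by
  rw [kpt_eq, kpt_eq, kpt_eq, pts_mul, map_add]

theorem kpt_one : kpt (1 : pt k ⟶ W p n (base k)) = 0 := by rw [kpt_eq, pts_one, map_zero]

theorem kpt_pow (x : pt k ⟶ W p n (base k)) (j : ℕ) : kpt (x ^ j) = j • kpt x := by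
  rw [kpt_eq, kpt_eq, pts_pow, map_nsmul]

theorem kpt_R (h : n ≤ m) (x : pt k ⟶ W p m (base k)) :
    kpt (x ≫ R p (base k) h) = TruncatedWittVector.truncate h (kpt x) := by
  rw [kpt_eq, kpt_eq, pts_R, truncMap_truncateLE]

theorem kpt_V (h : n ≤ m) (x : pt k ⟶ W p n (base k)) :
    kpt (x ≫ V p (base k) h) = shift p h (kpt x) := by
  rw [kpt_eq, kpt_eq, pts_V, truncMap_shift]

theorem kpt_F (hk : (p : Γ(base k, ⊤)) = 0) (hk' : (p : k) = 0) (x : pt k ⟶ W p n (base k)) :
    kpt (x ≫ F p n (base k) hk) = frob p n hk' (kpt x) := by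
  rw [kpt_eq, kpt_eq, pts_F]
  exact truncMap_frob p n _ hk' _ _

theorem isReg_of_pts {f : (pt k ⟶ W p n (base k)) → k} (hf : IsReg f) :
    IsReg (fun v : TruncatedWittVector p n k => f (kpt.symm v)) := by
  obtain ⟨g, hg⟩ := isReg_pts.mp hf
  obtain ⟨P, rfl⟩ := gen_W g
  simp only [← hg]
  clear hg hf f
  induction P using MvPolynomial.induction_on with
  | C a =>
    simp only [MvPolynomial.eval₂Hom_C, ev_scal]
    exact isReg_const a
  | add P Q hP hQ =>
    simp only [map_add]
    exact hP.add hQ
  | mul_X P i hP =>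
    simp only [map_mul, MvPolynomial.eval₂Hom_X']
    refine hP.mul ?_
    simp only [← coeff_kpt, Equiv.apply_symm_apply]
    exact isReg_coeff i.down

theorem isRegMap_kpt_symm :
    IsRegMap k ((kpt (p := p) (k := k) (n := n)).symm : TruncatedWittVector p n k → _) :=
  fun _ hg => isReg_of_pts hg

theorem isRegMap_kpt : IsRegMap k (kpt (p := p) (k := k) (n := n)) :=
  isRegMap_witt.mpr fun i => by simp only [coeff_kpt]; exact isReg_ev _

variable {X : Over (base k)}

theorem isRegMap_kpt_comp (f : X ⟶ W p n (base k)) : IsRegMap k (fun x : pt k ⟶ X => kpt (x ≫ f)) :=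
  isRegMap_kpt.comp (isRegMap_comp f)

/-- A regular map on points gives a morphism into `W n`. -/
noncomputable def mor (φ : (pt k ⟶ X) → TruncatedWittVector p n k) (h : IsRegMap k φ) : X ⟶ W p n (base k) :=
  mkPt fun i => (isReg_pts.mp (isRegMap_witt.mp h i)).choose

theorem kpt_mor (φ : (pt k ⟶ X) → TruncatedWittVector p n k) (h : IsRegMap k φ) (x : pt k ⟶ X) :
    kpt (x ≫ mor φ h) = φ x :=
  TruncatedWittVector.ext fun i => by
    rw [coeff_kpt, ev_comp]
    have h1 := coeff_mkPt (p := p) (S := base k) (T := X)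
      (fun i => (isReg_pts.mp (isRegMap_witt.mp h i)).choose) i
    rw [coeff_pts] at h1
    rw [mor, h1]
    exact (isReg_pts.mp (isRegMap_witt.mp h i)).choose_spec x

variable [IsAlgClosed k] [IsAffine X.left] [LocallyOfFiniteType X.hom] [IsReduced X.left]

theorem hom_ext_kpt {f g : X ⟶ W p n (base k)} (h : ∀ x : pt k ⟶ X, kpt (x ≫ f) = kpt (x ≫ g)) : f = g :=
  hom_ext_pts fun x => kpt.injective (h x)

theorem isMonHom_of_kpt [GrpObj X] (f : X ⟶ W p n (base k))
    (h : ∀ x y : pt k ⟶ X, kpt ((x * y) ≫ f) = kpt (x ≫ f) + kpt (y ≫ f)) : IsMonHom f :=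
  isMonHom_of_pts f fun x y => kpt.injective (by rw [h, kpt_mul])

omit [IsAlgClosed k] [IsAffine X.left] [LocallyOfFiniteType X.hom] [IsReduced X.left]

/-- The map on Witt vectors given by a morphism of Witt groups. -/
noncomputable def toFun' (f : W p n (base k) ⟶ W p m (base k)) (v : TruncatedWittVector p n k) :
    TruncatedWittVector p m k :=
  kpt (kpt.symm v ≫ f)

theorem kpt_comp (f : W p n (base k) ⟶ W p m (base k)) (x : pt k ⟶ W p n (base k)) :
    kpt (x ≫ f) = toFun' f (kpt x) := by rw [toFun', Equiv.symm_apply_apply]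

theorem isRegMap_toFun' (f : W p n (base k) ⟶ W p m (base k)) : IsRegMap k (toFun' f) :=
  (isRegMap_kpt_comp f).comp isRegMap_kpt_symm

/-- The homomorphism of Witt vectors given by a homomorphism of Witt groups. -/
noncomputable def toHom (f : W p n (base k) ⟶ W p m (base k)) [IsMonHom f] :
    TruncatedWittVector p n k →+ TruncatedWittVector p m k :=
  AddMonoidHom.mk' (toFun' f) fun a b => by
    have h : kpt.symm (a + b) = kpt.symm a * kpt.symm b := kpt.injective (by
      rw [kpt_mul, Equiv.apply_symm_apply, Equiv.apply_symm_apply, Equiv.apply_symm_apply])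
    rw [toFun', h, MonObj.mul_comp, kpt_mul]
    rfl

theorem toFun'_comp {l : ℕ} (f : W p n (base k) ⟶ W p m (base k)) (g : W p m (base k) ⟶ W p l (base k))
    (v : TruncatedWittVector p n k) : toFun' (f ≫ g) v = toFun' g (toFun' f v) := by
  rw [toFun', ← Category.assoc, kpt_comp]; rfl

theorem toFun'_R (h : n ≤ m) (v : TruncatedWittVector p m k) :
    toFun' (R p (base k) h) v = TruncatedWittVector.truncate h v := by
  rw [toFun', kpt_R, Equiv.apply_symm_apply]

theorem toFun'_V (h : n ≤ m) (v : TruncatedWittVector p n k) :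
    toFun' (V p (base k) h) v = shift p h v := by
  rw [toFun', kpt_V, Equiv.apply_symm_apply]

theorem toFun'_F (hk : (p : Γ(base k, ⊤)) = 0) (hk' : (p : k) = 0) (v : TruncatedWittVector p n k) :
    toFun' (F p n (base k) hk) v = frob p n hk' v := by
  rw [toFun', kpt_F hk hk', Equiv.apply_symm_apply]

theorem toFun'_one (v : TruncatedWittVector p n k) :
    toFun' (1 : W p n (base k) ⟶ W p m (base k)) v = 0 := by
  rw [toFun', MonObj.comp_one, kpt_one]

/-- The morphism of Witt groups given by a regular map. -/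
noncomputable def wmor (φ : TruncatedWittVector p n k → TruncatedWittVector p m k) (h : IsRegMap k φ) :
    W p n (base k) ⟶ W p m (base k) :=
  mor (fun x => φ (kpt x)) (h.comp isRegMap_kpt)

theorem toFun'_wmor (φ : TruncatedWittVector p n k → TruncatedWittVector p m k) (h : IsRegMap k φ)
    (v : TruncatedWittVector p n k) : toFun' (wmor φ h) v = φ v := by
  rw [toFun', wmor, kpt_mor, Equiv.apply_symm_apply]

variable [IsAlgClosed k]

theorem whom_ext {f g : W p n (base k) ⟶ W p m (base k)} (h : ∀ v, toFun' f v = toFun' g v) : f = g :=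
  hom_ext_kpt fun x => by rw [kpt_comp, kpt_comp, h]

theorem isMonHom_wmor (φ : TruncatedWittVector p n k → TruncatedWittVector p m k) (h : IsRegMap k φ)
    (hadd : ∀ a b, φ (a + b) = φ a + φ b) : IsMonHom (wmor φ h) :=
  isMonHom_of_kpt _ fun x y => by
    rw [kpt_comp, kpt_comp, kpt_comp, toFun'_wmor, toFun'_wmor, toFun'_wmor, kpt_mul, hadd]

end Groth.Agent.Lib.WittU.WPts
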