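import Groth.Agent.Lib.WittU.WittReg
import Groth.Agent.Lib.WittU.Lazard
import Mathlib.RingTheory.WittVector.Identities
import Mathlib.RingTheory.WittVector.InitTail

/-!
# Algebra of truncated Witt vectors over a perfect field: coordinates, carries
-/

universe u

namespace Groth.Agent.Lib.WittU.Witt

open Groth.Agent.Lib.WittU.Reg Groth.Agent.Lib.WittU.WittReg Groth.Agent.Lib.WittU.Lazard WittGrp

variable {p : ℕ} [hp : Fact p.Prime] {k : Type u} [CommRing k] {n m l : ℕ}

/-- Truncated Witt vectors. -/
local notation "𝕋" => TruncatedWittVector p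

theorem truncate_truncate' (h : n ≤ m) (h' : m ≤ l) (x : 𝕋 l k) :
    TruncatedWittVector.truncate h (TruncatedWittVector.truncate h' x) =
      TruncatedWittVector.truncate (h.trans h') x :=
  TruncatedWittVector.truncate_truncate h h' x

theorem shift_shift (h : n ≤ m) (h' : m ≤ l) (x : 𝕋 n k) :
    shift p h' (shift p h x) = shift p (h.trans h') x := by
  refine TruncatedWittVector.ext fun i => ?_
  rw [coeff_shift, coeff_shift]
  split_ifs with h1 h2
  · rw [coeff_shift, dif_pos (by simp only; omega)]
    congr 1
    ext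
    simp only
    omega
  · rw [coeff_shift, dif_neg (by simp only; omega)]
  · omega
  · rfl

theorem shift_self (h : n ≤ n) (x : 𝕋 n k) : shift p h x = x :=
  TruncatedWittVector.ext fun i => by
    rw [coeff_shift, dif_pos (by omega)]
    congr 1
    ext
    simp

theorem truncate_self (h : n ≤ n) (x : 𝕋 n k) : TruncatedWittVector.truncate h x = x :=
  TruncatedWittVector.ext fun i => by rw [TruncatedWittVector.coeff_truncate]; rfl

/-- `R ∘ V = V ∘ R`. -/
theorem truncate_shift_succ (h : n ≤ m) (x : 𝕋 m k) :
    TruncatedWittVector.truncate (Nat.succ_le_succ h) (shift p (Nat.le_succ m) x) =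
      shift p (Nat.le_succ n) (TruncatedWittVector.truncate h x) := by
  refine TruncatedWittVector.ext fun i => ?_
  rw [TruncatedWittVector.coeff_truncate, coeff_shift, coeff_shift]
  simp only [Fin.val_castLE, Nat.succ_sub (le_refl _), Nat.sub_self]
  split_ifs with h1
  · rw [TruncatedWittVector.coeff_truncate]; rfl
  · rfl

/-- Forget the first `m - n` coordinates. -/
noncomputable def dropW (h : n ≤ m) (x : 𝕋 m k) : 𝕋 n k :=
  TruncatedWittVector.mk p fun i => x.coeff ⟨i + (m - n), by omega⟩

theorem isRegMap_dropW (h : n ≤ m) : IsRegMap k (dropW (p := p) (k := k) h) :=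
  isRegMap_witt.mpr fun i => by simp only [dropW, TruncatedWittVector.coeff_mk]; exact isReg_coeff _

theorem dropW_shift (h : n ≤ m) (x : 𝕋 n k) : dropW h (shift p h x) = x :=
  TruncatedWittVector.ext fun i => by
    rw [dropW, TruncatedWittVector.coeff_mk, coeff_shift, dif_pos (by simp only; omega)]
    congr 1
    ext
    simp

theorem shift_injective (h : n ≤ m) : Function.Injective (shift (p := p) (R := k) h) :=
  Function.LeftInverse.injective (dropW_shift h)

theorem shift_dropW (h : n ≤ m) (x : 𝕋 m k) (hx : ∀ i : Fin m, (i : ℕ) < m - n → x.coeff i = 0) :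
    shift p h (dropW h x) = x :=
  TruncatedWittVector.ext fun i => by
    rw [coeff_shift]
    split_ifs with h1
    · rw [dropW, TruncatedWittVector.coeff_mk]
      congr 1
      ext
      simp only
      omega
    · exact (hx i (by omega)).symm

theorem exists_shift_of_coeff_zero (x : 𝕋 (n + 1) k) (hx : x.coeff 0 = 0) :
    x = shift p (Nat.le_succ n) (dropW (Nat.le_succ n) x) :=
  (shift_dropW _ x fun i hi => by
    obtain rfl : i = 0 := Fin.ext (by simp only [Fin.val_zero]; omega)
    exact hx).symm

theorem coeff_shift_zero (x : 𝕋 n k) : (shift p (Nat.le_succ n) x).coeff 0 = 0 := by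
  rw [coeff_shift, dif_neg (by simp only [Fin.val_zero]; omega)]

/-- The zeroth coefficient as an additive map. -/
noncomputable def coeff0 (n : ℕ) : 𝕋 (n + 1) k →+ k :=
  AddMonoidHom.mk' (fun x => x.coeff 0) fun x y => by
    obtain ⟨X, rfl⟩ := WittVector.truncate_surjective p (n + 1) k x
    obtain ⟨Y, rfl⟩ := WittVector.truncate_surjective p (n + 1) k y
    rw [← map_add, WittVector.coeff_truncate, WittVector.coeff_truncate, WittVector.coeff_truncate]
    exact WittVector.add_coeff_zero X Y

theorem coeff0_apply (x : 𝕋 (n + 1) k) : coeff0 n x = x.coeff 0 := rfl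

theorem coeff_mul_zero (x y : 𝕋 (n + 1) k) : (x * y).coeff 0 = x.coeff 0 * y.coeff 0 := by
  obtain ⟨X, rfl⟩ := WittVector.truncate_surjective p (n + 1) k x
  obtain ⟨Y, rfl⟩ := WittVector.truncate_surjective p (n + 1) k y
  rw [← map_mul, WittVector.coeff_truncate, WittVector.coeff_truncate, WittVector.coeff_truncate]
  exact WittVector.mul_coeff_zero X Y

/-- `W 1 (k) = k`. -/
noncomputable def toK : 𝕋 1 k ≃+ k where
  toFun x := x.coeff 0
  invFun t := TruncatedWittVector.mk p fun _ => t
  left_inv x := TruncatedWittVector.ext fun i => by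
    rw [TruncatedWittVector.coeff_mk, Subsingleton.elim i 0]
  right_inv t := TruncatedWittVector.coeff_mk _ _
  map_add' := (coeff0 0).map_add

theorem toK_apply (x : 𝕋 1 k) : toK x = x.coeff 0 := rfl

theorem isReg_toK : IsReg (fun x : 𝕋 1 k => toK x) := isReg_coeff 0

theorem isRegMap_toK : IsRegMap k (toK : 𝕋 1 k → k) := isRegMap_iff_isReg.mpr isReg_toK

theorem isRegMap_toK_symm : IsRegMap k (toK.symm : k → 𝕋 1 k) :=
  isRegMap_witt.mpr fun i => by
    have : (fun t : k => ((toK : 𝕋 1 k ≃+ k).symm t).coeff i) = id :=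
      funext fun t => TruncatedWittVector.coeff_mk _ _
    rw [this]; exact isReg_id

/-- Append a zero. -/
noncomputable def ins (x : 𝕋 n k) : 𝕋 (n + 1) k :=
  TruncatedWittVector.mk p (Fin.snoc (fun i => x.coeff i) 0)

theorem coeff_ins_castSucc (x : 𝕋 n k) (i : Fin n) : (ins x).coeff i.castSucc = x.coeff i := by
  rw [ins, TruncatedWittVector.coeff_mk, Fin.snoc_castSucc]

theorem coeff_ins_last (x : 𝕋 n k) : (ins x).coeff (Fin.last n) = 0 := by
  rw [ins, TruncatedWittVector.coeff_mk, Fin.snoc_last]

theorem truncate_ins (x : 𝕋 n k) : TruncatedWittVector.truncate (Nat.le_succ n) (ins x) = x :=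
  TruncatedWittVector.ext fun i => by rw [TruncatedWittVector.coeff_truncate]; exact coeff_ins_castSucc x i

theorem isRegMap_ins : IsRegMap k (ins : 𝕋 n k → 𝕋 (n + 1) k) :=
  isRegMap_witt.mpr fun i => by
    refine i.lastCases ?_ (fun j => ?_)
    · simp only [coeff_ins_last]; exact isReg_const 0
    · simp only [coeff_ins_castSucc]; exact isReg_coeff j

variable (n) in
/-- The last coordinate subgroup. -/
noncomputable def top : k →+ 𝕋 (n + 1) k :=
  (shift p (Nat.le_add_left 1 n)).comp toK.symm.toAddMonoidHom

theorem top_apply (t : k) : top (p := p) n t = shift p (Nat.le_add_left 1 n) (toK.symm t) := rfl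

theorem coeff_top_last (t : k) : (top (p := p) n t).coeff (Fin.last n) = t := by
  rw [top_apply, coeff_shift, dif_pos (by simp)]
  exact TruncatedWittVector.coeff_mk _ _

theorem coeff_top_castSucc (t : k) (i : Fin n) : (top (p := p) n t).coeff i.castSucc = 0 := by
  rw [top_apply, coeff_shift, dif_neg (by simp)]

theorem truncate_top (t : k) : TruncatedWittVector.truncate (Nat.le_succ n) (top (p := p) n t) = 0 :=
  TruncatedWittVector.ext fun i => by
    rw [TruncatedWittVector.coeff_truncate, TruncatedWittVector.coeff_zero]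
    exact coeff_top_castSucc t i

theorem isRegMap_top : IsRegMap k (fun t : k => top (p := p) n t) :=
  (isRegMap_shift (Nat.le_add_left 1 n)).comp isRegMap_toK_symm

theorem coeff_ins_add_top (x : 𝕋 n k) (t : k) (i : Fin (n + 1)) :
    (ins x + top n t).coeff i = (ins x).coeff i + (top (p := p) n t).coeff i := by
  let X : WittVector p k := WittVector.mk p fun j => if h : j < n then x.coeff ⟨j, h⟩ else 0
  let Y : WittVector p k := WittVector.mk p fun j => if j = n then t else 0
  have hX : WittVector.truncate (n + 1) X = ins x := TruncatedWittVector.ext fun i => by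
    rw [WittVector.coeff_truncate]
    refine i.lastCases ?_ (fun j => ?_)
    · simp [X, coeff_ins_last]
    · simp [X, coeff_ins_castSucc]
  have hY : WittVector.truncate (n + 1) Y = top (p := p) n t := TruncatedWittVector.ext fun i => by
    rw [WittVector.coeff_truncate]
    refine i.lastCases ?_ (fun j => ?_)
    · simp [Y, coeff_top_last]
    · simp [Y, coeff_top_castSucc, (ne_of_lt j.2)]
  rw [← hX, ← hY, ← map_add, WittVector.coeff_truncate, WittVector.coeff_truncate, WittVector.coeff_truncate]
  refine WittVector.coeff_add_of_disjoint _ _ _ fun j => ?_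
  by_cases hj : j < n
  · exact Or.inr (by simp [Y, ne_of_lt hj])
  · exact Or.inl (by simp [X, hj])

theorem decomp (z : 𝕋 (n + 1) k) :
    ins (TruncatedWittVector.truncate (Nat.le_succ n) z) + top n (z.coeff (Fin.last n)) = z := by
  refine TruncatedWittVector.ext fun i => ?_
  rw [coeff_ins_add_top]
  refine i.lastCases ?_ (fun j => ?_)
  · rw [coeff_ins_last, coeff_top_last, zero_add]
  · rw [coeff_ins_castSucc, coeff_top_castSucc, add_zero, TruncatedWittVector.coeff_truncate]; rfl

theorem last_ins_add_top (x : 𝕋 n k) (t : k) : (ins x + top n t).coeff (Fin.last n) = t := by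
  rw [coeff_ins_add_top, coeff_ins_last, coeff_top_last, zero_add]

theorem last_add_top (z : 𝕋 (n + 1) k) (t : k) :
    (z + top n t).coeff (Fin.last n) = z.coeff (Fin.last n) + t := by
  conv_lhs => rw [← decomp z, add_assoc, ← map_add]
  rw [last_ins_add_top]

/-- The carry cocycle: the last coordinate of a sum. -/
noncomputable def carry (n : ℕ) (x y : 𝕋 n k) : k := (ins x + ins y).coeff (Fin.last n)

theorem ins_add (x y : 𝕋 n k) : ins x + ins y = ins (x + y) + top n (carry n x y) := by
  conv_lhs => rw [← decomp (ins x + ins y)]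
  rw [map_add, truncate_ins, truncate_ins]
  rfl

theorem last_add (z w : 𝕋 (n + 1) k) :
    (z + w).coeff (Fin.last n) = z.coeff (Fin.last n) + w.coeff (Fin.last n) +
      carry n (TruncatedWittVector.truncate (Nat.le_succ n) z) (TruncatedWittVector.truncate (Nat.le_succ n) w) := by
  set a := TruncatedWittVector.truncate (Nat.le_succ n) z with ha
  set b := TruncatedWittVector.truncate (Nat.le_succ n) w with hb
  have hzw : z + w = ins (a + b) + top n (carry n a b + (z.coeff (Fin.last n) + w.coeff (Fin.last n))) := by
    rw [map_add, map_add, ← add_assoc, ← ins_add]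
    nth_rewrite 1 [← decomp z, ← decomp w]
    exact add_add_add_comm _ _ _ _
  rw [hzw, last_ins_add_top]
  ring

theorem isCocycle_carry : IsCocycle (carry (p := p) (k := k) n) where
  symm x y := by rw [carry, carry, add_comm (ins x) (ins y)]
  assoc x y z := by
    have h1 : ins x + ins y + ins z = ins (x + y + z) + top n (carry n (x + y) z + carry n x y) := by
      rw [ins_add, add_right_comm, ins_add, add_assoc, ← map_add]
    have h2 : ins x + (ins y + ins z) = ins (x + y + z) + top n (carry n x (y + z) + carry n y z) := by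
      rw [ins_add y z, ← add_assoc, ins_add, add_assoc, ← map_add, add_assoc x y z]
    have h := congrArg (fun z => z.coeff (Fin.last n)) (h1.symm.trans ((add_assoc _ _ _).trans h2))
    simp only [last_ins_add_top] at h
    exact h

theorem isReg_carry : IsReg (fun z : 𝕋 n k × 𝕋 n k => carry n z.1 z.2) :=
  isRegMap_witt.mp (IsRegMap.add (isRegMap_ins.comp isRegMap_fst) (isRegMap_ins.comp isRegMap_snd)) _

/-- The Teichmüller carry: `[x] + [y] = [x+y] + V(lam x y)`. -/
noncomputable def lam (n : ℕ) (x y : k) : 𝕋 n k :=
  dropW (Nat.le_succ n) (teich p (n + 1) x + teich p (n + 1) y - teich p (n + 1) (x + y))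

theorem shift_lam (x y : k) : shift p (Nat.le_succ n) (lam (p := p) n x y) =
    teich p (n + 1) x + teich p (n + 1) y - teich p (n + 1) (x + y) := by
  refine (exists_shift_of_coeff_zero _ ?_).symm
  rw [← coeff0_apply, map_sub, map_add]
  simp only [coeff0_apply, coeff_teich_zero, sub_self]

theorem isRegMap_lam : IsRegMap k (fun z : k × k => lam (p := p) n z.1 z.2) :=
  (isRegMap_dropW _).comp (((isRegMap_teich.comp isRegMap_fst).add (isRegMap_teich.comp isRegMap_snd)).sub
    (isRegMap_teich.comp (isRegMap_fst.add isRegMap_snd)))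

theorem isCocycle_lam : IsCocycle (lam (p := p) (k := k) n) where
  symm x y := shift_injective (Nat.le_succ n) (by rw [shift_lam, shift_lam, add_comm x y]; abel)
  assoc x y z := shift_injective (Nat.le_succ n) (by
    simp only [map_add, shift_lam]
    rw [add_assoc x y z]
    abel)

theorem teich_decomp (z : 𝕋 (n + 1) k) :
    z = teich p (n + 1) (z.coeff 0) +
      shift p (Nat.le_succ n) (dropW (Nat.le_succ n) (z - teich p (n + 1) (z.coeff 0))) := by
  rw [← exists_shift_of_coeff_zero, add_sub_cancel]
  rw [← coeff0_apply, map_sub, coeff0_apply, coeff0_apply, coeff_teich_zero, sub_self]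

section CharP

variable [CharP k p]

theorem p_cast : (p : k) = 0 := CharP.cast_eq_zero k p

theorem coeff_pow_smul (j : ℕ) (x : 𝕋 n k) (i : Fin n) :
    ((p ^ j) • x).coeff i = if h : j ≤ (i : ℕ) then x.coeff ⟨i - j, by omega⟩ ^ (p ^ j) else 0 := by
  obtain ⟨X, rfl⟩ := WittVector.truncate_surjective p n k x
  rw [nsmul_eq_mul, ← map_natCast (WittVector.truncate (p := p) (R := k) n), ← map_mul,
    WittVector.coeff_truncate, mul_comm, Nat.cast_pow]
  split_ifs with h
  · rw [WittVector.coeff_truncate]
    have : (i : ℕ) = (i - j) + j := by omega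
    conv_lhs => rw [this, WittVector.mul_pow_charP_coeff_succ]
  · exact WittVector.mul_pow_charP_coeff_zero X (by omega)

theorem pow_smul_eq_zero (x : 𝕋 n k) : (p ^ n) • x = 0 :=
  TruncatedWittVector.ext fun i => by
    rw [coeff_pow_smul, dif_neg (by omega), TruncatedWittVector.coeff_zero]

theorem shift_truncate_frob (x : 𝕋 n k) :
    TruncatedWittVector.truncate (Nat.le_succ n) (shift p (Nat.le_succ n) (frob p n p_cast x)) = p • x := by
  refine TruncatedWittVector.ext fun i => ?_
  have h := coeff_pow_smul (p := p) 1 x i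
  rw [pow_one] at h
  rw [h, TruncatedWittVector.coeff_truncate, coeff_shift]
  simp only [Fin.val_castLE, Nat.succ_sub (le_refl n), Nat.sub_self]
  split_ifs with h1
  · rw [coeff_frob]
  · rfl

theorem exists_pow_smul [PerfectRing k p] (j : ℕ) (z : 𝕋 n k)
    (hz : ∀ i : Fin n, (i : ℕ) < j → z.coeff i = 0) : ∃ x : 𝕋 n k, (p ^ j) • x = z := by
  refine ⟨TruncatedWittVector.mk p fun i => if h : (i : ℕ) + j < n then
    ((iterateFrobeniusEquiv k p j).symm (z.coeff ⟨i + j, h⟩)) else 0, TruncatedWittVector.ext fun i => ?_⟩
  rw [coeff_pow_smul]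
  split_ifs with h
  · rw [TruncatedWittVector.coeff_mk, dif_pos (by simp only; omega), ← iterateFrobeniusEquiv_def (p := p),
      RingEquiv.apply_symm_apply]
    congr 1
    ext
    simp only
    omega
  · exact (hz i (by omega)).symm

end CharP

end Groth.Agent.Lib.WittU.Witt
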