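import Groth.Agent.Lib.Tori.Basic
import Groth.Agent.Lib.RedPts.Gm
import Groth.Agent.Lib.GrpSch.SmoothReduced
import Groth.Agent.Lib.WittU.Criteria
import Groth.Agent.Lib.WittU.WPts
import Groth.Agent.Lib.WittU.Witt
import Mathlib.FieldTheory.RatFunc.Basic

/-!
# Tori of finite exponent are trivial; Witt groups contain no torus
-/

universe u

open CategoryTheory CategoryTheory.Limits AlgebraicGeometry MonoidalCategory CartesianMonoidalCategory MonObj

namespace Groth.Agent.Lib.WittU.NoTorus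

open Groth.Agent.Lib.WittU.Pts Groth.Agent.Lib.RedPts Groth.Agent.Lib.Tori.BaseChange

variable {k : Type u} [Field k] {T : Over (base k)} [GrpObj T]

/-- A field-valued point over an open of a scheme. -/
theorem rank_eq_zero {S' : Scheme.{u}} {U : S'.Opens} (hU : Nonempty U) (g : (U : Scheme.{u}) ⟶ base k) {r : ℕ}
    (h : Red.IsSplitTorusWith (Fin r → ℤ) (Red.bc g T)) {N : ℕ} (hN : 0 < N)
    (hT : ∀ (X : Over (base k)) (x : X ⟶ T), x ^ N = 1) : r = 0 := by
  obtain ⟨e⟩ := h
  by_contra hr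
  obtain ⟨v⟩ := hU
  let K : CommRingCat.{u} := CommRingCat.of (RatFunc ((U : Scheme.{u}).residueField v))
  let q : Spec K ⟶ (U : Scheme.{u}) :=
    Spec.map (CommRingCat.ofHom (algebraMap ((U : Scheme.{u}).residueField v) (RatFunc ((U : Scheme.{u}).residueField v)))) ≫
      (U : Scheme.{u}).fromSpecResidueField v
  let X : Over (U : Scheme.{u}) := Over.mk q
  let t : Γ(X.left, ⊤) := (Scheme.ΓSpecIso K).inv (RatFunc.X : RatFunc ((U : Scheme.{u}).residueField v))
  have hXu : IsUnit t := (isUnit_iff_ne_zero.mpr RatFunc.X_ne_zero).map (Scheme.ΓSpecIso K).inv.hom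
  let i : Fin r := ⟨0, Nat.pos_of_ne_zero hr⟩
  let χ : Multiplicative (Fin r → ℤ) →* Γ(X.left, ⊤) :=
    ((Units.coeHom _).comp (zpowersHom _ hXu.unit)).comp (Pi.evalAddMonoidHom (fun _ => ℤ) i).toMultiplicative
  let x : X ⟶ Red.DS (U : Scheme.{u}) (Fin r → ℤ) := Gm.dsPt χ
  have hpow : x ^ N = 1 := by
    have h1 : (x ≫ (overIso e).inv) ^ N = 1 :=
      (BC.downMulEquiv g X T).injective (by rw [map_pow, map_one]; exact hT _ _)
    have h2 := congrArg (· ≫ (overIso e).hom) h1
    simp only [MonObj.pow_comp, Category.assoc, Iso.inv_hom_id, Category.comp_id, MonObj.one_comp] at h2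
    exact h2
  have h3 : t ^ N = 1 := by
    have := congrArg (fun y => Gm.dsFn y (Pi.single i 1)) hpow
    simp only [Gm.dsFn_pow, Gm.dsFn_one, x, Gm.dsFn_dsPt] at this
    simpa [χ] using this
  have h4 := congrArg (Scheme.ΓSpecIso K).hom h3
  rw [map_pow, map_one] at h4
  have h5 : (Scheme.ΓSpecIso K).hom t = (RatFunc.X : RatFunc ((U : Scheme.{u}).residueField v)) := by
    exact congr($((Scheme.ΓSpecIso K).inv_hom_id).hom RatFunc.X)
  rw [h5] at h4
  have h7 : (Polynomial.X : Polynomial ((U : Scheme.{u}).residueField v)) ^ N = 1 := by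
    apply RatFunc.algebraMap_injective
    rw [map_pow, map_one, RatFunc.algebraMap_X]
    exact h4
  simpa [hN.ne'] using congrArg Polynomial.natDegree h7

theorem isTrivialGrp_of_pow [IsAlgClosed k] (h : Red.IsTorus T) {N : ℕ} (hN : 0 < N)
    (hT : ∀ (X : Over (base k)) (x : X ⟶ T), x ^ N = 1) : Red.IsTrivialGrp T := by
  have := Tori.Basic.isAffineHom_of_isTorus h
  have := Tori.Basic.smooth_of_isTorus h
  have : IsAffine T.left := isAffine_of_isAffineHom T.hom
  have : IsReduced T.left := Lib.GrpSch.isReduced_of_smooth_field T.hom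
  obtain ⟨S', f, -, hf, -, hloc⟩ := h
  obtain ⟨s', -⟩ := hf.surj (IsLocalRing.closedPoint k)
  obtain ⟨U, hs, r, hsp⟩ := hloc s'
  have hU : Nonempty U := ⟨⟨s', hs⟩⟩
  obtain rfl := rank_eq_zero hU _ hsp hN hT
  obtain ⟨e⟩ := hsp
  have hone : ∀ x : pt k ⟶ T, x = 1 := fun x => by
    let X : Over (U : Scheme.{u}) := 𝟙_ _
    let c : (Over.map (U.ι ≫ f)).obj X ⟶ pt k := toUnit _
    have h1 : ∀ y : X ⟶ Red.bc (U.ι ≫ f) T, y = 1 := fun y => by
      rw [← Category.comp_id y, ← (overIso e).hom_inv_id, ← Category.assoc]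
      have : y ≫ (overIso e).hom = 1 := Gm.dsFn_ext fun m => by
        rw [Subsingleton.elim m 0, Gm.dsFn_zero, Gm.dsFn_zero]
      rw [this]
      exact MonObj.one_comp _
    have h2 : c ≫ x = c ≫ 1 := by
      rw [MonObj.comp_one]
      have h3 := h1 (BC.up _ (c ≫ x))
      rw [← BC.down_up (f := U.ι ≫ f) (c ≫ x), h3, BC.down_one]
    refine Criteria.pointOf_injective ?_
    obtain ⟨v⟩ := hU
    have h4 := congrArg (fun z => z.left.base (v : ↥((Over.map (U.ι ≫ f)).obj X).left)) h2
    have hc : c.left.base v = IsLocalRing.closedPoint k := Subsingleton.elim (α := PrimeSpectrum k) _ _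
    simp only [Over.comp_left, Scheme.Hom.comp_base] at h4
    change x.left.base (c.left.base v) = (1 : pt k ⟶ T).left.base (c.left.base v) at h4
    rw [hc] at h4
    exact h4
  let inv : pt k ⟶ T := 1
  refine ⟨⟨inv.left, ?_, Over.w inv⟩⟩
  refine ext_of_isAffine ?_
  ext a
  refine eq_of_ev_eq fun x => ?_
  rw [Scheme.Hom.comp_appTop, CommRingCat.comp_apply, Scheme.Hom.id_appTop, CommRingCat.id_apply]
  change ev x (T.hom.appTop (inv.left.appTop a)) = ev x a
  have h5 : T.hom.appTop (inv.left.appTop a) = scal T (ev inv a) := by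
    change _ = T.hom.appTop (baseEquiv.symm (baseEquiv (inv.left.appTop a)))
    rw [RingEquiv.symm_apply_apply]
  rw [h5, ev_scal, hone x]

theorem pow_W_eq_one {p : ℕ} [Fact p.Prime] [CharP k p] {n : ℕ} (X : Over (base k))
    (x : X ⟶ WittGrp.W p n (base k)) : x ^ (p ^ n) = 1 := by
  refine WittGrp.pts_injective p X ?_
  simp only [Basic.pts_pow, WittGrp.pts_one]
  rcases subsingleton_or_nontrivial Γ(X.left, ⊤) with hs | hnt
  · exact TruncatedWittVector.ext fun i => Subsingleton.elim _ _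
  · have : CharP Γ(X.left, ⊤) p := charP_of_injective_ringHom (scal X).injective p
    exact Witt.pow_smul_eq_zero _

theorem hasNoSubtorus_of_pow [IsAlgClosed k] {G : Over (base k)} [GrpObj G] {N : ℕ} (hN : 0 < N)
    (hG : ∀ (X : Over (base k)) (x : X ⟶ G), x ^ N = 1) : Red.HasNoSubtorus k G := by
  intro T _ j _ _ hT
  refine isTrivialGrp_of_pow hT hN fun X x => ?_
  rw [← cancel_mono j, MonObj.pow_comp, MonObj.one_comp, hG]

theorem witt_result {p : ℕ} [Fact p.Prime] [IsAlgClosed k] [CharP k p] (n : ℕ) :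
    Smooth (WittGrp.W p n (base k)).hom ∧ ConnectedSpace ↥(WittGrp.W p n (base k)).left ∧
      Red.HasNoSubtorus k (WittGrp.W p n (base k)) :=
  ⟨Geom.smooth_W, inferInstance, hasNoSubtorus_of_pow (pow_pos (Fact.out : p.Prime).pos n) pow_W_eq_one⟩

end Groth.Agent.Lib.WittU.NoTorus
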