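import Mathlib.AlgebraicGeometry.AlgClosed.Basic
import Mathlib.AlgebraicGeometry.Morphisms.Affine
import Mathlib.AlgebraicGeometry.Morphisms.FiniteType
import Mathlib.CategoryTheory.Monoidal.Cartesian.Over
import Mathlib.RingTheory.Jacobson.Ring
import Groth.Agent.Lib.WittU.Reg

/-!
# `k`-points of affine schemes of finite type over an algebraically closed field
-/

universe u

open CategoryTheory CategoryTheory.Limits AlgebraicGeometry MonoidalCategory CartesianMonoidalCategory

namespace Groth.Agent.Lib.WittU.Pts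

open Groth.Agent.Lib.WittU.Reg

variable {k : Type u} [Field k]

/-- The base `Spec k`. -/
noncomputable abbrev base (k : Type u) [Field k] : Scheme.{u} := Spec (CommRingCat.of k)

/-- The one point `k`-scheme. -/
noncomputable abbrev pt (k : Type u) [Field k] : Over (base k) := 𝟙_ (Over (base k))

variable {X Y : Over (base k)}

/-- Global functions on the base are scalars. -/
noncomputable def baseEquiv : Γ(base k, ⊤) ≃+* k :=
  (Scheme.ΓSpecIso (CommRingCat.of k)).commRingCatIsoToRingEquiv

/-- The scalars in the global functions. -/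
noncomputable def scal (X : Over (base k)) : k →+* Γ(X.left, ⊤) :=
  X.hom.appTop.hom.comp (baseEquiv (k := k)).symm.toRingHom

/-- Value of a global function at a `k`-point. -/
noncomputable def ev (x : pt k ⟶ X) : Γ(X.left, ⊤) →+* k :=
  (baseEquiv (k := k)).toRingHom.comp x.left.appTop.hom

theorem ev_scal (x : pt k ⟶ X) (c : k) : ev x (scal X c) = c := by
  have h : x.left.appTop (X.hom.appTop (baseEquiv.symm c)) = baseEquiv.symm c := by
    rw [← CommRingCat.comp_apply, ← Scheme.Hom.comp_appTop, Over.w x]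
    rfl
  change baseEquiv (x.left.appTop (X.hom.appTop (baseEquiv.symm c))) = c
  rw [h, RingEquiv.apply_symm_apply]

theorem appTop_scal (u : X ⟶ Y) (c : k) : u.left.appTop (scal Y c) = scal X c := by
  change u.left.appTop (Y.hom.appTop (baseEquiv.symm c)) = _
  rw [← CommRingCat.comp_apply, ← Scheme.Hom.comp_appTop, Over.w u]
  rfl

theorem ev_comp (x : pt k ⟶ X) (u : X ⟶ Y) (g : Γ(Y.left, ⊤)) :
    ev (x ≫ u) g = ev x (u.left.appTop g) := by
  change baseEquiv ((x ≫ u).left.appTop g) = baseEquiv (x.left.appTop (u.left.appTop g))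
  rw [Over.comp_left, Scheme.Hom.comp_appTop]
  rfl

/-- Functions on the `k`-points coming from global functions. -/
noncomputable def evFun (X : Over (base k)) : Γ(X.left, ⊤) →+* ((pt k ⟶ X) → k) :=
  RingHom.pi fun x => ev x

/-- The regular functions on the set of `k`-points. -/
noncomputable instance regPts : RegSpace k (pt k ⟶ X) where
  reg :=
    { (evFun X).range.toSubsemiring with
      algebraMap_mem' := fun c => ⟨scal X c, funext fun x => ev_scal x c⟩ }

theorem isReg_pts {f : (pt k ⟶ X) → k} : IsReg f ↔ ∃ g, ∀ x, ev x g = f x :=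
  ⟨fun ⟨g, hg⟩ => ⟨g, fun x => congrFun hg x⟩, fun ⟨g, hg⟩ => ⟨g, funext hg⟩⟩

theorem isReg_ev (g : Γ(X.left, ⊤)) : IsReg (fun x : pt k ⟶ X => ev x g) :=
  isReg_pts.mpr ⟨g, fun _ => rfl⟩

theorem isRegMap_comp (u : X ⟶ Y) : IsRegMap k (fun x : pt k ⟶ X => x ≫ u) := fun f hf => by
  obtain ⟨g, hg⟩ := isReg_pts.mp hf
  exact isReg_pts.mpr ⟨u.left.appTop g, fun x => by rw [← ev_comp, hg]; rfl⟩

/-- Points of an affine scheme are determined by their values. -/
theorem pt_ext [IsAffine X.left] {x y : pt k ⟶ X} (h : ∀ g, ev x g = ev y g) : x = y := by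
  refine Over.OverMorphism.ext (ext_of_isAffine ?_)
  ext g
  exact baseEquiv.injective (h g)

/-- Every `k`-algebra map out of the global functions is evaluation at a point. -/
theorem exists_pt [IsAffine X.left] (φ : Γ(X.left, ⊤) →+* k) (hφ : ∀ c, φ (scal X c) = c) :
    ∃ x : pt k ⟶ X, ev x = φ := by
  let ψ : Γ(X.left, ⊤) ⟶ Γ(base k, ⊤) := CommRingCat.ofHom ((baseEquiv (k := k)).symm.toRingHom.comp φ)
  let l : base k ⟶ X.left := (base k).toSpecΓ ≫ Spec.map ψ ≫ X.left.isoSpec.inv
  have hl : l.appTop = ψ := by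
    have h2 := Scheme.toSpecΓ_naturality l
    apply Spec.map_injective
    rw [← cancel_epi (base k).toSpecΓ, ← h2]
    simp only [l, Category.assoc]
    rw [← Scheme.isoSpec_hom, ← Scheme.isoSpec_hom, Iso.inv_hom_id, Category.comp_id]
  have hover : l ≫ X.hom = 𝟙 (base k) := by
    apply ext_of_isAffine
    rw [Scheme.Hom.comp_appTop, hl]
    ext c
    change baseEquiv.symm (φ (X.hom.appTop c)) = c
    apply baseEquiv.injective
    have := hφ (baseEquiv c)
    rw [RingEquiv.apply_symm_apply]
    simpa [scal] using this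
  refine ⟨Over.homMk l hover, RingHom.ext fun g => ?_⟩
  change baseEquiv (l.appTop g) = φ g
  rw [hl]
  exact baseEquiv.apply_symm_apply _

variable [IsAlgClosed k]

/-- Nullstellensatz: on a reduced affine scheme of finite type functions are determined by values. -/
theorem eq_of_ev_eq [IsAffine X.left] [LocallyOfFiniteType X.hom] [IsReduced X.left]
    {f g : Γ(X.left, ⊤)} (h : ∀ x : pt k ⟶ X, ev x f = ev x g) : f = g := by
  let : Algebra k Γ(X.left, ⊤) := (scal X).toAlgebra
  have : Algebra.FiniteType k Γ(X.left, ⊤) := by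
    have h1 : X.hom.appTop.hom.FiniteType :=
      (HasRingHomProperty.iff_of_isAffine (P := @LocallyOfFiniteType)).mp inferInstance
    have h2 : (scal X).FiniteType :=
      h1.comp (RingHom.FiniteType.of_surjective _ (baseEquiv (k := k)).symm.surjective)
    exact h2
  have : IsJacobsonRing Γ(X.left, ⊤) := isJacobsonRing_of_finiteType (A := k)
  rw [← sub_eq_zero]
  have hmem : f - g ∈ (⊥ : Ideal Γ(X.left, ⊤)).jacobson := by
    rw [Ideal.jacobson, Ideal.mem_sInf]
    rintro m ⟨-, hm⟩
    let : Field (Γ(X.left, ⊤) ⧸ m) := Ideal.Quotient.field m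
    have : Algebra.FiniteType k (Γ(X.left, ⊤) ⧸ m) :=
      Algebra.FiniteType.of_surjective (Ideal.Quotient.mkₐ k m) (Ideal.Quotient.mkₐ_surjective k m)
    have : Module.Finite k (Γ(X.left, ⊤) ⧸ m) := finite_of_finite_type_of_isJacobsonRing k _
    let e : k ≃ₐ[k] (Γ(X.left, ⊤) ⧸ m) :=
      AlgEquiv.ofBijective (Algebra.ofId k _) IsAlgClosed.algebraMap_bijective_of_isIntegral
    obtain ⟨x, hx⟩ := exists_pt (X := X) ((e.symm : _ →+* k).comp (Ideal.Quotient.mk m)) (fun c => by
      change e.symm (algebraMap k _ c) = c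
      exact e.symm.commutes c)
    rw [← Ideal.Quotient.eq_zero_iff_mem]
    apply (e.symm : (Γ(X.left, ⊤) ⧸ m) ≃ₐ[k] k).injective
    have : ev x (f - g) = 0 := by rw [map_sub, h, sub_self]
    rw [hx] at this
    rw [map_zero]; exact this
  have hbot : (⊥ : Ideal Γ(X.left, ⊤)).IsRadical := Ideal.isRadical_bot
  rw [IsJacobsonRing.out inferInstance hbot] at hmem
  exact hmem

/-- Morphisms from a reduced affine scheme of finite type to an affine scheme are determined on points. -/
theorem hom_ext_pts [IsAffine X.left] [LocallyOfFiniteType X.hom] [IsReduced X.left] [IsAffine Y.left]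
    {u v : X ⟶ Y} (h : ∀ x : pt k ⟶ X, x ≫ u = x ≫ v) : u = v := by
  refine Over.OverMorphism.ext (ext_of_isAffine ?_)
  ext g
  exact eq_of_ev_eq fun x => by rw [← ev_comp, ← ev_comp, h]

end Groth.Agent.Lib.WittU.Pts
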