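import Groth.Agent.Lib.WittU.WPts
import Groth.Agent.Lib.WittU.Witt
import Groth.Agent.Lib.WittU.Amitsur
import Groth.Agent.Lib.Tori.AffineDescent
import Groth.Prelude.Def_AlgGrp
import Mathlib.RingTheory.Flat.FaithfullyFlat.Algebra

/-!
# Extensions with Witt group kernel and affine base have scheme-theoretic sections
-/

universe u

open CategoryTheory CategoryTheory.Limits AlgebraicGeometry MonoidalCategory CartesianMonoidalCategory MonObj
open scoped TensorProduct

namespace Groth.Agent.Lib.WittU.Torsor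

open WittGrp Groth.Agent.Lib.WittU.Basic Groth.Agent.Lib.WittU.Pts Groth.Agent.Lib.WittU.WittReg
  Groth.Agent.Lib.WittU.WPts Groth.Agent.Lib.WittU.Witt Groth.Agent.Lib.WittU.Amitsur

/-! ### The ring-level vanishing -/

section Ring

variable {p : ℕ} [hp : Fact p.Prime] {A C : Type u} [CommRing A] [CommRing C] [Algebra A C]

/-- `c ↦ c ⊗ 1`. -/
noncomputable def j1 (A C : Type u) [CommRing A] [CommRing C] [Algebra A C] : C →+* C ⊗[A] C :=
  (Algebra.TensorProduct.includeLeft : C →ₐ[A] C ⊗[A] C).toRingHom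

/-- `c ↦ 1 ⊗ c`. -/
noncomputable def j2 (A C : Type u) [CommRing A] [CommRing C] [Algebra A C] : C →+* C ⊗[A] C :=
  (Algebra.TensorProduct.includeRight : C →ₐ[A] C ⊗[A] C).toRingHom

/-- Omit the first factor. -/
noncomputable def f23 (A C : Type u) [CommRing A] [CommRing C] [Algebra A C] :
    C ⊗[A] C →+* C ⊗[A] (C ⊗[A] C) :=
  (Algebra.TensorProduct.includeRight : C ⊗[A] C →ₐ[A] C ⊗[A] (C ⊗[A] C)).toRingHom

/-- Omit the middle factor. -/
noncomputable def f13 (A C : Type u) [CommRing A] [CommRing C] [Algebra A C] :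
    C ⊗[A] C →+* C ⊗[A] (C ⊗[A] C) :=
  (Algebra.TensorProduct.map (AlgHom.id A C)
    (Algebra.TensorProduct.includeRight : C →ₐ[A] C ⊗[A] C)).toRingHom

/-- Omit the last factor. -/
noncomputable def f12 (A C : Type u) [CommRing A] [CommRing C] [Algebra A C] :
    C ⊗[A] C →+* C ⊗[A] (C ⊗[A] C) :=
  (Algebra.TensorProduct.map (AlgHom.id A C)
    (Algebra.TensorProduct.includeLeft : C →ₐ[A] C ⊗[A] C)).toRingHom

omit hp in
theorem f23_j1 : (f23 A C).comp (j1 A C) = (f12 A C).comp (j2 A C) := RingHom.ext fun c => by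
  simp [f23, f12, j1, j2]

omit hp in
theorem f13_j1 : (f13 A C).comp (j1 A C) = (f12 A C).comp (j1 A C) := RingHom.ext fun c => by
  simp [f13, f12, j1, Algebra.TensorProduct.one_def]

omit hp in
theorem f13_j2 : (f13 A C).comp (j2 A C) = (f23 A C).comp (j2 A C) := RingHom.ext fun c => by
  simp [f13, f23, j2]

omit hp in
theorem d1_eq (x : C ⊗[A] C) : d1 A C x = f23 A C x - f13 A C x + f12 A C x := by
  induction x using TensorProduct.induction_on with
  | zero => simp
  | add a b ha hb => simp only [map_add, ha, hb]; abel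
  | tmul y z => simp [d1_tmul, f23, f13, f12]

theorem coeff_sub_zero {R : Type u} [CommRing R] {n : ℕ} (x y : TruncatedWittVector p (n + 1) R) :
    (x - y).coeff 0 = x.coeff 0 - y.coeff 0 := map_sub (coeff0 n) x y

theorem exists_witt_of_cocycle [Module.FaithfullyFlat A C] : ∀ (n : ℕ) (t : TruncatedWittVector p n (C ⊗[A] C)),
    truncMap p n (f23 A C) t - truncMap p n (f13 A C) t + truncMap p n (f12 A C) t = 0 →
    ∃ s, truncMap p n (j1 A C) s - truncMap p n (j2 A C) s = t := by
  intro n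
  induction n with
  | zero => exact fun t _ => ⟨0, TruncatedWittVector.ext fun i => i.elim0⟩
  | succ n ih =>
    intro t ht
    have h0 : d1 A C (t.coeff 0) = 0 := by
      have h := congrArg (coeff0 n) ht
      rw [map_add, map_sub, map_zero] at h
      simp only [coeff0_apply, coeff_truncMap] at h
      rw [d1_eq]; exact h
    obtain ⟨s0, hs0⟩ := exists_of_cocycle A C h0
    let u := t - (truncMap p (n + 1) (j1 A C) (teich p (n + 1) s0) - truncMap p (n + 1) (j2 A C) (teich p (n + 1) s0))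
    have hu0 : u.coeff 0 = 0 := by
      rw [coeff_sub_zero, coeff_sub_zero, coeff_truncMap, coeff_truncMap, coeff_teich_zero, sub_eq_zero]
      exact hs0.symm
    have hu := exists_shift_of_coeff_zero u hu0
    have hcu : truncMap p (n + 1) (f23 A C) u - truncMap p (n + 1) (f13 A C) u + truncMap p (n + 1) (f12 A C) u = 0 := by
      simp only [u, map_sub, ← RingHom.comp_apply, ← truncMap_comp, f23_j1, f13_j1, f13_j2] at ht ⊢
      rw [← ht]
      abel
    obtain ⟨s', hs'⟩ := ih (dropW (Nat.le_succ n) u) (shift_injective (Nat.le_succ n) (by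
      rw [map_zero, map_add, map_sub, ← truncMap_shift, ← truncMap_shift, ← truncMap_shift, ← hu, hcu]))
    refine ⟨teich p (n + 1) s0 + shift p (Nat.le_succ n) s', ?_⟩
    rw [map_add, map_add, truncMap_shift, truncMap_shift, add_sub_add_comm, ← map_sub, hs', ← hu]
    exact add_sub_cancel _ _

end Ring

/-! ### The scheme-level section -/

section Scheme

variable {k : Type u} [Field k] {X : Over (base k)}

theorem appTop_lift [IsAffine X.left] {T : Over (base k)} (φ : Γ(X.left, ⊤) →+* Γ(T.left, ⊤)) :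
    (T.left.toSpecΓ ≫ Spec.map (CommRingCat.ofHom φ) ≫ X.left.isoSpec.inv).appTop = CommRingCat.ofHom φ := by
  apply (ΓSpec.adjunction.homEquiv T.left (Opposite.op Γ(X.left, ⊤))).injective.comp Quiver.Hom.op_inj
  simp only [Function.comp, Adjunction.homEquiv_unit, ΓSpec.adjunction_unit_app, Scheme.Spec_map,
    Quiver.Hom.unop_op]
  refine (Scheme.toSpecΓ_naturality _).symm.trans ?_
  simp only [Category.assoc]
  rw [← Scheme.isoSpec_hom X.left, Iso.inv_hom_id, Category.comp_id]
  rfl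

/-- The morphism into an affine scheme with given pullback on functions. -/
noncomputable def homOfRingHom [IsAffine X.left] {T : Over (base k)} (φ : Γ(X.left, ⊤) →+* Γ(T.left, ⊤))
    (hφ : ∀ c, φ (scal X c) = scal T c) : T ⟶ X :=
  Over.homMk (T.left.toSpecΓ ≫ Spec.map (CommRingCat.ofHom φ) ≫ X.left.isoSpec.inv) (by
    apply ext_of_isAffine
    rw [Scheme.Hom.comp_appTop, appTop_lift]
    ext c
    change φ (X.hom.appTop c) = T.hom.appTop c
    have := hφ (baseEquiv c)
    simpa [scal] using this)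

theorem appTop_homOfRingHom [IsAffine X.left] {T : Over (base k)} (φ : Γ(X.left, ⊤) →+* Γ(T.left, ⊤))
    (hφ : ∀ c, φ (scal X c) = scal T c) : (homOfRingHom φ hφ).left.appTop = CommRingCat.ofHom φ :=
  appTop_lift φ

theorem appTop_homOfRingHom_apply [IsAffine X.left] {T : Over (base k)} (φ : Γ(X.left, ⊤) →+* Γ(T.left, ⊤))
    (hφ : ∀ c, φ (scal X c) = scal T c) (c : Γ(X.left, ⊤)) : (homOfRingHom φ hφ).left.appTop c = φ c := by
  rw [appTop_homOfRingHom]; rfl

theorem hom_ext_appTop [IsAffine X.left] {T : Over (base k)} {f g : T ⟶ X}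
    (h : ∀ c, f.left.appTop c = g.left.appTop c) : f = g :=
  Over.OverMorphism.ext (ext_of_isAffine (by ext c; exact h c))

/-- `Spec` of a ring with a map from `k`. -/
noncomputable abbrev specOver {R : Type u} [CommRing R] (ρ : k →+* R) : Over (base k) :=
  Over.mk (Spec.map (CommRingCat.ofHom ρ))

/-- Functions on `Spec R`. -/
noncomputable def specFn {R : Type u} [CommRing R] (ρ : k →+* R) : Γ((specOver ρ).left, ⊤) ≃+* R :=
  (Scheme.ΓSpecIso (CommRingCat.of R)).commRingCatIsoToRingEquiv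

instance isAffine_specOver {R : Type u} [CommRing R] (ρ : k →+* R) : IsAffine (specOver ρ).left :=
  inferInstanceAs (IsAffine (Spec (CommRingCat.of R)))

theorem specFn_scal {R : Type u} [CommRing R] (ρ : k →+* R) (c : k) : specFn ρ (scal (specOver ρ) c) = ρ c := by
  have h := congr($(Scheme.ΓSpecIso_naturality (CommRingCat.ofHom ρ)).hom
    ((baseEquiv (k := k)).symm c))
  refine h.trans ?_
  change ρ (baseEquiv ((baseEquiv (k := k)).symm c)) = ρ c
  rw [RingEquiv.apply_symm_apply]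

theorem specFn_symm_scal {R : Type u} [CommRing R] (ρ : k →+* R) (c : k) :
    (specFn ρ).symm (ρ c) = scal (specOver ρ) c := by
  rw [← specFn_scal ρ c, RingEquiv.symm_apply_apply]

/-- The `R`-point of an affine scheme given by a ring map. -/
noncomputable def specPt [IsAffine X.left] {R : Type u} [CommRing R] (ρ : k →+* R) (φ : Γ(X.left, ⊤) →+* R)
    (hφ : ∀ c, φ (scal X c) = ρ c) : specOver ρ ⟶ X :=
  homOfRingHom ((specFn ρ).symm.toRingHom.comp φ) fun c =>
    (congrArg (specFn ρ).symm (hφ c)).trans (specFn_symm_scal ρ c)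

theorem specFn_appTop_specPt [IsAffine X.left] {R : Type u} [CommRing R] (ρ : k →+* R) (φ : Γ(X.left, ⊤) →+* R)
    (hφ : ∀ c, φ (scal X c) = ρ c) (c : Γ(X.left, ⊤)) :
    specFn ρ ((specPt ρ φ hφ).left.appTop c) = φ c := by
  rw [specPt, appTop_homOfRingHom_apply]
  exact (specFn ρ).apply_symm_apply _

theorem spec_hom_ext [IsAffine X.left] {R : Type u} [CommRing R] (ρ : k →+* R) {x y : specOver ρ ⟶ X}
    (h : ∀ c, specFn ρ (x.left.appTop c) = specFn ρ (y.left.appTop c)) : x = y :=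
  hom_ext_appTop fun c => (specFn ρ).injective (h c)

theorem specFn_appTop_comp {Y : Over (base k)} {R : Type u} [CommRing R] (ρ : k →+* R) (x : specOver ρ ⟶ X)
    (u : X ⟶ Y) (c : Γ(Y.left, ⊤)) :
    specFn ρ ((x ≫ u).left.appTop c) = specFn ρ (x.left.appTop (u.left.appTop c)) := by
  rw [Over.comp_left, Scheme.Hom.comp_appTop, CommRingCat.comp_apply]

/-- A ring map gives a morphism between spectra. -/
noncomputable def specMap {R R' : Type u} [CommRing R] [CommRing R'] (ρ : k →+* R) (ρ' : k →+* R')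
    (f : R →+* R') (hf : ∀ c, f (ρ c) = ρ' c) : specOver ρ' ⟶ specOver ρ :=
  specPt ρ' (f.comp (specFn ρ).toRingHom) fun c => (congrArg f (specFn_scal ρ c)).trans (hf c)

theorem specFn_specMap_comp [IsAffine X.left] {R R' : Type u} [CommRing R] [CommRing R'] (ρ : k →+* R)
    (ρ' : k →+* R') (f : R →+* R') (hf : ∀ c, f (ρ c) = ρ' c) (x : specOver ρ ⟶ X) (c : Γ(X.left, ⊤)) :
    specFn ρ' ((specMap ρ ρ' f hf ≫ x).left.appTop c) = f (specFn ρ (x.left.appTop c)) := by
  rw [specFn_appTop_comp, specMap, specFn_appTop_specPt]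
  rfl

/-- The Witt vector of an `R`-point of `W n`. -/
noncomputable def specWitt {p : ℕ} [Fact p.Prime] {n : ℕ} {R : Type u} [CommRing R] (ρ : k →+* R)
    (x : specOver ρ ⟶ W p n (base k)) : TruncatedWittVector p n R :=
  truncMap p n (specFn ρ).toRingHom (pts p _ (Additive.ofMul x))

theorem coeff_specWitt {p : ℕ} [Fact p.Prime] {n : ℕ} {R : Type u} [CommRing R] (ρ : k →+* R)
    (x : specOver ρ ⟶ W p n (base k)) (l : Fin n) :
    (specWitt ρ x).coeff l = specFn ρ (x.left.appTop (coord p l)) := by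
  rw [specWitt, coeff_truncMap, coeff_pts]
  rfl

theorem specWitt_mul {p : ℕ} [Fact p.Prime] {n : ℕ} {R : Type u} [CommRing R] (ρ : k →+* R)
    (x y : specOver ρ ⟶ W p n (base k)) : specWitt ρ (x * y) = specWitt ρ x + specWitt ρ y := by
  rw [specWitt, specWitt, specWitt, pts_mul, map_add]

theorem specWitt_inv {p : ℕ} [Fact p.Prime] {n : ℕ} {R : Type u} [CommRing R] (ρ : k →+* R)
    (x : specOver ρ ⟶ W p n (base k)) : specWitt ρ x⁻¹ = - specWitt ρ x := by
  rw [specWitt, specWitt, ofMul_inv, map_neg, map_neg]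

theorem specWitt_injective {p : ℕ} [Fact p.Prime] {n : ℕ} {R : Type u} [CommRing R] (ρ : k →+* R) :
    Function.Injective (specWitt (p := p) (n := n) ρ) := fun x y h => hom_ext' fun l => by
  have h1 := congrArg (fun v => v.coeff l) h
  simp only [coeff_specWitt] at h1
  rw [coeff_pts, coeff_pts]
  exact (specFn ρ).injective h1

theorem specWitt_specMap {p : ℕ} [Fact p.Prime] {n : ℕ} {R R' : Type u} [CommRing R] [CommRing R']
    (ρ : k →+* R) (ρ' : k →+* R') (f : R →+* R') (hf : ∀ c, f (ρ c) = ρ' c)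
    (x : specOver ρ ⟶ W p n (base k)) :
    specWitt ρ' (specMap ρ ρ' f hf ≫ x) = truncMap p n f (specWitt ρ x) :=
  TruncatedWittVector.ext fun l => by rw [coeff_truncMap, coeff_specWitt, coeff_specWitt, specFn_specMap_comp]

variable {p : ℕ} [hp : Fact p.Prime] {a : ℕ} {E B : Over (base k)} [GrpObj E] [IsCommMonObj E] [GrpObj B]
  {i : W p a (base k) ⟶ E} [IsMonHom i] {π : E ⟶ B} [IsMonHom π]

variable (hker : AlgGrp.IsKernel i π)

include hker

omit [IsCommMonObj E] [IsMonHom i] [IsMonHom π] in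
theorem mono_kernel {T : Over (base k)} {u v : T ⟶ W p a (base k)} (h : u ≫ i = v ≫ i) : u = v :=
  hker.hom_ext h (toUnit_unique _ _)

/-- The difference of two points in the same fibre. -/
noncomputable def diff {T : Over (base k)} (x y : T ⟶ E) (h : x ≫ π = y ≫ π) : T ⟶ W p a (base k) :=
  hker.lift (x * y⁻¹) (toUnit T) (by
    rw [MonObj.mul_comp, GrpObj.inv_comp, h, mul_inv_cancel, Hom.one_def])

theorem diff_comp_i {T : Over (base k)} (x y : T ⟶ E) (h : x ≫ π = y ≫ π) :
    diff hker x y h ≫ i = x * y⁻¹ := hker.lift_fst _ _ _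

omit [IsCommMonObj E] [IsMonHom i] [IsMonHom π] in
theorem i_comp_π : i ≫ π = 1 := by rw [hker.w, Hom.one_def]

/-- The torsor square. -/
theorem isPullback_torsor :
    IsPullback ((fst (W p a (base k)) E ≫ i) * snd (W p a (base k)) E) (snd (W p a (base k)) E) π π := by
  have hw : ((fst (W p a (base k)) E ≫ i) * snd (W p a (base k)) E) ≫ π = snd (W p a (base k)) E ≫ π := by
    rw [MonObj.mul_comp, Category.assoc, i_comp_π hker, MonObj.comp_one, _root_.one_mul]
  refine IsPullback.of_isLimit' ⟨hw⟩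
    (PullbackCone.IsLimit.mk _ (fun s => lift (diff hker s.fst s.snd s.condition) s.snd) (fun s => ?_) (fun s => ?_)
      (fun s l h1 h2 => ?_))
  · change lift (diff hker s.fst s.snd s.condition) s.snd ≫ ((fst (W p a (base k)) E ≫ i) * snd (W p a (base k)) E) = s.fst
    rw [MonObj.comp_mul, lift_fst_assoc, lift_snd, diff_comp_i, inv_mul_cancel_right]
  · exact lift_snd _ _
  · refine CartesianMonoidalCategory.hom_ext _ _ (mono_kernel hker ?_) (by rw [lift_snd, h2])
    rw [lift_fst, diff_comp_i, ← h1, ← h2, MonObj.comp_mul, mul_inv_cancel_right, Category.assoc]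

variable [Flat π.left] [Surjective π.left]

theorem isAffineHom_π [QuasiCompact E.hom] [IsSeparated B.hom] : IsAffineHom π.left := by
  have : QuasiCompact (π.left ≫ B.hom) := by rw [Over.w]; infer_instance
  have : QuasiCompact π.left := QuasiCompact.of_comp π.left B.hom
  have hsq := (isPullback_torsor hker).map (Over.forget _)
  have hsnd : IsAffineHom (snd (W p a (base k)) E).left :=
    MorphismProperty.pullback_snd (P := @IsAffineHom) _ _ inferInstance
  have := Groth.Agent.Lib.Tori.AffineDescent.descendsAlong_isAffineHom.{u}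
  exact MorphismProperty.of_isPullback_of_descendsAlong (P := @IsAffineHom)
    (Q := @Surjective ⊓ @Flat ⊓ @QuasiCompact) hsq.flip ⟨⟨‹_›, ‹_›⟩, ‹_›⟩ hsnd

theorem isAffine_E [IsAffine B.left] [QuasiCompact E.hom] : IsAffine E.left := by
  have : IsSeparated B.hom := inferInstance
  have := isAffineHom_π hker
  exact isAffine_of_isAffineHom π.left

omit [Flat π.left] [Surjective π.left] in
theorem exists_retract [IsAffine E.left] {R R' : Type u} [CommRing R] [CommRing R']
    (ρ : k →+* R) (ρ' : k →+* R') (f₁₂ f₁₃ f₂₃ : R →+* R') (h12 : ∀ c, f₁₂ (ρ c) = ρ' c)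
    (h13 : ∀ c, f₁₃ (ρ c) = ρ' c) (h23 : ∀ c, f₂₃ (ρ c) = ρ' c) (x y : specOver ρ ⟶ E) (hxy : x ≫ π = y ≫ π)
    (e1 : specMap ρ ρ' f₂₃ h23 ≫ x = specMap ρ ρ' f₁₂ h12 ≫ y)
    (e2 : specMap ρ ρ' f₁₃ h13 ≫ x = specMap ρ ρ' f₁₂ h12 ≫ x)
    (e3 : specMap ρ ρ' f₁₃ h13 ≫ y = specMap ρ ρ' f₂₃ h23 ≫ y)
    (hlift : ∀ t : TruncatedWittVector p a R,
      truncMap p a f₂₃ t - truncMap p a f₁₃ t + truncMap p a f₁₂ t = 0 →
      ∃ s : TruncatedWittVector p a Γ(E.left, ⊤), truncMap p a ((specFn ρ).toRingHom.comp x.left.appTop.hom) s -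
        truncMap p a ((specFn ρ).toRingHom.comp y.left.appTop.hom) s = t) :
    ∃ sE : E ⟶ W p a (base k), x ≫ (𝟙 E * (sE ≫ i)⁻¹) = y ≫ (𝟙 E * (sE ≫ i)⁻¹) := by
  let τ := diff hker x y hxy
  have hcocy : (specMap ρ ρ' f₁₂ h12 ≫ τ) * (specMap ρ ρ' f₂₃ h23 ≫ τ) = specMap ρ ρ' f₁₃ h13 ≫ τ :=
    mono_kernel hker (by
      rw [MonObj.mul_comp, Category.assoc, Category.assoc, Category.assoc, diff_comp_i,
        MonObj.comp_mul, MonObj.comp_mul, MonObj.comp_mul, GrpObj.comp_inv, GrpObj.comp_inv, GrpObj.comp_inv,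
        e1, e2, e3]
      group)
  have hsum := congrArg (specWitt ρ') hcocy
  rw [specWitt_mul, specWitt_specMap, specWitt_specMap, specWitt_specMap] at hsum
  obtain ⟨s, hs⟩ := hlift (specWitt ρ τ) (by rw [← hsum]; abel)
  refine ⟨mkPt fun l => s.coeff l, ?_⟩
  have hm : ∀ z : specOver ρ ⟶ E, specWitt ρ (z ≫ mkPt fun l => s.coeff l) =
      truncMap p a ((specFn ρ).toRingHom.comp z.left.appTop.hom) s := fun z => TruncatedWittVector.ext fun l => by
    rw [coeff_specWitt, coeff_truncMap, specFn_appTop_comp]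
    have h := coeff_mkPt (p := p) (S := base k) (T := E) (fun l => s.coeff l) l
    rw [coeff_pts] at h
    rw [h]
    rfl
  have hsx : (x ≫ mkPt fun l => s.coeff l) * (y ≫ mkPt fun l => s.coeff l)⁻¹ = τ :=
    specWitt_injective ρ (by rw [specWitt_mul, specWitt_inv, hm, hm, ← sub_eq_add_neg, hs])
  have h1 := congrArg (· ≫ i) hsx
  simp only [MonObj.mul_comp, GrpObj.inv_comp, Category.assoc] at h1
  rw [diff_comp_i] at h1
  simp only [MonObj.comp_mul, GrpObj.comp_inv, Category.comp_id]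
  letI : CommGroup (specOver ρ ⟶ E) := Hom.commGroup
  rw [← div_eq_mul_inv, ← div_eq_mul_inv, div_eq_div_iff_mul_eq_mul]
  rw [← div_eq_mul_inv, ← div_eq_mul_inv, div_eq_div_iff_mul_eq_mul] at h1
  exact h1.symm.trans (_root_.mul_comm _ _)

/-- An extension of an affine group by a Witt group has a section. -/
theorem exists_section [IsAffine B.left] [QuasiCompact E.hom] : ∃ σ : B ⟶ E, σ ≫ π = 𝟙 B := by
  have := isAffine_E hker
  let : Algebra Γ(B.left, ⊤) Γ(E.left, ⊤) := π.left.appTop.hom.toAlgebra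
  have hflat : Module.Flat Γ(B.left, ⊤) Γ(E.left, ⊤) := Scheme.Hom.flat_appTop (f := π.left)
  have hsurj : Surjective (Spec.map π.left.appTop) := by
    have e : Spec.map π.left.appTop = E.left.isoSpec.inv ≫ π.left ≫ B.left.isoSpec.hom := by
      rw [← Scheme.isoSpec_inv_naturality_assoc, Iso.inv_hom_id, Category.comp_id]
    rw [e]; infer_instance
  have : Module.FaithfullyFlat Γ(B.left, ⊤) Γ(E.left, ⊤) :=
    Module.FaithfullyFlat.of_comap_surjective hsurj.surj
  let J1 := j1 Γ(B.left, ⊤) Γ(E.left, ⊤)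
  let J2 := j2 Γ(B.left, ⊤) Γ(E.left, ⊤)
  let F12 := f12 Γ(B.left, ⊤) Γ(E.left, ⊤)
  let ρ := J1.comp (scal E)
  have hj : ∀ c : Γ(B.left, ⊤), J1 (π.left.appTop c) = J2 (π.left.appTop c) := fun c =>
    (AlgHom.commutes (Algebra.TensorProduct.includeLeft :
      Γ(E.left, ⊤) →ₐ[Γ(B.left, ⊤)] Γ(E.left, ⊤) ⊗[Γ(B.left, ⊤)] Γ(E.left, ⊤)) c).trans
    (AlgHom.commutes (Algebra.TensorProduct.includeRight :
      Γ(E.left, ⊤) →ₐ[Γ(B.left, ⊤)] Γ(E.left, ⊤) ⊗[Γ(B.left, ⊤)] Γ(E.left, ⊤)) c).symm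
  have hρ2 : ∀ c, J2 (scal E c) = ρ c := fun c => by
    change J2 (scal E c) = J1 (scal E c)
    rw [← appTop_scal π c, hj]
  let x : specOver ρ ⟶ E := specPt ρ J1 fun c => rfl
  let y : specOver ρ ⟶ E := specPt ρ J2 hρ2
  have hx : ∀ c, specFn ρ (x.left.appTop c) = J1 c := specFn_appTop_specPt ρ J1 _
  have hy : ∀ c, specFn ρ (y.left.appTop c) = J2 c := specFn_appTop_specPt ρ J2 _
  have hxy : x ≫ π = y ≫ π := spec_hom_ext ρ fun c => by
    rw [specFn_appTop_comp, specFn_appTop_comp, hx, hy, hj]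
  let ρ3 := F12.comp ρ
  have h12 : ∀ c, F12 (ρ c) = ρ3 c := fun c => rfl
  have h13 : ∀ c, f13 _ _ (ρ c) = ρ3 c := fun c => RingHom.congr_fun f13_j1 (scal E c)
  have h23 : ∀ c, f23 _ _ (ρ c) = ρ3 c := fun c =>
    (RingHom.congr_fun f23_j1 (scal E c)).trans (congrArg F12 (hρ2 c))
  have ex : (specFn ρ).toRingHom.comp x.left.appTop.hom = J1 := RingHom.ext hx
  have ey : (specFn ρ).toRingHom.comp y.left.appTop.hom = J2 := RingHom.ext hy
  obtain ⟨sE, hr⟩ := exists_retract hker ρ ρ3 F12 (f13 _ _) (f23 _ _) h12 h13 h23 x y hxy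
    (spec_hom_ext ρ3 fun c => by
      rw [specFn_specMap_comp, specFn_specMap_comp, hx, hy]; exact RingHom.congr_fun f23_j1 c)
    (spec_hom_ext ρ3 fun c => by
      rw [specFn_specMap_comp, specFn_specMap_comp, hx]; exact RingHom.congr_fun f13_j1 c)
    (spec_hom_ext ρ3 fun c => by
      rw [specFn_specMap_comp, specFn_specMap_comp, hy]; exact RingHom.congr_fun f13_j2 c)
    (fun t ht => by
      rw [ex, ey]
      exact exists_witt_of_cocycle a t ht)
  let r : E ⟶ E := 𝟙 E * (sE ≫ i)⁻¹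
  have hmem : ∀ c, r.left.appTop c ∈ (algebraMap Γ(B.left, ⊤) Γ(E.left, ⊤)).range := fun c => by
    refine mem_range_of_tmul_comm _ _ ?_
    have h1 : specFn ρ ((x ≫ r).left.appTop c) = specFn ρ ((y ≫ r).left.appTop c) := by rw [hr]
    rw [specFn_appTop_comp, specFn_appTop_comp, hx, hy] at h1
    exact h1
  have hinj : Function.Injective (algebraMap Γ(B.left, ⊤) Γ(E.left, ⊤)) :=
    FaithfulSMul.algebraMap_injective _ _
  choose φ hφ using hmem
  let φ' : Γ(E.left, ⊤) →+* Γ(B.left, ⊤) :=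
    { toFun := φ
      map_one' := hinj (by rw [hφ, map_one, map_one])
      map_zero' := hinj (by rw [hφ, map_zero, map_zero])
      map_mul' := fun a b => hinj (by rw [hφ, map_mul, map_mul, hφ, hφ])
      map_add' := fun a b => hinj (by rw [hφ, map_add, map_add, hφ, hφ]) }
  let σ : B ⟶ E := homOfRingHom φ' fun c => hinj (by
    change algebraMap _ _ (φ (scal E c)) = π.left.appTop (scal B c)
    rw [hφ, appTop_scal, appTop_scal])
  have hσ : π ≫ σ = r := hom_ext_appTop fun c => by
    rw [Over.comp_left, Scheme.Hom.comp_appTop, CommRingCat.comp_apply, appTop_homOfRingHom_apply]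
    exact hφ c
  have hrπ : π ≫ σ ≫ π = π := by
    rw [← Category.assoc, hσ, MonObj.mul_comp, Category.id_comp, GrpObj.inv_comp,
      Category.assoc, i_comp_π hker, MonObj.comp_one, inv_one, _root_.mul_one]
  refine ⟨σ, hom_ext_appTop fun c => hinj ?_⟩
  have h2 := congrArg (fun u : E ⟶ B => u.left.appTop c) hrπ
  simp only [Over.comp_left, Scheme.Hom.comp_appTop, CommRingCat.comp_apply] at h2
  refine h2.trans ?_
  simp
  rfl

end Scheme

end Groth.Agent.Lib.WittU.Torsor
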