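import Groth.Agent.Lib.WittU.UnipChar
import Groth.Agent.Lib.WittU.Lazard
import Mathlib.RingTheory.Nullstellensatz
import Mathlib.Algebra.MvPolynomial.Funext

/-!
# Towers of extensions by the additive group, on points

A tower is a group of points obtained from the trivial one by successive extensions by `k` given by regular
symmetric cocycles; it carries regular coordinates.
-/

universe u v w

namespace Groth.Agent.Lib.WittU.Twr

open Groth.Agent.Lib.WittU.Reg Groth.Agent.Lib.WittU.Lazard Groth.Agent.Lib.WittU.UnipChar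

variable {k : Type u} [Field k]

/-- A regular symmetric cocycle with values in `k`. -/
structure Cocy (k : Type u) [Field k] (H : Type v) [AddCommGroup H] [RegSpace k H] where
  /-- the underlying function -/
  toFun : H → H → k
  isCocycle : IsCocycle toFun
  isReg : IsReg fun z : H × H => toFun z.1 z.2

instance {H : Type v} [AddCommGroup H] [RegSpace k H] : CoeFun (Cocy k H) (fun _ => H → H → k) :=
  ⟨Cocy.toFun⟩

variable {H : Type v} [AddCommGroup H] [RegSpace k H]

/-- The extension defined by a cocycle. -/
structure CExt (c : Cocy k H) where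
  /-- the image in the quotient -/
  base : H
  /-- the coordinate along the kernel -/
  fib : k

variable {c : Cocy k H}

theorem CExt.ext' {a b : CExt c} (h : a.base = b.base) (h' : a.fib = b.fib) : a = b := by
  cases a; cases b; cases h; cases h'; rfl

noncomputable instance : Add (CExt c) := ⟨fun a b => ⟨a.base + b.base, a.fib + b.fib + c a.base b.base⟩⟩

noncomputable instance : Zero (CExt c) := ⟨⟨0, - c 0 0⟩⟩

noncomputable instance : Neg (CExt c) := ⟨fun a => ⟨- a.base, - a.fib - c a.base (- a.base) - c 0 0⟩⟩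

noncomputable instance : AddCommGroup (CExt c) where
  nsmul := nsmulRec
  zsmul := zsmulRec
  add_assoc a b d := CExt.ext' (add_assoc _ _ _) (by
    change a.fib + b.fib + c a.base b.base + d.fib + c (a.base + b.base) d.base =
      a.fib + (b.fib + d.fib + c b.base d.base) + c a.base (b.base + d.base)
    linear_combination c.isCocycle.assoc a.base b.base d.base)
  zero_add a := CExt.ext' (zero_add _) (by
    change - c 0 0 + a.fib + c 0 a.base = a.fib
    rw [c.isCocycle.symm 0 a.base, c.isCocycle.right_zero a.base]; ring)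
  add_zero a := CExt.ext' (add_zero _) (by
    change a.fib + - c 0 0 + c a.base 0 = a.fib
    rw [c.isCocycle.right_zero a.base]; ring)
  add_comm a b := CExt.ext' (add_comm _ _) (by
    change a.fib + b.fib + c a.base b.base = b.fib + a.fib + c b.base a.base
    rw [c.isCocycle.symm]; ring)
  neg_add_cancel a := CExt.ext' (neg_add_cancel _) (by
    change - a.fib - c a.base (- a.base) - c 0 0 + a.fib + c (- a.base) a.base = - c 0 0
    rw [c.isCocycle.symm (- a.base)]; ring)

theorem add_base (a b : CExt c) : (a + b).base = a.base + b.base := rfl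

theorem add_fib (a b : CExt c) : (a + b).fib = a.fib + b.fib + c a.base b.base := rfl

theorem zero_base : (0 : CExt c).base = 0 := rfl

theorem zero_fib : (0 : CExt c).fib = - c 0 0 := rfl

/-- The projection of an extension. -/
noncomputable def proj (c : Cocy k H) : CExt c →+ H := AddMonoidHom.mk' CExt.base add_base

/-- The kernel of an extension. -/
noncomputable def incl (c : Cocy k H) : k →+ CExt c :=
  AddMonoidHom.mk' (fun t => ⟨0, t - c 0 0⟩) fun s t => CExt.ext' (zero_add _).symm (by
    change s + t - c 0 0 = s - c 0 0 + (t - c 0 0) + c 0 0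
    ring)

/-- The standard section. -/
def sect (c : Cocy k H) (v : H) : CExt c := ⟨v, 0⟩

theorem incl_base (t : k) : (incl c t).base = 0 := rfl

theorem incl_fib (t : k) : (incl c t).fib = t - c 0 0 := rfl

theorem sect_add_incl (z : CExt c) : sect c z.base + incl c z.fib = z :=
  CExt.ext' (add_zero _) (by
    change 0 + (z.fib - c 0 0) + c z.base 0 = z.fib
    rw [c.isCocycle.right_zero z.base]; ring)

theorem sect_add (v w : H) : sect c v + sect c w = sect c (v + w) + incl c (c v w) :=
  CExt.ext' (add_zero _).symm (by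
    change 0 + 0 + c v w = 0 + (c v w - c 0 0) + c (v + w) 0
    rw [c.isCocycle.right_zero (v + w)]; ring)

/-- Composition with a map, on functions. -/
def pullFn {X : Type v} {Y : Type w} (φ : X → Y) : (Y → k) →ₐ[k] (X → k) where
  toFun g := g ∘ φ
  map_one' := rfl
  map_mul' _ _ := rfl
  map_zero' := rfl
  map_add' _ _ := rfl
  commutes' _ := rfl

noncomputable instance : RegSpace k (CExt c) :=
  ⟨(RegSpace.reg : Subalgebra k (H × k → k)).map (pullFn fun z : CExt c => (z.base, z.fib))⟩

theorem isReg_cext {g : CExt c → k} : IsReg g ↔ IsReg (fun z : H × k => g ⟨z.1, z.2⟩) := by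
  constructor
  · rintro ⟨G, hG, rfl⟩
    exact hG
  · intro h
    exact ⟨_, h, rfl⟩

theorem isRegMap_base : IsRegMap k (CExt.base : CExt c → H) := fun g hg =>
  isReg_cext.mpr (isRegMap_fst g hg)

theorem isReg_fib : IsReg (CExt.fib : CExt c → k) := isReg_cext.mpr (isRegMap_snd _ isReg_id)

theorem isRegMap_mkExt {Y : Type w} [RegSpace k Y] {a : Y → H} {b : Y → k} (ha : IsRegMap k a) (hb : IsReg b) :
    IsRegMap k (fun y => (⟨a y, b y⟩ : CExt c)) := fun g hg =>
  IsRegMap.prod ha (isRegMap_iff_isReg.mpr hb) _ (isReg_cext.mp hg)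

theorem isRegMap_sect : IsRegMap k (sect c) := isRegMap_mkExt isRegMap_id' (isReg_const 0)

theorem isRegMap_incl : IsRegMap k (incl c) :=
  isRegMap_mkExt (isRegMap_const 0) (isReg_id'.sub (isReg_const _))

instance [RegAddGroup k H] : RegAddGroup k (CExt c) where
  reg_add := by
    have hb1 : IsRegMap k (fun z : CExt c × CExt c => z.1.base) := IsRegMap.comp isRegMap_base isRegMap_fst
    have hb2 : IsRegMap k (fun z : CExt c × CExt c => z.2.base) := IsRegMap.comp isRegMap_base isRegMap_snd
    exact isRegMap_mkExt (hb1.add hb2)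
      (((isReg_fib.comp isRegMap_fst).add (isReg_fib.comp isRegMap_snd)).add (c.isReg.comp (hb1.prod hb2)))
  reg_neg := by
    have hb : IsRegMap k (fun z : CExt c => - z.base) := IsRegMap.neg isRegMap_base
    exact isRegMap_mkExt hb ((isReg_fib.neg.sub (c.isReg.comp (isRegMap_base.prod hb))).sub (isReg_const _))

noncomputable instance : RegSpace k PUnit.{u + 1} := ⟨⊤⟩

instance : RegAddGroup k PUnit.{u + 1} :=
  ⟨fun g _ => isReg_const (g PUnit.unit), fun g _ => isReg_const (g PUnit.unit)⟩

/-- Towers. -/
inductive IsTwr (k : Type u) [Field k] : (H : Type u) → [AddCommGroup H] → [RegSpace k H] → ℕ → Prop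
  | zero : IsTwr k PUnit.{u + 1} 0
  | ext {H : Type u} [AddCommGroup H] [RegSpace k H] {s : ℕ} (c : Cocy k H) :
      IsTwr k H s → IsTwr k (CExt c) (s + 1)

theorem IsTwr.regAddGroup {H : Type u} [AddCommGroup H] [RegSpace k H] {s : ℕ} (h : IsTwr k H s) :
    RegAddGroup k H := by
  induction h with
  | zero => infer_instance
  | ext c _ ih => infer_instance

/-- A tower with its structure. -/
structure Tower (k : Type u) [Field k] where
  /-- the points -/
  H : Type u
  [grp : AddCommGroup H]
  [rs : RegSpace k H]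
  [rag : RegAddGroup k H]
  /-- the number of steps -/
  dim : ℕ
  isTwr : IsTwr k H dim

attribute [instance] Tower.grp Tower.rs Tower.rag

/-- Regular coordinates. -/
structure Coord (k : Type u) [Field k] (H : Type v) [RegSpace k H] (s : ℕ) where
  /-- the bijection -/
  e : H ≃ (Fin s → k)
  reg : IsRegMap k e
  reg_symm : IsRegMap k e.symm

theorem IsTwr.coord {H : Type u} [AddCommGroup H] [RegSpace k H] {s : ℕ} (h : IsTwr k H s) :
    Nonempty (Coord k H s) := by
  induction h with
  | zero =>
    exact ⟨⟨⟨fun _ => Fin.elim0, fun _ => PUnit.unit, fun _ => rfl, fun _ => funext fun i => i.elim0⟩,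
      isRegMap_pi.mpr fun i => i.elim0, isRegMap_const _⟩⟩
  | @ext H₀ _ _ s c _ ih =>
    obtain ⟨⟨e, he, he'⟩⟩ := ih
    let E : CExt c ≃ (Fin (s + 1) → k) :=
      { toFun := fun z => Fin.snoc (e z.base) z.fib
        invFun := fun f => ⟨e.symm (Fin.init f), f (Fin.last s)⟩
        left_inv := fun z => CExt.ext' (by simp) (by simp)
        right_inv := fun f => by simp [Fin.snoc_init_self] }
    refine ⟨⟨E, isRegMap_pi.mpr fun i => ?_, ?_⟩⟩
    · refine i.lastCases ?_ (fun j => ?_)
      · simp only [E, Equiv.coe_fn_mk, Fin.snoc_last]; exact isReg_fib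
      · simp only [E, Equiv.coe_fn_mk, Fin.snoc_castSucc]
        exact (isRegMap_pi.mp he j).comp isRegMap_base
    · have hi : IsRegMap k (fun f : Fin (s + 1) → k => Fin.init f) :=
        isRegMap_pi.mpr fun j => isReg_apply j.castSucc
      exact isRegMap_mkExt (IsRegMap.comp he' hi) (isReg_apply _)

section Coordinates

variable {H : Type v} [RegSpace k H] {s : ℕ}

/-- Functions on a coordinatised space as polynomials. -/
noncomputable def Coord.toFn (C : Coord k H s) : MvPolynomial (Fin s) k →ₐ[k] Fn k H :=
  MvPolynomial.aeval fun i => (⟨fun z => C.e z i, isRegMap_pi.mp C.reg i⟩ : Fn k H)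

theorem Coord.toFn_apply (C : Coord k H s) (P : MvPolynomial (Fin s) k) (z : H) :
    (C.toFn P : H → k) z = MvPolynomial.eval (C.e z) P := by
  induction P using MvPolynomial.induction_on with
  | C a => simp [Coord.toFn]
  | add P Q hP hQ => simp [hP, hQ]
  | mul_X P i hP =>
    rw [map_mul, MulMemClass.coe_mul, Pi.mul_apply, hP, map_mul, MvPolynomial.eval_X]
    simp [Coord.toFn]

theorem Coord.toFn_bijective [Infinite k] (C : Coord k H s) : Function.Bijective C.toFn := by
  constructor
  · intro P Q h
    refine MvPolynomial.funext fun x => ?_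
    have := congrFun (congrArg Subtype.val h) (C.e.symm x)
    rwa [C.toFn_apply, C.toFn_apply, Equiv.apply_symm_apply] at this
  · intro g
    obtain ⟨P, hP⟩ := isReg_pi_iff.mp (IsReg.comp (g.2 : IsReg (g : H → k)) C.reg_symm)
    exact ⟨P, Subtype.ext (funext fun z => by rw [C.toFn_apply, ← hP, Equiv.symm_apply_apply])⟩

/-- Functions on a coordinatised space are polynomials. -/
noncomputable def Coord.algEquiv [Infinite k] (C : Coord k H s) : MvPolynomial (Fin s) k ≃ₐ[k] Fn k H :=
  AlgEquiv.ofBijective C.toFn C.toFn_bijective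

theorem Coord.isDomain [Infinite k] (C : Coord k H s) : IsDomain (Fn k H) :=
  MulEquiv.isDomain (MvPolynomial (Fin s) k) C.algEquiv.symm.toMulEquiv

theorem Coord.finiteType [Infinite k] (C : Coord k H s) : Algebra.FiniteType k (Fn k H) :=
  Algebra.FiniteType.of_surjective C.toFn C.toFn_bijective.2

theorem Coord.exists_pt [Infinite k] (C : Coord k H s) (φ : Fn k H →ₐ[k] k) : ∃ v, ∀ g, φ g = (g : H → k) v := by
  refine ⟨C.e.symm fun i => φ (C.toFn (MvPolynomial.X i)), fun g => ?_⟩
  obtain ⟨P, rfl⟩ := C.toFn_bijective.2 g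
  rw [C.toFn_apply, Equiv.apply_symm_apply, ← MvPolynomial.coe_aeval_eq_eval]
  have : (φ.comp C.toFn) = MvPolynomial.aeval fun i => φ (C.toFn (MvPolynomial.X i)) :=
    MvPolynomial.algHom_ext fun i => by simp
  exact DFunLike.congr_fun this P

/-- A proper ideal of functions has a common zero. -/
theorem Coord.exists_zero [IsAlgClosed k] (C : Coord k H s) (I : Ideal (Fn k H)) (hI : I ≠ ⊤) :
    ∃ v, ∀ g ∈ I, (g : H → k) v = 0 := by
  obtain ⟨M, hM, hle⟩ := I.exists_le_maximal hI
  have := C.finiteType
  let : Field (Fn k H ⧸ M) := Ideal.Quotient.field M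
  have : Algebra.FiniteType k (Fn k H ⧸ M) :=
    Algebra.FiniteType.of_surjective (Ideal.Quotient.mkₐ k M) (Ideal.Quotient.mkₐ_surjective k M)
  have : Module.Finite k (Fn k H ⧸ M) := finite_of_finite_type_of_isJacobsonRing k _
  let e : k ≃ₐ[k] (Fn k H ⧸ M) := AlgEquiv.ofBijective (Algebra.ofId k _) IsAlgClosed.algebraMap_bijective_of_isIntegral
  obtain ⟨v, hv⟩ := C.exists_pt (e.symm.toAlgHom.comp (Ideal.Quotient.mkₐ k M))
  refine ⟨v, fun g hg => ?_⟩
  rw [← hv]
  change e.symm (Ideal.Quotient.mk M g) = 0
  rw [Ideal.Quotient.eq_zero_iff_mem.mpr (hle hg), map_zero]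

theorem Coord.separates (C : Coord k H s) {v w : H} (h : ∀ g : Fn k H, (g : H → k) v = (g : H → k) w) : v = w :=
  C.e.injective (funext fun i => h ⟨fun z => C.e z i, isRegMap_pi.mp C.reg i⟩)

end Coordinates

end Groth.Agent.Lib.WittU.Twr
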