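import Groth.Agent.Lib.WittU.Twr
import Mathlib.RingTheory.IntegralClosure.IsIntegralClosure.Basic
import Mathlib.RingTheory.Localization.FractionRing

/-!
# Dense homomorphisms to towers
-/

universe u v w

namespace Groth.Agent.Lib.WittU.TwrDense

open Groth.Agent.Lib.WittU.Reg Groth.Agent.Lib.WittU.Lazard Groth.Agent.Lib.WittU.UnipChar
  Groth.Agent.Lib.WittU.Twr

variable {k : Type u} [Field k] {X : Type v} {Y : Type w} [RegSpace k Y]

/-- No non-zero regular function vanishes on the image. -/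
def Dense (k : Type u) [Field k] [RegSpace k Y] (π : X → Y) : Prop :=
  ∀ g : Y → k, IsReg g → (∀ x, g (π x) = 0) → g = 0

/-- The pulled back functions. -/
def pullAlg (k : Type u) [Field k] [RegSpace k Y] (π : X → Y) : Subalgebra k (X → k) :=
  (RegSpace.reg : Subalgebra k (Y → k)).map (pullFn π)

theorem mem_pullAlg {π : X → Y} {f : X → k} : f ∈ pullAlg k π ↔ ∃ g, IsReg g ∧ ∀ x, g (π x) = f x :=
  ⟨fun ⟨g, hg, he⟩ => ⟨g, hg, fun x => congrFun he x⟩, fun ⟨g, hg, he⟩ => ⟨g, hg, funext he⟩⟩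

theorem Dense.eq {π : X → Y} (h : Dense k π) {g g' : Y → k} (hg : IsReg g) (hg' : IsReg g')
    (he : ∀ x, g (π x) = g' (π x)) : g = g' := by
  have := h (fun y => g y - g' y) (hg.sub hg') (fun x => sub_eq_zero.mpr (he x))
  exact funext fun y => sub_eq_zero.mp (congrFun this y)

theorem Dense.eq₂ {X' Y' : Type*} [RegSpace k Y'] {π : X → Y} {π' : X' → Y'} (h : Dense k π) (h' : Dense k π')
    {g g' : Y × Y' → k} (hg : IsReg g) (hg' : IsReg g') (he : ∀ x x', g (π x, π' x') = g' (π x, π' x')) :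
    g = g' := by
  funext ⟨a, b⟩
  have h1 : ∀ x', (fun a => g (a, π' x')) = fun a => g' (a, π' x') := fun x' =>
    h.eq (IsReg.left_section hg _) (IsReg.left_section hg' _) fun x => he x x'
  have hr : ∀ {G : Y × Y' → k}, IsReg G → IsReg (fun b => G (a, b)) := fun hG =>
    IsRegMap.prod (isRegMap_const a) isRegMap_id' _ hG
  exact congrFun (h'.eq (hr hg) (hr hg') fun x' => congrFun (h1 x') a) b

/-- Density passes down along finite maps. -/
theorem dense_of_integral {Y' : Type*} [RegSpace k Y'] (q : Y' → Y) (hq : IsRegMap k q) [IsDomain (Fn k Y')]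
    {π' : X → Y'} (h : Dense k (fun x => q (π' x)))
    (hint : ∀ g : Fn k Y', ∃ P : Polynomial (Fn k Y), P.Monic ∧
      P.eval₂ ((((pullFn q).comp (Fn k Y).val).codRestrict (Fn k Y') fun g => hq _ g.2).toRingHom) g = 0) :
    Dense k π' := by
  classical
  intro g hg hzero
  by_contra hne
  let g' : Fn k Y' := ⟨g, hg⟩
  have hne' : g' ≠ 0 := fun h0 => hne (congrArg Subtype.val h0)
  let φ := (((pullFn q).comp (Fn k Y).val).codRestrict (Fn k Y') fun g => hq _ g.2).toRingHom
  have hex : ∃ d, ∃ P : Polynomial (Fn k Y), P.Monic ∧ P.natDegree = d ∧ P.eval₂ φ g' = 0 := by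
    obtain ⟨P, hP, hP'⟩ := hint g'
    exact ⟨_, P, hP, rfl, hP'⟩
  obtain ⟨P, hP, hd, hPg⟩ := Nat.find_spec hex
  have hd0 : 0 < P.natDegree := by
    by_contra h0
    rw [Polynomial.eq_one_of_monic_natDegree_zero hP (by omega), Polynomial.eval₂_one] at hPg
    exact one_ne_zero hPg
  rw [← Polynomial.divX_mul_X_add P, Polynomial.eval₂_add, Polynomial.eval₂_mul, Polynomial.eval₂_X,
    Polynomial.eval₂_C] at hPg
  have hc : P.coeff 0 = 0 := Subtype.ext (h _ (P.coeff 0).2 fun x => by
    have := congrFun (congrArg Subtype.val hPg) (π' x)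
    rw [AddMemClass.coe_add, MulMemClass.coe_mul, Pi.add_apply, Pi.mul_apply] at this
    have hg0 : (g' : Y' → k) (π' x) = 0 := hzero x
    rw [hg0, mul_zero, zero_add] at this
    exact this)
  rw [hc, map_zero, add_zero] at hPg
  have h2 : P.divX.eval₂ φ g' = 0 := (mul_eq_zero.mp hPg).resolve_right hne'
  have hmon : P.divX.Monic := by
    rw [Polynomial.Monic, Polynomial.leadingCoeff, Polynomial.natDegree_divX_eq_natDegree_tsub_one,
      Polynomial.coeff_divX, Nat.sub_add_cancel hd0]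
    exact hP
  refine Nat.find_min hex (m := P.divX.natDegree) ?_ ⟨_, hmon, rfl, h2⟩
  rw [Polynomial.natDegree_divX_eq_natDegree_tsub_one, ← hd]
  omega

variable {H : Type u} [AddCommGroup H] [RegSpace k H] [RegAddGroup k H] {s : ℕ}

/-- Regular maps into a coordinatised space exist as soon as the coordinates pull back. -/
theorem exists_factor {H' : Type*} [AddCommGroup H'] [RegSpace k H'] [RegAddGroup k H'] [AddCommGroup X]
    (C : Coord k H s) {π : X →+ H} {π' : X →+ H'} (h' : Dense k π')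
    (hle : pullAlg k π ≤ pullAlg k π') : ∃ q : H' →+ H, IsRegMap k q ∧ ∀ x, q (π' x) = π x := by
  have hex : ∀ i, ∃ g, IsReg g ∧ ∀ x, g (π' x) = C.e (π x) i := fun i =>
    mem_pullAlg.mp (hle (mem_pullAlg.mpr ⟨fun z => C.e z i, isRegMap_pi.mp C.reg i, fun x => rfl⟩))
  choose g hg hg' using hex
  let q₀ : H' → H := fun v => C.e.symm fun i => g i v
  have hq₀ : IsRegMap k q₀ := IsRegMap.comp C.reg_symm (isRegMap_pi.mpr hg)
  have hq : ∀ x, q₀ (π' x) = π x := fun x => by simp [q₀, hg']
  refine ⟨AddMonoidHom.mk' q₀ fun a b => ?_, hq₀, hq⟩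
  refine C.e.injective (funext fun i => ?_)
  have h1 : IsReg (fun z : H' × H' => C.e (q₀ (z.1 + z.2)) i) :=
    (isRegMap_pi.mp C.reg i).comp (IsRegMap.comp (ψ := q₀) hq₀ (RegAddGroup.reg_add (k := k)))
  have h2 : IsReg (fun z : H' × H' => C.e (q₀ z.1 + q₀ z.2) i) :=
    (isRegMap_pi.mp C.reg i).comp ((IsRegMap.comp (ψ := q₀) hq₀ isRegMap_fst).add (IsRegMap.comp (ψ := q₀) hq₀ isRegMap_snd))
  exact congrFun (h'.eq₂ h' h1 h2 fun x y => by simp only [← map_add, hq]) (a, b)

/-- A quotient of pulled back functions satisfying an additive equation is pulled back. -/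
theorem exists_of_div [IsAlgClosed k] [AddCommGroup X] (C : Coord k H s) {π : X →+ H} (hd : Dense k π)
    {f : X → k} {d : H → H → k} (hdreg : IsReg fun z : H × H => d z.1 z.2)
    (hf : ∀ x y, f (x + y) - f x - f y = d (π x) (π y))
    {a b : H → k} (ha : IsReg a) (hb : IsReg b) (hb0 : b ≠ 0) (hab : ∀ x, b (π x) * f x = a (π x)) :
    ∃ g, IsReg g ∧ ∀ x, g (π x) = f x := by
  let I : Ideal (Fn k H) :=
    { carrier := {c | ∃ a : Fn k H, ∀ x, (c : H → k) (π x) * f x = (a : H → k) (π x)}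
      add_mem' := by
        rintro c c' ⟨a, ha⟩ ⟨a', ha'⟩
        exact ⟨a + a', fun x => by simp [add_mul, ha, ha']⟩
      zero_mem' := ⟨0, fun x => by simp⟩
      smul_mem' := by
        rintro r c ⟨a, ha⟩
        exact ⟨r * a, fun x => by simp [mul_assoc, ha]⟩ }
  by_cases h1 : (1 : Fn k H) ∈ I
  · obtain ⟨g, hg⟩ := h1
    exact ⟨g, g.2, fun x => by simpa using (hg x).symm⟩
  exfalso
  obtain ⟨v, hv⟩ := C.exists_zero I ((Ideal.ne_top_iff_one I).mpr h1)
  refine hb0 ?_
  have hb' : ∀ y, b (v + π y) = 0 := fun y => by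
    let b' : Fn k H := ⟨fun u => b (u + π y), isReg_translate hb (π y)⟩
    refine hv b' ⟨⟨fun u => a (u + π y) - b (u + π y) * (f y + d u (π y)), ?_⟩, fun x => ?_⟩
    · exact (isReg_translate ha (π y)).sub ((isReg_translate hb (π y)).mul
        ((isReg_const _).add (IsReg.left_section hdreg _)))
    · change b (π x + π y) * f x = a (π x + π y) - b (π x + π y) * (f y + d (π x) (π y))
      rw [← map_add π, ← hab (x + y), ← hf x y]
      ring
  have hshift : IsReg (fun w => b (v + w)) := hb.comp ((isRegMap_const v).add isRegMap_id')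
  have h2 := hd _ hshift hb'
  exact funext fun u => by
    have := congrFun h2 (u - v)
    simpa using this

end Groth.Agent.Lib.WittU.TwrDense
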