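import Groth.Agent.Lib.WittU.TwrRel
import Groth.Agent.Lib.WittU.Ext

/-!
# Adjoining an additively algebraic function to a tower gives a tower
-/

universe u v w

namespace Groth.Agent.Lib.WittU.TwrIns

open Groth.Agent.Lib.WittU.Reg Groth.Agent.Lib.WittU.Lazard Groth.Agent.Lib.WittU.UnipChar
  Groth.Agent.Lib.WittU.Twr Groth.Agent.Lib.WittU.TwrDense

variable {k : Type u} [Field k]

section Basic

variable {H : Type v} [AddCommGroup H] [RegSpace k H] {X : Type w} [AddCommGroup X]

/-- A homomorphism into an extension, from a function with the right coboundary. -/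
noncomputable def homExt (π : X →+ H) (c : Cocy k H) (t : X → k)
    (ht : ∀ x y, t (x + y) - t x - t y = c (π x) (π y)) : X →+ CExt c :=
  AddMonoidHom.mk' (fun x => ⟨π x, t x⟩) fun x y => CExt.ext' (map_add π x y) (by
    rw [add_fib]; linear_combination ht x y)

theorem isCocycle_comp {H' : Type*} [AddCommGroup H'] (c : Cocy k H) (q : H' →+ H) :
    IsCocycle fun a b => c (q a) (q b) :=
  ⟨fun a b => c.isCocycle.symm _ _, fun a b e => by simp only [map_add]; exact c.isCocycle.assoc _ _ _⟩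

/-- The pullback of a cocycle. -/
def comapC {H' : Type*} [AddCommGroup H'] [RegSpace k H'] (c : Cocy k H) (q : H' →+ H)
    (hq : IsRegMap k q) : Cocy k H' :=
  ⟨fun a b => c (q a) (q b), isCocycle_comp c q,
    c.isReg.comp ((IsRegMap.comp hq isRegMap_fst).prod (IsRegMap.comp hq isRegMap_snd))⟩

/-- The image of a cocycle under an additive function. -/
def mapC (c : Cocy k H) (φ : k →+ k) (hφ : IsReg (φ : k → k)) : Cocy k H :=
  ⟨fun a b => φ (c a b), ⟨fun a b => by rw [c.isCocycle.symm], fun a b e => by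
    rw [← map_add, ← map_add, c.isCocycle.assoc]⟩, hφ.comp (isRegMap_iff_isReg.mpr c.isReg)⟩

/-- The difference of two cocycles. -/
def subC (c d : Cocy k H) : Cocy k H :=
  ⟨fun a b => c a b - d a b, ⟨fun a b => by rw [c.isCocycle.symm, d.isCocycle.symm], fun a b e => by
    rw [sub_add_sub_comm, sub_add_sub_comm, c.isCocycle.assoc, d.isCocycle.assoc]⟩, c.isReg.sub d.isReg⟩

omit [AddCommGroup X] in
theorem pullAlg_ext {c : Cocy k H} (π : X → H) (t : X → k) :
    pullAlg k (fun x => (⟨π x, t x⟩ : CExt c)) = pullAlg k π ⊔ Algebra.adjoin k {t} := by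
  refine le_antisymm ?_ (sup_le ?_ (Algebra.adjoin_le ?_))
  · rintro _ ⟨g, hg, rfl⟩
    obtain ⟨G, hG, rfl⟩ := hg
    induction hG using Algebra.adjoin_induction with
    | mem F hF =>
      rcases hF with ⟨a, ha, rfl⟩ | ⟨a, ha, rfl⟩
      · exact (le_sup_left : pullAlg k π ≤ _) (mem_pullAlg.mpr ⟨a, ha, fun x => rfl⟩)
      · induction ha using Algebra.adjoin_induction with
        | mem b hb =>
          rw [Set.mem_singleton_iff.mp hb]
          exact (le_sup_right : Algebra.adjoin k {t} ≤ pullAlg k π ⊔ _) (Algebra.subset_adjoin rfl)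
        | algebraMap r => exact Subalgebra.algebraMap_mem _ r
        | add b b' _ _ h h' => exact Subalgebra.add_mem _ h h'
        | mul b b' _ _ h h' => exact Subalgebra.mul_mem _ h h'
    | algebraMap r => exact Subalgebra.algebraMap_mem _ r
    | add a b _ _ h h' => exact Subalgebra.add_mem _ h h'
    | mul a b _ _ h h' => exact Subalgebra.mul_mem _ h h'
  · intro f hf
    obtain ⟨g, hg, he⟩ := mem_pullAlg.mp hf
    exact mem_pullAlg.mpr ⟨fun z => g z.base, hg.comp isRegMap_base, he⟩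
  · rintro _ rfl
    exact mem_pullAlg.mpr ⟨CExt.fib, isReg_fib, fun x => rfl⟩

end Basic

section Integral

variable {Y Y' : Type*} [RegSpace k Y] [RegSpace k Y']

/-- Pullback along a regular map. -/
def pullHom (q : Y' → Y) (hq : IsRegMap k q) : Fn k Y →ₐ[k] Fn k Y' :=
  ((pullFn q).comp (Fn k Y).val).codRestrict (Fn k Y') fun g => hq _ g.2

/-- Every function is integral over those pulled back along `q`. -/
def IsIntegralMap (q : Y' → Y) (hq : IsRegMap k q) : Prop :=
  ∀ g : Fn k Y', (pullHom q hq).toRingHom.IsIntegralElem g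

/-- The integral elements. -/
def intAlg (q : Y' → Y) (hq : IsRegMap k q) : Subalgebra k (Fn k Y') where
  carrier := {g | (pullHom q hq).toRingHom.IsIntegralElem g}
  mul_mem' ha hb := RingHom.IsIntegralElem.mul _ ha hb
  add_mem' ha hb := RingHom.IsIntegralElem.add _ ha hb
  algebraMap_mem' r := by
    have := (pullHom q hq).toRingHom.isIntegralElem_map (x := algebraMap k (Fn k Y) r)
    rwa [AlgHom.toRingHom_eq_coe, RingHom.coe_coe, AlgHom.commutes] at this

theorem mem_intAlg_pull (q : Y' → Y) (hq : IsRegMap k q) (g : Fn k Y) :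
    pullHom q hq g ∈ intAlg q hq :=
  (pullHom q hq).toRingHom.isIntegralElem_map

theorem dense_of_isIntegralMap [IsDomain (Fn k Y')] {X : Type*} {q : Y' → Y} {hq : IsRegMap k q}
    (hint : IsIntegralMap q hq) {π' : X → Y'} (h : Dense k fun x => q (π' x)) : Dense k π' :=
  dense_of_integral q hq h hint

end Integral

section Gen

variable {H : Type v} [AddCommGroup H] [RegSpace k H] {Y : Type*} [RegSpace k Y]

theorem isIntegralMap_cext {c : Cocy k H} {Ψ : CExt c → Y} {hΨ : IsRegMap k Ψ}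
    (hfib : (⟨CExt.fib, isReg_fib⟩ : Fn k (CExt c)) ∈ intAlg Ψ hΨ)
    (hbase : ∀ a : Fn k H, (⟨fun z => (a : H → k) z.base, (show IsReg (a : H → k) from a.2).comp isRegMap_base⟩ :
      Fn k (CExt c)) ∈ intAlg Ψ hΨ) : IsIntegralMap Ψ hΨ := by
  rintro ⟨G, hG⟩
  obtain ⟨F, hF, rfl⟩ := id hG
  induction hF using Algebra.adjoin_induction with
  | mem F hF =>
    rcases hF with ⟨e, he, rfl⟩ | ⟨e, he, rfl⟩
    · exact hbase ⟨e, he⟩
    · induction he using Algebra.adjoin_induction with
      | mem e he =>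
        obtain rfl : e = id := Set.mem_singleton_iff.mp he
        exact hfib
      | algebraMap r => exact Subalgebra.algebraMap_mem (intAlg Ψ hΨ) r
      | add b b' hb hb' h h' =>
        exact Subalgebra.add_mem (intAlg Ψ hΨ)
          (h ((isReg_cext (g := fun z : CExt c => b z.fib)).mpr (isRegMap_snd _ hb)))
          (h' ((isReg_cext (g := fun z : CExt c => b' z.fib)).mpr (isRegMap_snd _ hb')))
      | mul b b' hb hb' h h' =>
        exact Subalgebra.mul_mem (intAlg Ψ hΨ)
          (h ((isReg_cext (g := fun z : CExt c => b z.fib)).mpr (isRegMap_snd _ hb)))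
          (h' ((isReg_cext (g := fun z : CExt c => b' z.fib)).mpr (isRegMap_snd _ hb')))
  | algebraMap r => exact Subalgebra.algebraMap_mem (intAlg Ψ hΨ) r
  | add e e' he he' h h' => exact Subalgebra.add_mem (intAlg Ψ hΨ) (h ⟨e, he, rfl⟩) (h' ⟨e', he', rfl⟩)
  | mul e e' he he' h h' => exact Subalgebra.mul_mem (intAlg Ψ hΨ) (h ⟨e, he, rfl⟩) (h' ⟨e', he', rfl⟩)

end Gen

section CharP

variable {p : ℕ} [hp : Fact p.Prime] [IsAlgClosed k] [CharP k p]

/-- `φ` is a combination of `t ↦ t ^ p ^ i`, `i < D`. -/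
def DegLE (p : ℕ) (φ : k →+ k) (D : ℕ) : Prop :=
  ∃ b : ℕ → k, ∀ t, φ t = ∑ i ∈ Finset.range D, b i * t ^ p ^ i

omit [IsAlgClosed k] in
theorem frob_sum {ι : Type*} (s : Finset ι) (f : ι → k) (e : ℕ) :
    (∑ i ∈ s, f i) ^ p ^ e = ∑ i ∈ s, f i ^ p ^ e := by
  rw [← iterateFrobenius_def p e, map_sum]
  simp [iterateFrobenius_def]

/-- Exact degree of a non-zero additive function. -/
theorem exists_deg (φ : k →+ k) (hφ : IsReg (φ : k → k)) (h : φ ≠ 0) :
    ∃ (D : ℕ) (b : ℕ → k), b D ≠ 0 ∧ ∀ t, φ t = ∑ i ∈ Finset.range (D + 1), b i * t ^ p ^ i := by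
  classical
  have hex : ∃ D, DegLE p φ D := by
    obtain ⟨D, b, hb⟩ := Homs.exists_pPoly (p := p) φ hφ
    exact ⟨D, b, hb⟩
  obtain ⟨b, hb⟩ := Nat.find_spec hex
  rcases hD : Nat.find hex with _ | D
  · rw [hD] at hb
    exact absurd (AddMonoidHom.ext fun t => by simpa using hb t) h
  rw [hD] at hb
  refine ⟨D, b, fun h0 => Nat.find_min hex (m := D) (by omega) ⟨b, fun t => ?_⟩, hb⟩
  rw [hb, Finset.sum_range_succ, h0, zero_mul, add_zero]

/-- One step of division. -/
theorem exists_div_step {φ Q : k →+ k} (hφ : IsReg (φ : k → k)) {D E : ℕ} {a b : ℕ → k} (ha : a D ≠ 0)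
    (hφe : ∀ t, φ t = ∑ i ∈ Finset.range (D + 1), a i * t ^ p ^ i)
    (hQe : ∀ t, Q t = ∑ i ∈ Finset.range (E + 1), b i * t ^ p ^ i) (hDE : D ≤ E) :
    ∃ R : k →+ k, IsReg (R : k → k) ∧ DegLE p (Q - φ.comp R) E := by
  classical
  obtain ⟨r, hr⟩ := IsAlgClosed.exists_pow_nat_eq (b E / a D) (pow_pos hp.out.pos D)
  let R : k →+ k := (AddMonoidHom.mulLeft r).comp (iterateFrobenius k p (E - D)).toAddMonoidHom
  have hR : ∀ t, R t = r * t ^ p ^ (E - D) := fun t => rfl
  refine ⟨R, (isReg_const r).mul (isReg_id.pow _),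
    ⟨fun l => b l - if E - D ≤ l then a (l - (E - D)) * r ^ p ^ (l - (E - D)) else 0, fun t => ?_⟩⟩
  rw [AddMonoidHom.sub_apply, AddMonoidHom.comp_apply, hR, hφe, hQe]
  have h1 : ∑ i ∈ Finset.range (D + 1), a i * (r * t ^ p ^ (E - D)) ^ p ^ i =
      ∑ l ∈ Finset.range (E + 1),
        (if E - D ≤ l then a (l - (E - D)) * r ^ p ^ (l - (E - D)) else 0) * t ^ p ^ l := by
    refine Eq.symm (Eq.trans (b := ∑ l ∈ Finset.Ico (E - D) (E + 1),
      a (l - (E - D)) * r ^ p ^ (l - (E - D)) * t ^ p ^ l) ?_ ?_)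
    · rw [← Finset.sum_subset (s₁ := Finset.Ico (E - D) (E + 1)) (fun l hl => ?_) fun l hl hl' => ?_]
      · exact Finset.sum_congr rfl fun l hl => by rw [if_pos (Finset.mem_Ico.mp hl).1]
      · simp only [Finset.mem_Ico, Finset.mem_range] at hl ⊢; omega
      · simp only [Finset.mem_Ico, Finset.mem_range] at hl hl'
        rw [if_neg (by omega), zero_mul]
    · rw [Finset.sum_Ico_eq_sum_range, show E + 1 - (E - D) = D + 1 by omega]
      refine Finset.sum_congr rfl fun i _ => ?_
      rw [Nat.add_sub_cancel_left, mul_pow, ← pow_mul, ← pow_add, mul_assoc]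
  have htop : b E - (if E - D ≤ E then a (E - (E - D)) * r ^ p ^ (E - (E - D)) else 0) = 0 := by
    rw [if_pos (Nat.sub_le E D), show E - (E - D) = D by omega, hr, mul_div_cancel₀ _ ha, sub_self]
  rw [h1, ← Finset.sum_sub_distrib, Finset.sum_range_succ, ← sub_mul, htop, zero_mul, add_zero]
  exact Finset.sum_congr rfl fun l _ => by rw [sub_mul]

/-- Roots of additive equations are integral. -/
theorem isIntegralElem_root (p : ℕ) [Fact p.Prime] [CharP k p] {Y Y' : Type*} [RegSpace k Y] [RegSpace k Y'] {q : Y' → Y} {hq : IsRegMap k q}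
    (φ : k →+ k) (hφ : IsReg (φ : k → k)) (h0 : φ ≠ 0) (u : Fn k Y') (v : Fn k Y)
    (h : ∀ y, φ ((u : Y' → k) y) = (v : Y → k) (q y)) : u ∈ intAlg q hq := by
  obtain ⟨D, b, hb, hφe⟩ := exists_deg (p := p) φ hφ h0
  let P : Polynomial (Fn k Y) :=
    Polynomial.X ^ p ^ D + ((∑ i ∈ Finset.range D, Polynomial.C (algebraMap k (Fn k Y) ((b D)⁻¹ * b i)) *
      Polynomial.X ^ p ^ i) - Polynomial.C ((b D)⁻¹ • v))
  have hpp : p.Prime := Fact.out
  have hpos : ∀ i, 0 < p ^ i := fun i => pow_pos hpp.pos i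
  refine ⟨P, Polynomial.monic_X_pow_add ?_, Subtype.ext (funext fun y => ?_)⟩
  · refine lt_of_le_of_lt (Polynomial.degree_sub_le _ _) (max_lt ?_ ?_)
    · refine lt_of_le_of_lt (Polynomial.degree_sum_le _ _) ((Finset.sup_lt_iff (WithBot.bot_lt_coe _)).mpr
        fun i hi => lt_of_le_of_lt (Polynomial.degree_C_mul_X_pow_le _ _) ?_)
      exact WithBot.coe_lt_coe.mpr (Nat.pow_lt_pow_right hpp.one_lt (Finset.mem_range.mp hi))
    · exact lt_of_le_of_lt Polynomial.degree_C_le (WithBot.coe_lt_coe.mpr (hpos D))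
  have hy := h y
  rw [hφe, Finset.sum_range_succ] at hy
  simp only [P, Polynomial.eval₂_add, Polynomial.eval₂_sub, Polynomial.eval₂_pow, Polynomial.eval₂_X,
    Polynomial.eval₂_finsetSum, Polynomial.eval₂_mul, Polynomial.eval₂_C, AlgHom.toRingHom_eq_coe, RingHom.coe_coe,
    AlgHom.commutes, map_smul]
  simp only [AddMemClass.coe_add, AddSubgroupClass.coe_sub, SubmonoidClass.coe_pow, AddSubmonoidClass.coe_finsetSum,
    MulMemClass.coe_mul, Subalgebra.coe_algebraMap, SetLike.val_smul, Pi.add_apply, Pi.sub_apply, Pi.pow_apply,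
    Finset.sum_apply, Pi.mul_apply, Pi.algebraMap_apply, Algebra.algebraMap_self, RingHom.id_apply,
    Pi.smul_apply, smul_eq_mul]
  change (u : Y' → k) y ^ p ^ D + ((∑ i ∈ Finset.range D, (b D)⁻¹ * b i * (u : Y' → k) y ^ p ^ i) -
    (b D)⁻¹ * (v : Y → k) (q y)) = 0
  rw [← hy]
  simp only [mul_assoc, ← Finset.mul_sum]
  field_simp
  ring

variable {X : Type w} [AddCommGroup X]

/-- The insertion property of a tower. -/
def Ins (k : Type u) [Field k] (X : Type w) [AddCommGroup X] (O : Subalgebra k (X → k)) (H : Type u)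
    [AddCommGroup H] [RegSpace k H] (s : ℕ) : Prop :=
  ∀ π : X →+ H, Dense k π → pullAlg k π ≤ O → ∀ (f : X → k) (d : Cocy k H), f ∈ O →
    (∀ x y, f (x + y) - f x - f y = d (π x) (π y)) →
    ∀ φ : k →+ k, IsReg (φ : k → k) → φ ≠ 0 → ∀ g : H → k, IsReg g → (∀ x, g (π x) = φ (f x)) →
    ∃ (T : Tower k) (π' : X →+ T.H), T.dim = s ∧ Dense k π' ∧ pullAlg k π' = pullAlg k π ⊔ Algebra.adjoin k {f}

variable {H : Type u} [AddCommGroup H] [RegSpace k H] [RegAddGroup k H] {s : ℕ}

omit [IsAlgClosed k] in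
theorem adjoin_pair_sub (R : k →+ k) {D : ℕ} {b : ℕ → k} (hR : ∀ t, R t = ∑ i ∈ Finset.range D, b i * t ^ p ^ i)
    (t f : X → k) : Algebra.adjoin k {t, fun x => f x - R (t x)} = Algebra.adjoin k {t, f} := by
  have hmem : ∀ (S : Subalgebra k (X → k)), t ∈ S → (fun x => R (t x)) ∈ S := fun S hS => by
    have e : (fun x => R (t x)) = ∑ i ∈ Finset.range D, b i • t ^ p ^ i := funext fun x => by
      simp [hR, Finset.sum_apply]
    rw [e]
    exact sum_mem fun i _ => S.smul_mem (pow_mem hS _) _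
  refine le_antisymm (Algebra.adjoin_le ?_) (Algebra.adjoin_le ?_)
  · rintro g (hg | hg)
    · rw [hg]; exact Algebra.subset_adjoin (Or.inl rfl)
    · rw [hg]
      exact sub_mem (Algebra.subset_adjoin (Or.inr rfl : f ∈ ({t, f} : Set (X → k))))
        (hmem _ (Algebra.subset_adjoin (Or.inl rfl)))
  · rintro g (hg | hg)
    · rw [hg]; exact Algebra.subset_adjoin (Or.inl rfl)
    · rw [hg, SetLike.mem_coe]
      have hm : (fun x => f x - R (t x)) ∈ ({t, fun x => f x - R (t x)} : Set (X → k)) := Or.inr rfl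
      have h1 : ((fun x => f x - R (t x)) + fun x => R (t x)) ∈ Algebra.adjoin k {t, fun x => f x - R (t x)} :=
        add_mem (Algebra.subset_adjoin hm) (hmem _ (Algebra.subset_adjoin (Or.inl rfl)))
      convert h1 using 1
      funext x
      simp

omit [IsAlgClosed k] in
theorem regAdd_mem {O : Subalgebra k (X → k)} (R : k →+ k) {D : ℕ} {b : ℕ → k}
    (hR : ∀ t, R t = ∑ i ∈ Finset.range D, b i * t ^ p ^ i) {t : X → k} (ht : t ∈ O) :
    (fun x => R (t x)) ∈ O := by
  have e : (fun x => R (t x)) = ∑ i ∈ Finset.range D, b i • t ^ p ^ i := funext fun x => by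
    simp [hR, Finset.sum_apply]
  rw [e]
  exact sum_mem fun i _ => O.smul_mem (pow_mem ht _) _

/-- The Euclidean algorithm on a relation between two new functions. -/
theorem euclid (hH : IsTwr k H s) {O : Subalgebra k (X → k)} (hins : Ins k X O H s) {π₀ : X →+ H}
    (hπO : pullAlg k π₀ ≤ O) : ∀ (N : ℕ)
    (c d : Cocy k H) (t f : X → k) (φ Q : k →+ k) (a b : ℕ), DegLE p φ a → DegLE p Q b → a + b ≤ N →
    IsReg (φ : k → k) → φ ≠ 0 → IsReg (Q : k → k) → ∀ (b₀ : H → k), IsReg b₀ →
    t ∈ O → f ∈ O → (∀ x y, t (x + y) - t x - t y = c (π₀ x) (π₀ y)) → (∀ x y, f (x + y) - f x - f y = d (π₀ x) (π₀ y)) →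
    Dense k (fun x => (⟨π₀ x, t x⟩ : CExt c)) → (∀ x, φ (f x) = Q (t x) + b₀ (π₀ x)) →
    ∃ (T : Tower k) (π' : X →+ T.H), T.dim = s + 1 ∧ Dense k π' ∧
      pullAlg k π' = pullAlg k π₀ ⊔ Algebra.adjoin k {t, f} := by
  classical
  intro N
  induction N using Nat.strongRecOn with
  | ind N ih =>
  intro c d t f φ Q a b ha hb hab hφ hφ0 hQ b₀ hb₀ htO hfO ht hf hdense heq
  have hd₀ : Dense k π₀ := fun g hg h0 => funext fun v =>
    congrFun (hdense (fun z => g z.base) (hg.comp isRegMap_base) h0) ⟨v, 0⟩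
  obtain ⟨C⟩ := hH.coord
  by_cases hQ0 : Q = 0
  · subst hQ0
    have heq' : ∀ x, b₀ (π₀ x) = φ (f x) := fun x => by rw [heq, AddMonoidHom.zero_apply, zero_add]
    obtain ⟨T, π', hdim, hd', hpull⟩ := hins π₀ hd₀ hπO f d hfO hf φ hφ hφ0 b₀ hb₀ heq'
    obtain ⟨q, hq, hqπ⟩ := exists_factor C hd' (le_sup_left.trans hpull.ge)
    let c' := comapC c q hq
    have ht' : ∀ x y, t (x + y) - t x - t y = c' (π' x) (π' y) := fun x y => by
      rw [ht]; change _ = c (q (π' x)) (q (π' y)); rw [hqπ, hqπ]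
    let Ψ : CExt c' → CExt c := fun z => ⟨q z.base, z.fib⟩
    have hΨ : IsRegMap k Ψ := isRegMap_mkExt (IsRegMap.comp hq isRegMap_base) isReg_fib
    obtain ⟨C'⟩ := (IsTwr.ext c' T.isTwr).coord
    have := C'.isDomain
    have hd'' : Dense k (homExt π' c' t ht') := by
      refine dense_of_isIntegralMap (q := Ψ) (hq := hΨ) (fun g => ?_) ?_
      · obtain ⟨fT, hfT, hfT'⟩ : ∃ g, IsReg g ∧ ∀ x, g (π' x) = f x :=
          mem_pullAlg.mp (hpull.ge (le_sup_right (a := pullAlg k π₀) (Algebra.subset_adjoin rfl)))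
        let f' : Fn k (CExt c') := ⟨fun z => fT z.base, hfT.comp isRegMap_base⟩
        have hφf : (fun v => φ (fT v)) = fun v => b₀ (q v) :=
          hd'.eq (hφ.comp (isRegMap_iff_isReg.mpr hfT)) (hb₀.comp hq) fun x => by rw [hfT', hqπ, heq']
        have hf'int : f' ∈ intAlg Ψ hΨ :=
          isIntegralElem_root p φ hφ hφ0 f' ⟨fun z => b₀ z.base, hb₀.comp isRegMap_base⟩
            fun z => congrFun hφf z.base
        refine isIntegralMap_cext (hΨ := hΨ) ?_ (fun a => ?_) g
        · exact mem_intAlg_pull Ψ hΨ ⟨CExt.fib, isReg_fib⟩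
        let S₀ : Subalgebra k (X → k) :=
          ((intAlg Ψ hΨ).comap (pullHom (fun z : CExt c' => z.base) isRegMap_base)).map
            ((pullFn π').comp (Fn k T.H).val)
        have hle : pullAlg k π₀ ⊔ Algebra.adjoin k {f} ≤ S₀ := by
          refine sup_le ?_ (Algebra.adjoin_le ?_)
          · intro F hF
            obtain ⟨g, hg, he⟩ := mem_pullAlg.mp hF
            refine ⟨⟨fun v => g (q v), hg.comp hq⟩, ?_, funext fun x => by
              change g (q (π' x)) = F x; rw [hqπ, he]⟩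
            exact mem_intAlg_pull Ψ hΨ ⟨fun z => g z.base, hg.comp isRegMap_base⟩
          · rintro _ rfl
            exact ⟨⟨fT, hfT⟩, hf'int, funext hfT'⟩
        obtain ⟨a', ha', hae⟩ := hle (hpull.le (mem_pullAlg.mpr ⟨(a : T.H → k), a.2, fun x => rfl⟩))
        obtain rfl : a' = a := Subtype.ext (hd'.eq a'.2 a.2 fun x => congrFun hae x)
        exact ha'
      · have e : (fun x => Ψ (homExt π' c' t ht' x)) = fun x => (⟨π₀ x, t x⟩ : CExt c) :=
          funext fun x => CExt.ext' (hqπ x) rfl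
        rw [e]; exact hdense
    refine ⟨{ H := CExt c', dim := T.dim + 1, isTwr := IsTwr.ext c' T.isTwr }, homExt π' c' t ht',
      by rw [← hdim], hd'', ?_⟩
    change pullAlg k (fun x => (⟨π' x, t x⟩ : CExt c')) = _
    rw [pullAlg_ext, hpull, sup_assoc, ← Algebra.adjoin_union, Set.union_comm, ← Set.insert_eq]
  · -- `Q ≠ 0`
    obtain ⟨A, α, hα, hαe⟩ := exists_deg (p := p) φ hφ hφ0
    obtain ⟨B, β, hβ, hβe⟩ := exists_deg (p := p) Q hQ hQ0
    have hbound : ∀ {ψ : k →+ k} {A n : ℕ} {α : ℕ → k}, α A ≠ 0 →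
        (∀ t, ψ t = ∑ i ∈ Finset.range (A + 1), α i * t ^ p ^ i) → DegLE p ψ n → A + 1 ≤ n := by
      intro ψ A n α hα hαe hn
      obtain ⟨γ, hγ⟩ := hn
      by_contra hlt
      let P : Polynomial k := (∑ i ∈ Finset.range (A + 1), Polynomial.C (α i) * Polynomial.X ^ p ^ i) -
        ∑ i ∈ Finset.range n, Polynomial.C (γ i) * Polynomial.X ^ p ^ i
      have hP : P = 0 := Polynomial.funext fun u => by
        simp only [P, Polynomial.eval_sub, Polynomial.eval_finsetSum, Polynomial.eval_mul, Polynomial.eval_C,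
          Polynomial.eval_pow, Polynomial.eval_X, ← hαe, ← hγ, sub_self, Polynomial.eval_zero]
      have hco := congrArg (fun P => Polynomial.coeff P (p ^ A)) hP
      simp only [P, Polynomial.coeff_sub, Polynomial.finsetSum_coeff, Polynomial.coeff_C_mul,
        Polynomial.coeff_X_pow, mul_ite, mul_one, mul_zero, (Nat.pow_right_injective hp.out.two_le).eq_iff,
        Finset.sum_ite_eq, Finset.mem_range, Polynomial.coeff_zero] at hco
      rw [if_pos (Nat.lt_succ_self A), if_neg (by omega), sub_zero] at hco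
      exact hα hco
    have hA : A + 1 ≤ a := hbound hα hαe ha
    have hB : B + 1 ≤ b := hbound hβ hβe hb
    rcases le_or_gt A B with hAB | hAB
    · obtain ⟨R, hR, hQ'⟩ := exists_div_step (p := p) hφ hα hαe hβe hAB
      obtain ⟨D, γ, hγ⟩ := Homs.exists_pPoly (p := p) R hR
      have hf' : ∀ x y, (f (x + y) - R (t (x + y))) - (f x - R (t x)) - (f y - R (t y)) =
          subC d (mapC c R hR) (π₀ x) (π₀ y) := fun x y => by
        change _ = d (π₀ x) (π₀ y) - R (c (π₀ x) (π₀ y))
        rw [← ht, ← hf, map_sub, map_sub]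
        ring
      obtain ⟨T, π', hdim, hd', hpull⟩ := ih (A + 1 + B) (by omega) c (subC d (mapC c R hR)) t
        (fun x => f x - R (t x)) φ (Q - φ.comp R) (A + 1) B ⟨α, hαe⟩ hQ' le_rfl hφ hφ0
        (hQ.sub (hφ.comp (isRegMap_iff_isReg.mpr hR))) b₀ hb₀ htO
        (sub_mem hfO (regAdd_mem R hγ htO)) ht hf' hdense (fun x => by
          rw [map_sub, AddMonoidHom.sub_apply, AddMonoidHom.comp_apply, heq]
          ring)
      exact ⟨T, π', hdim, hd', by rw [hpull, adjoin_pair_sub R hγ]⟩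
    · obtain ⟨R, hR, hP'⟩ := exists_div_step (p := p) hQ hβ hβe hαe hAB.le
      obtain ⟨D, γ, hγ⟩ := Homs.exists_pPoly (p := p) R hR
      have ht' : ∀ x y, (t (x + y) - R (f (x + y))) - (t x - R (f x)) - (t y - R (f y)) =
          subC c (mapC d R hR) (π₀ x) (π₀ y) := fun x y => by
        change _ = c (π₀ x) (π₀ y) - R (d (π₀ x) (π₀ y))
        rw [← ht, ← hf, map_sub, map_sub]
        ring
      have hdense' : Dense k (fun x => (⟨π₀ x, f x⟩ : CExt d)) := by
        let Ψ : CExt d → CExt (mapC c Q hQ) := fun z => ⟨z.base, φ z.fib - b₀ z.base⟩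
        have hΨ : IsRegMap k Ψ :=
          isRegMap_mkExt isRegMap_base ((hφ.comp (isRegMap_iff_isReg.mpr isReg_fib)).sub (hb₀.comp isRegMap_base))
        obtain ⟨C'⟩ := (IsTwr.ext d hH).coord
        have := C'.isDomain
        refine dense_of_isIntegralMap (q := Ψ) (hq := hΨ) (fun G => ?_) ?_
        · have hfib : (⟨CExt.fib, isReg_fib⟩ : Fn k (CExt d)) ∈ intAlg Ψ hΨ :=
            isIntegralElem_root p φ hφ hφ0 _
              ⟨fun z => z.fib + b₀ z.base, isReg_fib.add (hb₀.comp isRegMap_base)⟩ fun z => by simp [Ψ]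
          exact isIntegralMap_cext (hΨ := hΨ) hfib
            (fun a => mem_intAlg_pull Ψ hΨ ⟨fun z => (a : H → k) z.base, (show IsReg (a : H → k) from a.2).comp isRegMap_base⟩) G
        · intro g hg h0
          have hsurj := (Homs.pPoly_surjective_finite (p := p) Q hQ hQ0).1
          let g₁ : CExt c → k := fun z => g ⟨z.base, Q z.fib⟩
          have hg₁ : IsReg g₁ := hg.comp (isRegMap_mkExt isRegMap_base (hQ.comp (isRegMap_iff_isReg.mpr isReg_fib)))
          have hg₁0 := hdense g₁ hg₁ fun x => by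
            have := h0 x
            simp only [Ψ, heq, add_sub_cancel_right] at this
            exact this
          funext z
          obtain ⟨w, hw⟩ := hsurj z.fib
          have := congrFun hg₁0 ⟨z.base, w⟩
          simp only [g₁, hw] at this
          exact this
      obtain ⟨T, π', hdim, hd', hpull⟩ := ih (B + 1 + A) (by omega) d (subC c (mapC d R hR)) f
        (fun x => t x - R (f x)) Q (φ - Q.comp R) (B + 1) A ⟨β, hβe⟩ hP' le_rfl hQ hQ0
        (hφ.sub (hQ.comp (isRegMap_iff_isReg.mpr hR))) (fun v => - b₀ v) hb₀.neg hfO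
        (sub_mem htO (regAdd_mem R hγ hfO)) hf ht' hdense' (fun x => by
          rw [map_sub, AddMonoidHom.sub_apply, AddMonoidHom.comp_apply, heq]
          ring)
      exact ⟨T, π', hdim, hd', by rw [hpull, adjoin_pair_sub R hγ, Set.pair_comm]⟩

/-- **Adjoining an additively algebraic function.** -/
theorem ins (p : ℕ) [Fact p.Prime] [CharP k p] {O : Subalgebra k (X → k)} [IsDomain O] {H : Type u} [AddCommGroup H] [RegSpace k H] {s : ℕ}
    (hH : IsTwr k H s) : Ins k X O H s := by
  induction hH with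
  | zero =>
    intro π hπ hπO f d hfO hf φ hφ hφ0 g hg hgf
    classical
    have hfin := (Homs.pPoly_surjective_finite (p := p) φ hφ hφ0).2
    have hprod : ∏ a ∈ hfin.toFinset, ((⟨f, hfO⟩ : O) - algebraMap k O (f 0 + a)) = 0 :=
      Subtype.ext (funext fun x => by
        rw [SubmonoidClass.coe_finsetProd, Finset.prod_apply]
        refine Finset.prod_eq_zero (i := f x - f 0) ?_ ?_
        · rw [Set.Finite.mem_toFinset, Set.mem_ofPred_eq, map_sub, ← hgf, ← hgf, Subsingleton.elim (π x) (π 0), sub_self]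
        · simp)
    obtain ⟨a, -, ha⟩ := Finset.prod_eq_zero_iff.mp hprod
    rw [sub_eq_zero] at ha
    have hf' : f ∈ pullAlg k π := mem_pullAlg.mpr ⟨fun _ => f 0 + a, isReg_const _, fun x => by
      simpa using (congrFun (congrArg Subtype.val ha) x).symm⟩
    refine ⟨{ H := PUnit.{u + 1}, dim := 0, isTwr := IsTwr.zero }, π, rfl, hπ, ?_⟩
    exact le_antisymm le_sup_left (sup_le le_rfl (Algebra.adjoin_le (Set.singleton_subset_iff.mpr hf')))
  | @ext H₀ _ _ s c hH₀ ih =>
    intro π hπ hπO f d hfO hf φ hφ hφ0 g hg hgf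
    have := hH₀.regAddGroup
    have hbd : ∀ a b, g (a + b) - g a - g b = φ (d a b) := fun a b =>
      congrFun (hπ.eq₂ hπ
        ((hg.comp (RegAddGroup.reg_add (k := k))).sub (hg.comp isRegMap_fst) |>.sub (hg.comp isRegMap_snd))
        (hφ.comp (isRegMap_iff_isReg.mpr d.isReg))
        fun x y => by simp only [← map_add π, hgf, ← hf, map_sub]) (a, b)
    have hιreg : IsRegMap k (incl c) := isRegMap_incl
    -- restriction to the kernel
    have hc₁ : IsCocycle fun u v => d (incl c u) (incl c v) :=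
      ⟨fun u v => d.isCocycle.symm _ _, fun u v w => by simp only [map_add]; exact d.isCocycle.assoc _ _ _⟩
    obtain ⟨ψ, h, hψ, hh, he⟩ := Ext.exists_kappa (p := p) hc₁
      (d.isReg.comp ((IsRegMap.comp (ψ := (incl c : k → CExt c)) hιreg isRegMap_fst).prod
        (IsRegMap.comp (ψ := (incl c : k → CExt c)) hιreg isRegMap_snd)))
    have hψ0 : ψ = 0 := by
      have h1 := Ext.push_kappa_eq_zero (p := p) (φ.comp ψ) (fun u => g (incl c u) - φ (h u)) fun u v => by
        have h2 := he u v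
        simp only [bd, AddMonoidHom.comp_apply, map_add] at h2 ⊢
        rw [← map_add (incl c)] at *
        have h3 := hbd (incl c u) (incl c v)
        rw [h2, ← map_add (incl c), map_add φ, map_sub, map_sub] at h3
        linear_combination -h3
      by_contra hne
      obtain ⟨hsurj, -⟩ := Homs.pPoly_surjective_finite (p := p) ψ hψ hne
      refine hφ0 (AddMonoidHom.ext fun u => ?_)
      obtain ⟨v, rfl⟩ := hsurj u
      exact DFunLike.congr_fun h1 v
    subst hψ0
    let a₀ := c 0 0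
    let hl : CExt c → k := fun z => h (z.fib + a₀)
    have hlreg : IsReg hl := hh.comp (isRegMap_iff_isReg.mpr (isReg_fib.add (isReg_const _)))
    have hlincl : ∀ u, hl (incl c u) = h u := fun u => by simp [hl, a₀, incl_fib]
    let d₁ : CExt c → CExt c → k := fun z w => d z w - bd hl z w
    have hd₁ : IsCocycle d₁ := Ext.isCocycle_sub d.isCocycle (isCocycle_bd hl)
    have hd₁r : IsReg fun z : CExt c × CExt c => d₁ z.1 z.2 := d.isReg.sub (Ext.isReg_bd hlreg)
    have hd₁0 : ∀ u v, d₁ (incl c u) (incl c v) = 0 := fun u v => by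
      have h2 := he u v
      simp only [bd, AddMonoidHom.zero_apply, zero_add] at h2
      simp only [d₁, bd, ← map_add (incl c), hlincl, h2, sub_self]
    let g₁ : CExt c → k := fun z => d₁ (sect c z.base) (incl c z.fib)
    have hg₁r : IsReg g₁ := hd₁r.comp ((IsRegMap.comp isRegMap_sect isRegMap_base).prod
      (IsRegMap.comp (ψ := (incl c : k → CExt c)) hιreg (isRegMap_iff_isReg.mpr isReg_fib)))
    let d₂ : CExt c → CExt c → k := fun z w => d₁ z w - bd g₁ z w
    have hd₂ : IsCocycle d₂ := Ext.isCocycle_sub hd₁ (isCocycle_bd g₁)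
    have hs0 : sect c 0 = incl c a₀ := CExt.ext' rfl (by simp [sect, incl_fib, a₀])
    have hg₁0 : ∀ u, g₁ (incl c u) = 0 := fun u => by
      simp only [g₁, incl_base, hs0, hd₁0]
    have hd₂0 : ∀ u z, d₂ z (incl c u) = 0 := fun u z => by
      have hz := hd₁.assoc (sect c z.base) (incl c z.fib) (incl c u)
      rw [sect_add_incl, hd₁0, add_zero, ← map_add (incl c)] at hz
      have hb : (z + incl c u).base = z.base := by rw [add_base, incl_base, add_zero]
      have hfb : (z + incl c u).fib = z.fib + u := by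
        rw [add_fib, incl_base, incl_fib, c.isCocycle.right_zero z.base]; ring
      simp only [d₂, bd, hg₁0, sub_zero]
      simp only [g₁, hb, hfb]
      linear_combination hz
    let d₀ : Cocy k H₀ :=
      ⟨fun v w => d₂ (sect c v) (sect c w),
        ⟨fun v w => hd₂.symm _ _, fun v w e => by
          have h3 := hd₂.assoc (sect c v) (sect c w) (sect c e)
          rw [sect_add, sect_add, Ext.invariant_left hd₂ (hd₂0 _), Ext.invariant_right hd₂ (hd₂0 _)] at h3
          exact h3⟩,
        ((hd₁r.sub (Ext.isReg_bd hg₁r)).comp ((IsRegMap.comp isRegMap_sect isRegMap_fst).prod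
          (IsRegMap.comp isRegMap_sect isRegMap_snd)))⟩
    have hd₂base : ∀ z w, d₂ z w = d₀ z.base w.base := fun z w => by
      conv_lhs => rw [← sect_add_incl z, ← sect_add_incl w, Ext.invariant_left hd₂ (hd₂0 _),
        Ext.invariant_right hd₂ (hd₂0 _)]
    let π₀ : X →+ H₀ := (proj c).comp π
    let t : X → k := fun x => (π x).fib
    let corr : CExt c → k := fun z => hl z + g₁ z
    have hcorr : IsReg corr := hlreg.add hg₁r
    let f₁ : X → k := fun x => f x - corr (π x)
    let b' : CExt c → k := fun z => g z - φ (corr z)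
    have hb'r : IsReg b' := hg.sub (hφ.comp (isRegMap_iff_isReg.mpr hcorr))
    have hb'bd : ∀ z w, b' (z + w) - b' z - b' w = φ (d₀ z.base w.base) := fun z w => by
      rw [← hd₂base]
      simp only [b', d₂, d₁, corr, bd, map_sub, map_add]
      linear_combination hbd z w
    let Q : k →+ k := AddMonoidHom.mk' (fun u => b' (incl c u)) fun u v => by
      have h1 := hb'bd (incl c u) (incl c v)
      rw [incl_base, incl_base, ← map_add (incl c)] at h1
      have h2 : d₀ 0 0 = 0 := by
        rw [← incl_base (c := c) u, ← hd₂base]; exact hd₂0 _ _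
      rw [h2, map_zero] at h1
      linear_combination h1
    have hQ : IsReg (Q : k → k) := hb'r.comp hιreg
    let b₀ : H₀ → k := fun v => b' (sect c v)
    have hsplit : ∀ z, b' z = b₀ z.base + Q z.fib := fun z => by
      have h1 := hb'bd (sect c z.base) (incl c z.fib)
      rw [sect_add_incl, ← hd₂base, hd₂0, map_zero] at h1
      simp only [b₀, Q, AddMonoidHom.mk'_apply]
      linear_combination h1
    have hf₁ : ∀ x y, f₁ (x + y) - f₁ x - f₁ y = d₀ (π₀ x) (π₀ y) := fun x y => by
      have h1 := hd₂base (π x) (π y)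
      simp only [d₂, d₁, bd] at h1
      simp only [f₁, corr, map_add π, π₀, AddMonoidHom.comp_apply]
      change _ = d₀ (π x).base (π y).base
      linear_combination hf x y + h1
    have ht : ∀ x y, t (x + y) - t x - t y = c (π₀ x) (π₀ y) := fun x y => by
      simp only [t, map_add π, add_fib]
      change _ = c (π x).base (π y).base
      ring
    have hpullπ : pullAlg k π = pullAlg k π₀ ⊔ Algebra.adjoin k {t} := pullAlg_ext (c := c) π₀ t
    have hπ₀O : pullAlg k π₀ ≤ O := le_trans (hpullπ ▸ le_sup_left) hπO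
    have htO : t ∈ O := hπO (mem_pullAlg.mpr ⟨CExt.fib, isReg_fib, fun x => rfl⟩)
    have hcπ : (fun x => corr (π x)) ∈ pullAlg k π := mem_pullAlg.mpr ⟨corr, hcorr, fun x => rfl⟩
    have hf₁O : f₁ ∈ O := sub_mem hfO (hπO hcπ)
    have hrel : ∀ x, φ (f₁ x) = Q (t x) + b₀ (π₀ x) := fun x => by
      have h1 := hsplit (π x)
      simp only [f₁, map_sub, ← hgf]
      change g (π x) - φ (corr (π x)) = Q (π x).fib + b₀ (π x).base
      linear_combination h1
    obtain ⟨D₁, e₁, he₁⟩ := Homs.exists_pPoly (p := p) φ hφ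
    obtain ⟨D₂, e₂, he₂⟩ := Homs.exists_pPoly (p := p) Q hQ
    obtain ⟨T, π', hdim, hd', hpull⟩ := euclid (p := p) hH₀ ih hπ₀O (D₁ + D₂) c d₀ t f₁ φ Q D₁ D₂
      ⟨e₁, he₁⟩ ⟨e₂, he₂⟩ le_rfl hφ hφ0 hQ b₀ (hb'r.comp isRegMap_sect) htO hf₁O ht hf₁ hπ hrel
    refine ⟨T, π', hdim, hd', ?_⟩
    rw [hpull, ← Set.singleton_union, Algebra.adjoin_union, ← sup_assoc, ← hpullπ]
    refine le_antisymm (sup_le le_sup_left (Algebra.adjoin_le ?_)) (sup_le le_sup_left (Algebra.adjoin_le ?_))
    · rintro _ rfl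
      exact sub_mem ((le_sup_right : Algebra.adjoin k {f} ≤ pullAlg k π ⊔ _) (Algebra.subset_adjoin rfl))
        ((le_sup_left : pullAlg k π ≤ pullAlg k π ⊔ _) hcπ)
    · rintro F (hF : F = f)
      have e : F = f₁ + fun x => corr (π x) := funext fun x => by simp [f₁, hF]
      rw [SetLike.mem_coe, e]
      exact add_mem ((le_sup_right : Algebra.adjoin k {f₁} ≤ pullAlg k π ⊔ _) (Algebra.subset_adjoin rfl))
        ((le_sup_left : pullAlg k π ≤ pullAlg k π ⊔ _) hcπ)

end CharP

end Groth.Agent.Lib.WittU.TwrIns
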