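import Groth.Agent.Lib.WittU.TwrDense
import Mathlib.Data.Nat.Choose.Sum

/-!
# A function with coboundary pulled back from a tower is either independent or additively algebraic
-/

universe u v

namespace Groth.Agent.Lib.WittU.TwrRel

open Groth.Agent.Lib.WittU.Reg Groth.Agent.Lib.WittU.Lazard Groth.Agent.Lib.WittU.UnipChar
  Groth.Agent.Lib.WittU.Twr Groth.Agent.Lib.WittU.TwrDense

variable {k : Type u} [Field k]

/-- Monomials which are additive. -/
theorem pow_add_of_choose {a : ℕ} (ha : 0 < a) (h : ∀ b, 0 < b → b < a → (a.choose b : k) = 0) (x y : k) :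
    (x + y) ^ a = x ^ a + y ^ a := by
  rw [add_pow, Finset.sum_range_succ, Finset.sum_eq_single 0]
  · simp [add_comm]
  · intro b hb hb0
    rw [h b (Nat.pos_of_ne_zero hb0) (Finset.mem_range.mp hb), mul_zero]
  · intro h0; exact absurd (Finset.mem_range.mpr ha) h0

variable [IsAlgClosed k] {H : Type u} [AddCommGroup H] [RegSpace k H] [RegAddGroup k H] {s : ℕ}
  {X : Type v} [AddCommGroup X]

/-- The dichotomy. -/
theorem dense_or_rel (C : Coord k H s) {π : X →+ H} (hd : Dense k π) (d : Cocy k H) {f : X → k}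
    (hf : ∀ x y, f (x + y) - f x - f y = d (π x) (π y)) :
    Dense k (fun x => (⟨π x, f x⟩ : CExt d)) ∨
      ∃ φ : k →+ k, IsReg (φ : k → k) ∧ φ ≠ 0 ∧ ∃ g, IsReg g ∧ ∀ x, g (π x) = φ (f x) := by
  classical
  by_cases hT : Dense k (fun x => (⟨π x, f x⟩ : CExt d))
  · exact Or.inl hT
  right
  -- a relation `∑ q i (π x) * f x ^ i = 0`
  have hdom := C.isDomain
  let Rel : ℕ → (ℕ → Fn k H) → Prop := fun m q =>
    (∀ x, ∑ i ∈ Finset.range (m + 1), (q i : H → k) (π x) * f x ^ i = 0) ∧ q m ≠ 0
  have hexRel : ∃ m q, Rel m q := by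
    simp only [Dense, not_forall] at hT
    obtain ⟨G, hG, hG0, hGne⟩ := hT
    have hGP : IsReg (fun z : H × k => G ⟨z.1, z.2⟩) := isReg_cext.mp hG
    have key : ∀ F ∈ sq (k := k) H k, ∃ D, ∃ q : ℕ → Fn k H, ∀ v t,
        F (v, t) = ∑ i ∈ Finset.range D, (q i : H → k) v * t ^ i := by
      intro F hF
      induction hF using Submodule.span_induction with
      | mem F hF =>
        obtain ⟨a, b, ha, hb, rfl⟩ := hF
        have hb1 : IsReg (fun v : Fin 1 → k => b (v 0)) := hb.comp (isRegMap_iff_isReg.mpr (isReg_apply 0))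
        obtain ⟨P, hP⟩ := isReg_pi_iff.mp hb1
        have hev : ∀ (Q : MvPolynomial (Fin 1) k) t,
            (MvPolynomial.eval₂ Polynomial.C (fun _ => Polynomial.X) Q).eval t = MvPolynomial.eval (fun _ => t) Q := by
          intro Q t
          induction Q using MvPolynomial.induction_on with
          | C c => simp
          | add P Q hP hQ => simp [hP, hQ]
          | mul_X P i hP => simp [hP]
        let P1 : Polynomial k := MvPolynomial.eval₂ Polynomial.C (fun _ => Polynomial.X) P
        have hP1 : ∀ t, P1.eval t = b t := fun t => (hev P t).trans (hP fun _ => t).symm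
        refine ⟨P1.natDegree + 1, fun i => P1.coeff i • ⟨a, ha⟩, fun v t => ?_⟩
        simp only [← hP1, Polynomial.eval_eq_sum_range (p := P1), Finset.mul_sum, SetLike.val_smul, Pi.smul_apply,
          smul_eq_mul]
        exact Finset.sum_congr rfl fun i _ => by ring
      | zero => exact ⟨0, 0, fun v t => by simp⟩
      | add F F' _ _ h h' =>
        obtain ⟨D, q, hq⟩ := h
        obtain ⟨D', q', hq'⟩ := h'
        refine ⟨max D D', fun i => (if i < D then q i else 0) + (if i < D' then q' i else 0), fun v t => ?_⟩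
        have e : ∀ (D E : ℕ) (q : ℕ → Fn k H), D ≤ E → ∑ i ∈ Finset.range D, (q i : H → k) v * t ^ i =
            ∑ i ∈ Finset.range E, ((if i < D then q i else 0 : Fn k H) : H → k) v * t ^ i := fun D E q hDE => by
          rw [← Finset.sum_subset (Finset.range_mono hDE) fun i _ hi => by
            rw [if_neg (by simpa using hi)]; simp]
          exact Finset.sum_congr rfl fun i hi => by rw [if_pos (Finset.mem_range.mp hi)]
        rw [Pi.add_apply, hq, hq', e D _ q (le_max_left D D'), e D' _ q' (le_max_right D D'), ← Finset.sum_add_distrib]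
        exact Finset.sum_congr rfl fun i _ => by rw [AddMemClass.coe_add, Pi.add_apply, add_mul]
      | smul c F _ h =>
        obtain ⟨D, q, hq⟩ := h
        refine ⟨D, fun i => c • q i, fun v t => ?_⟩
        rw [Pi.smul_apply, hq, smul_eq_mul, Finset.mul_sum]
        exact Finset.sum_congr rfl fun i _ => by rw [SetLike.val_smul, Pi.smul_apply, smul_eq_mul, mul_assoc]
    obtain ⟨D, q, hq⟩ := key _ (mem_sq_of_isReg hGP)
    have hex : ∃ i, i < D ∧ q i ≠ 0 := by
      by_contra h
      push Not at h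
      exact hGne (funext fun z => by
        refine (hq z.base z.fib).trans (Finset.sum_eq_zero fun i hi => ?_)
        rw [h i (Finset.mem_range.mp hi)]; simp)
    obtain ⟨i₀, hi₀, hq0⟩ := hex
    let S := (Finset.range D).filter fun i => q i ≠ 0
    have hS : S.Nonempty := ⟨i₀, Finset.mem_filter.mpr ⟨Finset.mem_range.mpr hi₀, hq0⟩⟩
    refine ⟨S.max' hS, q, fun x => ?_, (Finset.mem_filter.mp (S.max'_mem hS)).2⟩
    have hlt : S.max' hS < D := Finset.mem_range.mp (Finset.mem_filter.mp (S.max'_mem hS)).1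
    rw [Finset.sum_subset (Finset.range_mono (Nat.succ_le_of_lt hlt)) fun i hi hni => ?_]
    · exact (hq (π x) (f x)).symm.trans (hG0 x)
    · have : q i = 0 := by
        by_contra hne
        have := S.le_max' i (Finset.mem_filter.mpr ⟨hi, hne⟩)
        simp only [Finset.mem_range, not_lt] at hni
        omega
      rw [this]; simp
  obtain ⟨m, hm⟩ : ∃ m, (∃ q, Rel m q) ∧ ∀ m' < m, ¬ ∃ q, Rel m' q :=
    ⟨Nat.find hexRel, Nat.find_spec hexRel, fun m' h => Nat.find_min hexRel h⟩
  obtain ⟨⟨q, hq, hqm⟩, hmin⟩ := hm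
  have hlow : ∀ r : ℕ → Fn k H, (∀ x, ∑ i ∈ Finset.range m, (r i : H → k) (π x) * f x ^ i = 0) →
      ∀ i < m, r i = 0 := by
    intro r hr i hi
    by_contra hne
    let S := (Finset.range m).filter fun i => r i ≠ 0
    have hS : S.Nonempty := ⟨i, Finset.mem_filter.mpr ⟨Finset.mem_range.mpr hi, hne⟩⟩
    have hlt : S.max' hS < m := Finset.mem_range.mp (Finset.mem_filter.mp (S.max'_mem hS)).1
    refine hmin _ hlt ⟨r, fun x => ?_, (Finset.mem_filter.mp (S.max'_mem hS)).2⟩
    rw [Finset.sum_subset (Finset.range_mono (Nat.succ_le_of_lt hlt)) fun i hi hni => ?_]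
    · exact hr x
    · have : r i = 0 := by
        by_contra hne
        have := S.le_max' i (Finset.mem_filter.mpr ⟨hi, hne⟩)
        simp only [Finset.mem_range, not_lt] at hni
        omega
      rw [this]; simp
  have hm1 : 1 ≤ m := by
    by_contra h0
    obtain rfl : m = 0 := by omega
    exact hqm (Subtype.ext (hd _ (q 0).2 fun x => by simpa using hq x))
  -- translating the relation
  let e : X → H → k := fun y v => f y + d v (π y)
  have he : ∀ y, IsReg (e y) := fun y => (isReg_const _).add (IsReg.left_section d.isReg _)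
  have hfxy : ∀ x y, f (x + y) = f x + e y (π x) := fun x y => by
    have := hf x y
    simp only [e]
    linear_combination this
  have htrans : ∀ y i, i < m → ∀ v, (q m : H → k) (v + π y) * (q i : H → k) v = (q m : H → k) v *
      ∑ j ∈ Finset.Icc i m, (j.choose i : k) * (q j : H → k) (v + π y) * e y v ^ (j - i) := by
    intro y
    let r : ℕ → Fn k H := fun i =>
      ⟨fun v => (q m : H → k) v * (∑ j ∈ Finset.Icc i m, (j.choose i : k) * (q j : H → k) (v + π y) * e y v ^ (j - i)) -
          (q m : H → k) (v + π y) * (q i : H → k) v,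
        (show IsReg (q m : H → k) from (q m).2).mul (IsReg.sum _ fun j _ =>
          ((isReg_const _).mul (isReg_translate (q j).2 _)).mul ((he y).pow _)) |>.sub
          ((isReg_translate (q m).2 _).mul (q i).2)⟩
    have hr : ∀ x, ∑ i ∈ Finset.range m, (r i : H → k) (π x) * f x ^ i = 0 := by
      intro x
      have h1 : ∑ i ∈ Finset.range (m + 1), (∑ j ∈ Finset.Icc i m,
          (j.choose i : k) * (q j : H → k) (π x + π y) * e y (π x) ^ (j - i)) * f x ^ i = 0 := by
        have h2 := hq (x + y)
        rw [map_add, hfxy] at h2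
        refine Eq.trans ?_ h2
        simp only [Finset.sum_mul]
        rw [Finset.sum_comm' (t' := Finset.range (m + 1)) (s' := fun j => Finset.range (j + 1))
          (fun i j => by simp only [Finset.mem_Icc, Finset.mem_range]; omega)]
        refine Finset.sum_congr rfl fun j _ => ?_
        rw [add_pow, Finset.mul_sum]
        exact Finset.sum_congr rfl fun i _ => by ring
      have h3 := hq x
      rw [Finset.sum_range_succ] at h1 h3
      simp only [Finset.Icc_self, Finset.sum_singleton, Nat.choose_self, Nat.cast_one, one_mul, Nat.sub_self,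
        pow_zero, mul_one] at h1
      simp only [r, sub_mul, Finset.sum_sub_distrib, mul_assoc ((q m : H → k) (π x)),
        mul_assoc ((q m : H → k) (π x + π y)), ← Finset.mul_sum]
      linear_combination (q m : H → k) (π x) * h1 - (q m : H → k) (π x + π y) * h3
    intro i hi v
    exact (sub_eq_zero.mp (congrFun (congrArg Subtype.val (hlow r hr i hi)) v)).symm
  -- proportional coefficients
  obtain ⟨v₀, hv₀⟩ : ∃ v, (q m : H → k) v ≠ 0 := by
    by_contra h; push Not at h; exact hqm (Subtype.ext (funext h))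
  have hprop : ∀ g : H → k, IsReg g →
      (∀ y v, (q m : H → k) (v + π y) * g v = (q m : H → k) v * g (v + π y)) →
      ∀ u, g u = g v₀ / (q m : H → k) v₀ * (q m : H → k) u := by
    intro g hg h u
    have hshift : ∀ {G : H → k}, IsReg G → IsReg (fun w => G (v₀ + w)) := fun hG =>
      hG.comp ((isRegMap_const v₀).add isRegMap_id')
    have h1 := congrFun (hd.eq ((hshift (q m).2).mul (isReg_const (g v₀)))
      ((isReg_const ((q m : H → k) v₀)).mul (hshift hg)) fun y => h y v₀) (u - v₀)
    simp only [add_sub_cancel] at h1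
    field_simp
    linear_combination -h1
  let P : ℕ → Prop := fun i => i < m ∧ ∃ j ∈ Finset.Ioc i m, (j.choose i : k) • q j ≠ 0
  have hP0 : P 0 := ⟨hm1, m, Finset.mem_Ioc.mpr ⟨hm1, le_rfl⟩, by simpa using hqm⟩
  let i₀ := Nat.findGreatest P m
  have hi₀ : P i₀ := Nat.findGreatest_spec (Nat.zero_le m) hP0
  have hvanish : ∀ i, i₀ < i → ∀ j, i < j → j ≤ m → ∀ v, (j.choose i : k) * (q j : H → k) v = 0 := by
    intro i hi j hij hjm v
    have hnP : ¬ P i := Nat.findGreatest_is_greatest hi (by omega)
    by_contra hne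
    exact hnP ⟨by omega, j, Finset.mem_Ioc.mpr ⟨hij, hjm⟩, fun h0 => hne (by
      simpa using congrFun (congrArg Subtype.val h0) v)⟩
  have hsplit : ∀ y i, i < m → ∀ v, (q m : H → k) (v + π y) * (q i : H → k) v = (q m : H → k) v *
      ((q i : H → k) (v + π y) +
        ∑ j ∈ Finset.Ioc i m, (j.choose i : k) * (q j : H → k) (v + π y) * e y v ^ (j - i)) := by
    intro y i hi v
    rw [htrans y i hi v, ← Finset.add_sum_Ioc_eq_sum_Icc hi.le]
    simp
  let c : ℕ → k := fun j => (q j : H → k) v₀ / (q m : H → k) v₀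
  have hc : ∀ j, i₀ < j → j ≤ m → ∀ u, (q j : H → k) u = c j * (q m : H → k) u := by
    intro j hj hjm u
    rcases eq_or_lt_of_le hjm with rfl | hjm
    · simp [c, div_self hv₀]
    refine hprop _ (q j).2 (fun y v => ?_) u
    rw [hsplit y j hjm v, Finset.sum_eq_zero fun l hl => ?_, add_zero]
    obtain ⟨hl1, hl2⟩ := Finset.mem_Ioc.mp hl
    rw [hvanish j hj l hl1 hl2, zero_mul]
  let ψ : k → k := fun t => ∑ j ∈ Finset.Ioc i₀ m, (j.choose i₀ : k) * c j * t ^ (j - i₀)
  have hψadd : ∀ t u, ψ (t + u) = ψ t + ψ u := by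
    intro t u
    simp only [ψ, ← Finset.sum_add_distrib, ← mul_add]
    refine Finset.sum_congr rfl fun j hj => ?_
    obtain ⟨hj1, hj2⟩ := Finset.mem_Ioc.mp hj
    by_cases h0 : (j.choose i₀ : k) * c j = 0
    · rw [h0, zero_mul, zero_mul]
    rw [pow_add_of_choose (by omega) fun b hb hba => ?_]
    have h1 : (j.choose (i₀ + b) : k) * c j = 0 := by
      have := hvanish (i₀ + b) (by omega) j (by omega) hj2 v₀
      simp only [c, mul_div_assoc', this, zero_div]
    have h2 : (j.choose (i₀ + b) : k) * ((i₀ + b).choose i₀ : k) = (j.choose i₀ : k) * ((j - i₀).choose b : k) := by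
      rw [← Nat.cast_mul, ← Nat.cast_mul, Nat.choose_mul (show i₀ ≤ i₀ + b by omega)]
      simp
    have h3 : (j.choose i₀ : k) * c j * ((j - i₀).choose b : k) = 0 := by
      linear_combination ((i₀ + b).choose i₀ : k) * h1 - c j * h2
    exact (mul_eq_zero.mp h3).resolve_left h0
  let φ : k →+ k := AddMonoidHom.mk' ψ hψadd
  have hφreg : IsReg (φ : k → k) :=
    IsReg.sum (Finset.Ioc i₀ m) (f := fun j t => (j.choose i₀ : k) * c j * t ^ (j - i₀)) fun j _ =>
      (isReg_const _).mul (isReg_id.pow _)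
  have hφ0 : φ ≠ 0 := by
    intro h0
    obtain ⟨j, hj, hne⟩ := hi₀.2
    obtain ⟨hj1, hj2⟩ := Finset.mem_Ioc.mp hj
    have hz : ∀ t : k, ∑ a ∈ Finset.range (m + 1),
        (if i₀ + a ∈ Finset.Ioc i₀ m then ((i₀ + a).choose i₀ : k) * c (i₀ + a) else 0) * t ^ a = 0 := fun t => by
      refine Eq.trans ?_ (DFunLike.congr_fun h0 t)
      simp only [φ, AddMonoidHom.mk'_apply, ψ]
      refine Eq.symm (Finset.sum_bij_ne_zero (fun j _ _ => j - i₀) (fun j hj _ => ?_) (fun a ha _ b hb _ h => ?_)
        (fun a ha hne => ?_) (fun j hj _ => ?_))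
      · have := Finset.mem_Ioc.mp hj; exact Finset.mem_range.mpr (by omega)
      · have := Finset.mem_Ioc.mp ha; have := Finset.mem_Ioc.mp hb; omega
      · by_cases h : i₀ + a ∈ Finset.Ioc i₀ m
        · rw [if_pos h] at hne
          exact ⟨i₀ + a, h, by rwa [Nat.add_sub_cancel_left], by simp⟩
        · rw [if_neg h, zero_mul] at hne; exact absurd rfl hne
      · have hj' := Finset.mem_Ioc.mp hj
        rw [Nat.add_sub_cancel' hj'.1.le, if_pos hj]
    have := coeff_eq_zero_of_sum hz (i := j - i₀) (by omega)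
    rw [Nat.add_sub_cancel' hj1.le, if_pos hj] at this
    refine hne (Subtype.ext (funext fun u => ?_))
    rw [SetLike.val_smul, Pi.smul_apply, smul_eq_mul, hc j hj1 hj2 u, ← mul_assoc, this, zero_mul]
    simp
  refine ⟨φ, hφreg, hφ0, ?_⟩
  let G : X → k := fun x => (q m : H → k) (π x) * φ (f x) + (q i₀ : H → k) (π x)
  have hG : ∀ x y, G (x + y) * (q m : H → k) (π x) = G x * (q m : H → k) (π (x + y)) := by
    intro x y
    have h1 := hsplit y i₀ hi₀.1 (π x)
    have h2 : ∑ j ∈ Finset.Ioc i₀ m, (j.choose i₀ : k) * (q j : H → k) (π x + π y) * e y (π x) ^ (j - i₀) =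
        (q m : H → k) (π x + π y) * φ (e y (π x)) := by
      simp only [φ, AddMonoidHom.mk'_apply, ψ, Finset.mul_sum]
      refine Finset.sum_congr rfl fun j hj => ?_
      obtain ⟨hj1, hj2⟩ := Finset.mem_Ioc.mp hj
      rw [hc j hj1 hj2]; ring
    rw [h2] at h1
    simp only [G, map_add π, hfxy, map_add φ]
    linear_combination -h1
  have hne : ∃ x₀, (q m : H → k) (π x₀) ≠ 0 := by
    by_contra h; push Not at h; exact hqm (Subtype.ext (hd _ (q m).2 h))
  obtain ⟨x₀, hx₀⟩ := hne
  let C0 := G x₀ / (q m : H → k) (π x₀)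
  have hfd : ∀ x y, φ (f (x + y)) - φ (f x) - φ (f y) = φ (d (π x) (π y)) := fun x y => by
    rw [← hf, map_sub, map_sub]
  refine exists_of_div C hd (d := fun v w => φ (d v w)) (hφreg.comp (isRegMap_iff_isReg.mpr d.isReg)) hfd
    (a := fun u => C0 * (q m : H → k) u - (q i₀ : H → k) u) (b := (q m : H → k))
    (((isReg_const C0).mul (q m).2).sub (q i₀).2) (q m).2 (fun h => hqm (Subtype.ext h)) fun x => ?_
  have h1 := hG x₀ (x - x₀)
  rw [add_sub_cancel] at h1
  have h2 : G x = C0 * (q m : H → k) (π x) := by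
    simp only [C0]
    field_simp
    linear_combination h1
  simp only [G] at h2
  linear_combination h2

end Groth.Agent.Lib.WittU.TwrRel
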