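import Groth.Agent.Lib.WittU.Reg
import Mathlib.LinearAlgebra.Eigenspace.Pi
import Mathlib.LinearAlgebra.Eigenspace.Triangularizable
import Mathlib.RingTheory.FiniteType

/-!
# Translations on the regular functions of an affine algebraic group, on points

The regular functions on a commutative group of points decompose into generalised eigenspaces of
characters; if there are no non-trivial characters, translations are unipotent.
-/

universe u v w

namespace Groth.Agent.Lib.WittU.UnipChar

open Groth.Agent.Lib.WittU.Reg Module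

variable {k : Type u} [Field k] {X : Type v} [RegSpace k X]

/-- The functions on `X × Y` of the form `∑ a(x) b(y)`. -/
def sq (X : Type v) (Y : Type w) [RegSpace k X] [RegSpace k Y] : Submodule k (X × Y → k) :=
  Submodule.span k {F | ∃ (a : X → k) (b : Y → k), IsReg a ∧ IsReg b ∧ F = fun z => a z.1 * b z.2}

theorem sq_mul {Y : Type w} [RegSpace k Y] {F G : X × Y → k} (hF : F ∈ sq X Y) (hG : G ∈ sq X Y) :
    F * G ∈ sq X Y := by
  induction hF using Submodule.span_induction with
  | mem F hF =>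
    obtain ⟨a, b, ha, hb, rfl⟩ := hF
    induction hG using Submodule.span_induction with
    | mem G hG =>
      obtain ⟨a', b', ha', hb', rfl⟩ := hG
      refine Submodule.subset_span ⟨fun x => a x * a' x, fun y => b y * b' y, ha.mul ha', hb.mul hb', ?_⟩
      funext z
      simp only [Pi.mul_apply]
      ring
    | zero => simp
    | add G G' _ _ h1 h2 => rw [mul_add]; exact Submodule.add_mem _ h1 h2
    | smul c G _ h => rw [mul_smul_comm]; exact Submodule.smul_mem _ c h
  | zero => simp
  | add F F' _ _ h1 h2 => rw [add_mul]; exact Submodule.add_mem _ h1 h2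
  | smul c F _ h => rw [smul_mul_assoc]; exact Submodule.smul_mem _ c h

theorem mem_sq_of_isReg {Y : Type w} [RegSpace k Y] {F : X × Y → k} (hF : IsReg F) : F ∈ sq X Y := by
  have hgen : ∀ (a : X → k) (b : Y → k), IsReg a → IsReg b → (fun z : X × Y => a z.1 * b z.2) ∈ sq X Y :=
    fun a b ha hb => Submodule.subset_span ⟨a, b, ha, hb, rfl⟩
  have hone : ∀ c : k, (fun _ : X × Y => c) ∈ sq X Y := fun c => by
    simpa using hgen (fun _ => c) (fun _ => 1) (isReg_const c) (isReg_const 1)
  induction hF using Algebra.adjoin_induction with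
  | mem F hF =>
    rcases hF with ⟨g, hg, rfl⟩ | ⟨g, hg, rfl⟩
    · simpa using hgen g (fun _ => 1) hg (isReg_const 1)
    · simpa using hgen (fun _ => 1) g (isReg_const 1) hg
  | algebraMap c => exact hone c
  | add F G _ _ hF hG => exact Submodule.add_mem _ hF hG
  | mul F G _ _ hF hG => exact sq_mul hF hG

theorem IsReg.left_section {Y : Type w} [RegSpace k Y] {F : X × Y → k} (hF : IsReg F) (y : Y) :
    IsReg (fun x => F (x, y)) :=
  IsRegMap.prod isRegMap_id' (isRegMap_const y) F hF

variable [AddCommGroup X]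

/-- The regular functions. -/
abbrev Fn (k : Type u) [Field k] (X : Type v) [RegSpace k X] : Subalgebra k (X → k) := RegSpace.reg

variable [RegAddGroup k X]

theorem isReg_translate {f : X → k} (hf : IsReg f) (y : X) : IsReg (fun x => f (x + y)) :=
  IsReg.left_section (hf.comp (RegAddGroup.reg_add (k := k))) y

/-- Translation of regular functions. -/
def tr (y : X) : End k (Fn k X) where
  toFun f := ⟨fun x => (f : X → k) (x + y), isReg_translate (f.2 : IsReg (f : X → k)) y⟩
  map_add' _ _ := rfl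
  map_smul' _ _ := rfl

theorem tr_apply (y : X) (f : Fn k X) (x : X) : (tr y f : X → k) x = (f : X → k) (x + y) := rfl

theorem tr_tr (y z : X) (f : Fn k X) : tr y (tr z f) = tr (y + z) f :=
  Subtype.ext (funext fun x => by simp only [tr_apply, add_assoc])

theorem tr_mul (y : X) (f g : Fn k X) : tr y (f * g) = tr y f * tr y g := rfl

theorem tr_comm (y z : X) : Commute (tr (k := k) y) (tr z) := LinearMap.ext fun f => by
  simp only [Module.End.mul_apply, tr_tr, add_comm y z]

theorem exists_finite_invariant (f : Fn k X) :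
    ∃ W : Submodule k (Fn k X), FiniteDimensional k W ∧ f ∈ W ∧ ∀ y, ∀ g ∈ W, tr y g ∈ W := by
  have hF : IsReg (fun z : X × X => (f : X → k) (z.1 + z.2)) := IsReg.comp (f.2 : IsReg (f : X → k)) (RegAddGroup.reg_add (k := k))
  refine ⟨Submodule.span k (Set.range fun y => tr y f), ?_, Submodule.subset_span ⟨0, Subtype.ext (funext fun x => by simp [tr_apply])⟩, ?_⟩
  · have key : ∀ F ∈ sq (k := k) X X, ∃ V : Submodule k (X → k), FiniteDimensional k V ∧ ∀ y, (fun x => F (x, y)) ∈ V := by
      intro F hF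
      induction hF using Submodule.span_induction with
      | mem F hF =>
        obtain ⟨a, b, -, -, rfl⟩ := hF
        refine ⟨Submodule.span k {a}, inferInstance, fun y => Submodule.mem_span_singleton.mpr ⟨b y, funext fun x => ?_⟩⟩
        simp [mul_comm]
      | zero => exact ⟨⊥, inferInstance, fun y => by simp; rfl⟩
      | add F G _ _ h1 h2 =>
        obtain ⟨V, hV, hV'⟩ := h1
        obtain ⟨U, hU, hU'⟩ := h2
        exact ⟨V ⊔ U, inferInstance, fun y => Submodule.add_mem_sup (hV' y) (hU' y)⟩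
      | smul c F _ h =>
        obtain ⟨V, hV, hV'⟩ := h
        exact ⟨V, hV, fun y => V.smul_mem c (hV' y)⟩
    obtain ⟨V, hV, hV'⟩ := key _ (mem_sq_of_isReg hF)
    let i : Fn k X →ₗ[k] (X → k) := (Fn k X).val.toLinearMap
    have hle : (Submodule.span k (Set.range fun y => tr y f)).map i ≤ V := by
      rw [Submodule.map_span, Submodule.span_le]
      rintro _ ⟨_, ⟨y, rfl⟩, rfl⟩
      exact hV' y
    have : FiniteDimensional k ((Submodule.span k (Set.range fun y => tr y f)).map i) :=
      Submodule.finiteDimensional_of_le hle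
    exact Module.Finite.equiv (Submodule.equivMapOfInjective i Subtype.val_injective _).symm
  · intro y g hg
    induction hg using Submodule.span_induction with
    | mem g hg => obtain ⟨z, rfl⟩ := hg; exact Submodule.subset_span ⟨y + z, (tr_tr y z f).symm⟩
    | zero => simp
    | add g h _ _ h1 h2 => rw [map_add]; exact Submodule.add_mem _ h1 h2
    | smul c g _ h => rw [map_smul]; exact Submodule.smul_mem _ c h

/-- `τ_y - c`. -/
def dev (y : X) (c : k) : End k (Fn k X) := tr y - c • 1

theorem dev_apply (y : X) (c : k) (f : Fn k X) : dev y c f = tr y f - c • f := rfl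

theorem dev_comm (z y : X) (c : k) : Commute (tr (k := k) z) (dev y c) :=
  LinearMap.ext fun f => by
    simp only [Module.End.mul_apply, dev_apply, map_sub, map_smul, tr_tr, add_comm z y]

theorem dev_pow_comm (z y : X) (c : k) (N : ℕ) (f : Fn k X) :
    ((dev y c) ^ N) (tr z f) = tr z (((dev y c) ^ N) f) :=
  (LinearMap.congr_fun ((dev_comm z y c).pow_right N) f).symm

/-- The generalised eigenspace of a family of eigenvalues. -/
noncomputable def wt (χ : X → k) : Submodule k (Fn k X) := ⨅ y, (tr y).maxGenEigenspace (χ y)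

theorem mem_wt {χ : X → k} {f : Fn k X} :
    f ∈ wt χ ↔ ∀ y, ∃ N : ℕ, ((dev y (χ y)) ^ N) f = 0 := by
  simp only [wt, Submodule.mem_iInf, End.mem_maxGenEigenspace, dev]

theorem tr_mem_wt {χ : X → k} {f : Fn k X} (hf : f ∈ wt χ) (y : X) : tr y f ∈ wt χ := by
  simp only [wt, Submodule.mem_iInf] at hf ⊢
  exact fun z => End.mapsTo_maxGenEigenspace_of_comm (tr_comm z y) (χ z) (hf z)

theorem wt_indep : iSupIndep (wt (k := k) (X := X)) :=
  End.independent_iInf_maxGenEigenspace_of_forall_mapsTo _ fun i j φ =>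
    End.mapsTo_maxGenEigenspace_of_comm (tr_comm j i) φ

theorem wt_one : (1 : Fn k X) ∈ wt (1 : X → k) :=
  mem_wt.mpr fun y => ⟨1, by
    rw [pow_one, dev_apply, Pi.one_apply, one_smul, sub_eq_zero]
    rfl⟩

theorem mul_mem_wt {χ ψ : X → k} {f g : Fn k X} (hf : f ∈ wt χ) (hg : g ∈ wt ψ) :
    f * g ∈ wt (χ * ψ) := by
  refine mem_wt.mpr fun y => ?_
  obtain ⟨N, hN⟩ := mem_wt.mp hf y
  obtain ⟨M, hM⟩ := mem_wt.mp hg y
  suffices ∀ L, ∀ f g : Fn k X, ∀ N M, N + M ≤ L → ((dev y (χ y)) ^ N) f = 0 →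
      ((dev y (ψ y)) ^ M) g = 0 →
      ((dev y ((χ * ψ) y)) ^ L) (f * g) = 0 from ⟨N + M, this _ f g N M le_rfl hN hM⟩
  intro L
  induction L with
  | zero =>
    intro f g N M h hN hM
    obtain ⟨rfl, rfl⟩ : N = 0 ∧ M = 0 := by omega
    simp only [pow_zero, Module.End.one_apply] at hN ⊢
    rw [hN, zero_mul]
  | succ L ih =>
    intro f g N M h hN hM
    rcases N with _ | N
    · simp only [pow_zero, Module.End.one_apply] at hN
      rw [hN, zero_mul, map_zero]
    rcases M with _ | M
    · simp only [pow_zero, Module.End.one_apply] at hM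
      rw [hM, mul_zero, map_zero]
    rw [pow_succ, Module.End.mul_apply]
    have e : (dev y ((χ * ψ) y)) (f * g) =
        (dev y (χ y)) f * tr y g + (χ y • f) * (dev y (ψ y)) g := by
      simp only [dev_apply, tr_mul, Pi.mul_apply, mul_sub, sub_mul, smul_mul_assoc, mul_smul_comm, smul_smul]
      rw [mul_comm (ψ y) (χ y)]
      abel
    rw [e, map_add]
    rw [pow_succ, Module.End.mul_apply] at hN hM
    have hc : ∀ (c : k) (e : ℕ) (h : Fn k X), ((dev y c) ^ e) h = 0 → ((dev y c) ^ e) (tr y h) = 0 :=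
      fun c e h he => by rw [dev_pow_comm, he, map_zero]
    have hf' : ((dev y (χ y)) ^ (N + 1)) f = 0 := by
      rw [pow_succ, Module.End.mul_apply, hN]
    have hg' : ((dev y (ψ y)) ^ (M + 1)) g = 0 := by
      rw [pow_succ, Module.End.mul_apply, hM]
    rw [ih _ _ N (M + 1) (by omega) hN (hc _ _ _ hg'), ih _ _ (N + 1) M (by omega) ?_ hM, add_zero]
    rw [map_smul, hf', smul_zero]

variable [IsAlgClosed k]

/-- Locally finite commuting operators are simultaneously triangularizable. -/
theorem iSup_of_locallyFinite {ι : Type*} {M : Type*} [AddCommGroup M] [Module k M] (T : ι → End k M)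
    (hc : ∀ i j, Commute (T i) (T j))
    (hfin : ∀ m, ∃ W : Submodule k M, FiniteDimensional k W ∧ m ∈ W ∧ ∀ i, ∀ w ∈ W, T i w ∈ W) :
    ⨆ χ : ι → k, ⨅ i, (T i).maxGenEigenspace (χ i) = ⊤ := by
  rw [eq_top_iff]
  intro m _
  obtain ⟨W, hW, hmW, hWinv⟩ := hfin m
  let g : ι → End k W := fun i => (T i).restrict (hWinv i)
  have hcomm : Pairwise fun i j => Commute (g i) (g j) := fun i j _ => LinearMap.ext fun w => Subtype.ext
    (LinearMap.congr_fun (hc i j) (w : M))
  have htop := End.iSup_iInf_maxGenEigenspace_eq_top_of_iSup_maxGenEigenspace_eq_top_of_commute g hcomm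
    fun i => End.iSup_maxGenEigenspace_eq_top (g i)
  have hmap : ∀ χ : ι → k, (⨅ i, (g i).maxGenEigenspace (χ i)).map W.subtype ≤
      ⨅ i, (T i).maxGenEigenspace (χ i) := fun χ => by
    rw [← Submodule.inf_iInf_maxGenEigenspace_of_forall_mapsTo T W hWinv]
    exact inf_le_right
  have hmem : (⟨m, hmW⟩ : W) ∈ ⨆ χ : ι → k, ⨅ i, (g i).maxGenEigenspace (χ i) := by rw [htop]; trivial
  have h1 := Submodule.mem_map_of_mem (f := W.subtype) hmem
  rw [Submodule.map_iSup] at h1
  exact iSup_mono hmap h1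

theorem iSup_wt : ⨆ χ : X → k, wt χ = ⊤ :=
  iSup_of_locallyFinite (M := Fn k X) (fun y => tr y) (fun y z => tr_comm y z) exists_finite_invariant

omit [IsAlgClosed k] in
/-- A minimal invariant subspace not inside `U` is moved into `U` by all translations. -/
theorem exists_step {W₀ U : Submodule k (Fn k X)} [FiniteDimensional k W₀] (hU : ¬ W₀ ≤ U)
    (hinv : ∀ y, ∀ w ∈ W₀, tr y w ∈ W₀) (χ : X → k)
    (hnil : ∀ y, ∀ w ∈ W₀, ∃ N : ℕ, ((dev y (χ y)) ^ N) w = 0) :
    ∃ W ≤ W₀, ¬ W ≤ U ∧ ∀ y, ∀ w ∈ W, dev y (χ y) w ∈ U := by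
  classical
  let P : ℕ → Prop := fun d => ∃ W : Submodule k (Fn k X), W ≤ W₀ ∧ ¬ W ≤ U ∧
    (∀ y, ∀ w ∈ W, tr y w ∈ W) ∧ finrank k W = d
  have hP : ∃ d, P d := ⟨_, W₀, le_rfl, hU, hinv, rfl⟩
  obtain ⟨W, hW₀, hWU, hWinv, hWd⟩ := Nat.find_spec hP
  have : FiniteDimensional k W := Submodule.finiteDimensional_of_le hW₀
  refine ⟨W, hW₀, hWU, fun y => ?_⟩
  by_contra hne
  push Not at hne
  obtain ⟨w₀, hw₀, hw₀'⟩ := hne
  let D : End k (Fn k X) := dev y (χ y)
  have hDW : W.map D ≤ W := by
    rintro _ ⟨w, hw, rfl⟩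
    exact W.sub_mem (hWinv y w hw) (W.smul_mem _ hw)
  have heq : W.map D = W := by
    refine Submodule.eq_of_le_of_finrank_le hDW ?_
    rw [hWd]
    refine Nat.find_min' hP ⟨_, hDW.trans hW₀, fun h => hw₀' (h ⟨w₀, hw₀, rfl⟩), ?_, rfl⟩
    rintro z _ ⟨w, hw, rfl⟩
    exact ⟨tr z w, hWinv z w hw, (LinearMap.congr_fun (dev_comm z y (χ y)) w).symm⟩
  have himg : ∀ n, ∀ w ∈ W, ∃ v ∈ W, (D ^ n) v = w := fun n => by
    induction n with
    | zero => exact fun w hw => ⟨w, hw, rfl⟩
    | succ n ih =>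
      intro w hw
      obtain ⟨v, hv, rfl⟩ := ih w hw
      obtain ⟨v', hv', rfl⟩ := (heq.ge hv : v ∈ W.map D)
      exact ⟨v', hv', by rw [pow_succ, Module.End.mul_apply]⟩
  obtain ⟨s, hs⟩ : (W : Submodule k (Fn k X)).FG := Module.Finite.iff_fg.mp inferInstance
  choose! N hN using fun w (hw : w ∈ s) => hnil y w (hW₀ (hs ▸ Submodule.subset_span hw))
  have hzero : ∀ v ∈ W, (D ^ s.sup N) v = 0 := fun v hv => by
    rw [← hs] at hv
    induction hv using Submodule.span_induction with
    | mem v hv => exact Module.End.pow_map_zero_of_le (Finset.le_sup hv) (hN v hv)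
    | zero => simp
    | add a b _ _ ha hb => rw [map_add, ha, hb, add_zero]
    | smul c a _ ha => rw [map_smul, ha, smul_zero]
  obtain ⟨w, hw, hwU⟩ := SetLike.not_le_iff_exists.mp hWU
  obtain ⟨v, hv, rfl⟩ := himg (s.sup N) w hw
  exact hwU (hzero v hv ▸ U.zero_mem)

/-- Non-zero weights are characters and weight vectors exist. -/
theorem exists_eigen {χ : X → k} (hne : wt χ ≠ ⊥) :
    ∃ c : Fn k X, (c : X → k) = χ ∧ c ∈ wt χ ∧ χ 0 = 1 ∧ ∀ x y, χ (x + y) = χ x * χ y := by
  obtain ⟨f, hf, hf0⟩ := Submodule.exists_mem_ne_zero_of_ne_bot hne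
  obtain ⟨V, hV, hfV, hVinv⟩ := exists_finite_invariant f
  have : FiniteDimensional k ↥(V ⊓ wt χ) := Submodule.finiteDimensional_of_le inf_le_left
  obtain ⟨W, hWle, hW0, hW⟩ := exists_step (W₀ := V ⊓ wt χ) (U := ⊥)
    (fun h => hf0 ((Submodule.mem_bot k).mp (h ⟨hfV, hf⟩)))
    (fun y w hw => ⟨hVinv y w hw.1, tr_mem_wt hw.2 y⟩) χ (fun y w hw => mem_wt.mp hw.2 y)
  obtain ⟨w, hw, hw0⟩ := SetLike.not_le_iff_exists.mp hW0
  rw [Submodule.mem_bot] at hw0
  have he : ∀ y x, (w : X → k) (x + y) = χ y * (w : X → k) x := fun y x => by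
    have := hW y w hw
    rw [Submodule.mem_bot, dev_apply, sub_eq_zero] at this
    exact congrFun (congrArg Subtype.val this) x
  have h0 : (w : X → k) 0 ≠ 0 := fun h => hw0 (Subtype.ext (funext fun x => by
    have := he x 0
    rw [zero_add, h, mul_zero] at this
    exact this))
  have hχ : χ = ((w : X → k) 0)⁻¹ • (w : X → k) := funext fun y => by
    have := he y 0
    rw [zero_add] at this
    simp only [Pi.smul_apply, smul_eq_mul, this]
    field_simp
  refine ⟨((w : X → k) 0)⁻¹ • w, hχ.symm, Submodule.smul_mem _ _ (hWle hw).2, ?_, fun x y => ?_⟩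
  · rw [hχ]; simp [h0]
  · rw [hχ]
    simp only [Pi.smul_apply, smul_eq_mul]
    rw [he y x, hχ]
    simp only [Pi.smul_apply, smul_eq_mul]
    ring

/-- Iterated differences kill all functions when there are no non-trivial characters. -/
inductive Low : ℕ → (Fn k X) → Prop
  | zero : Low 0 0
  | succ {l : ℕ} {f : Fn k X} : (∀ y, Low l (tr y f - f)) → Low (l + 1) f

omit [IsAlgClosed k] in
theorem low_closed (l : ℕ) : (∀ f g : Fn k X, Low l f → Low l g → Low l (f + g)) ∧
    (∀ (c : k) (f : Fn k X), Low l f → Low l (c • f)) ∧ (Low l (0 : Fn k X)) ∧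
      ∀ f : Fn k X, Low l f → Low (l + 1) f := by
  induction l with
  | zero =>
    refine ⟨fun f g hf hg => by cases hf; cases hg; simpa using Low.zero,
      fun c f hf => by cases hf; simpa using Low.zero, .zero, fun f hf => .succ fun y => ?_⟩
    cases hf
    simpa using Low.zero
  | succ l ih =>
    obtain ⟨h1, h2, h3, h4⟩ := ih
    refine ⟨fun f g hf hg => .succ fun y => ?_, fun c f hf => .succ fun y => ?_, .succ fun y => by simpa using h3,
      fun f hf => .succ fun y => ?_⟩
    · cases hf with | succ hf => cases hg with | succ hg =>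
      rw [map_add, add_sub_add_comm]; exact h1 _ _ (hf y) (hg y)
    · cases hf with | succ hf => rw [map_smul, ← smul_sub]; exact h2 _ _ (hf y)
    · cases hf with | succ hf => exact h4 _ (hf y)

omit [IsAlgClosed k] in
theorem low_mono {l m : ℕ} (h : l ≤ m) {f : Fn k X} (hf : Low l f) : Low m f :=
  Nat.le_induction hf (fun m _ ih => (low_closed m).2.2.2 f ih) m h

/-- If `1` is the only weight, every regular function is killed by iterated differences. -/
theorem exists_low (hchar : ∀ χ : X → k, wt χ ≠ ⊥ → χ = 1) (f : Fn k X) : ∃ l, Low l f := by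
  have hall : ∀ g : Fn k X, g ∈ wt (1 : X → k) := fun g => by
    have : g ∈ ⨆ χ : X → k, wt χ := by rw [iSup_wt]; trivial
    refine (iSup_le (fun χ => ?_) : ⨆ χ : X → k, wt χ ≤ wt 1) this
    by_cases h : wt χ = ⊥
    · rw [h]; exact bot_le
    · rw [hchar χ h]
  let U : Submodule k (Fn k X) :=
    { carrier := {g | ∃ l, Low l g}
      add_mem' := by
        rintro a b ⟨l, ha⟩ ⟨m, hb⟩
        exact ⟨max l m, (low_closed _).1 _ _ (low_mono (le_max_left l m) ha) (low_mono (le_max_right l m) hb)⟩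
      zero_mem' := ⟨0, .zero⟩
      smul_mem' := fun c a ⟨l, ha⟩ => ⟨l, (low_closed l).2.1 c a ha⟩ }
  by_contra hf
  obtain ⟨V, hV, hfV, hVinv⟩ := exists_finite_invariant f
  have hfin : ∃ L, ∀ g ∈ U ⊓ V, Low L g := by
    obtain ⟨s, hs⟩ : (U ⊓ V).FG := by
      have : FiniteDimensional k ↥(U ⊓ V) := Submodule.finiteDimensional_of_le inf_le_right
      exact Module.Finite.iff_fg.mp this
    have hex : ∀ g ∈ s, ∃ l, Low l g := fun g hg => (hs ▸ Submodule.subset_span hg : g ∈ U ⊓ V).1
    choose! L hL using hex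
    refine ⟨s.sup L, fun g hg => ?_⟩
    rw [← hs] at hg
    induction hg using Submodule.span_induction with
    | mem g hg => exact low_mono (Finset.le_sup hg) (hL g hg)
    | zero => exact (low_closed _).2.2.1
    | add a b _ _ ha hb => exact (low_closed _).1 _ _ ha hb
    | smul c a _ ha => exact (low_closed _).2.1 c a ha
  obtain ⟨L, hL⟩ := hfin
  obtain ⟨W, hWV, hWU, hstep⟩ := exists_step (W₀ := V) (U := U) (fun h => hf (h hfV)) hVinv 1
    fun y w _ => mem_wt.mp (hall w) y
  refine hWU fun w hw => ⟨L + 1, .succ fun y => hL _ ⟨?_, ?_⟩⟩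
  · simpa [dev_apply] using hstep y w hw
  · exact V.sub_mem (hVinv y w (hWV hw)) (hWV hw)

end Groth.Agent.Lib.WittU.UnipChar
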