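import Groth.Agent.Lib.WittU.TwrIns

/-!
# Cocycles on towers are pulled back from Witt carries
-/

universe u v

namespace Groth.Agent.Lib.WittU.UnipCocy

open Groth.Agent.Lib.WittU.Reg Groth.Agent.Lib.WittU.Lazard Groth.Agent.Lib.WittU.WittReg
  Groth.Agent.Lib.WittU.Witt Groth.Agent.Lib.WittU.Homs Groth.Agent.Lib.WittU.Ext
  Groth.Agent.Lib.WittU.Twr WittGrp

variable {p : ℕ} [hp : Fact p.Prime] {k : Type u} [Field k] {n m : ℕ}

/-- Truncated Witt vectors. -/
local notation "𝕋" => TruncatedWittVector p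

theorem ins_zero : ins (0 : 𝕋 n k) = 0 := TruncatedWittVector.ext fun i => by
  rw [TruncatedWittVector.coeff_zero]
  refine i.lastCases (coeff_ins_last _) fun j => ?_
  rw [coeff_ins_castSucc, TruncatedWittVector.coeff_zero]

theorem carry_zero : carry n (0 : 𝕋 n k) 0 = 0 := by
  rw [carry, ins_zero, add_zero, TruncatedWittVector.coeff_zero]

theorem ins_shift (h : n ≤ m) (x : 𝕋 n k) :
    ins (shift p h x) = shift p (Nat.succ_le_succ h) (ins x) := by
  refine TruncatedWittVector.ext fun i => ?_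
  refine i.lastCases ?_ (fun j => ?_)
  · rw [coeff_ins_last, coeff_shift, dif_pos (by simp only [Fin.val_last]; omega)]
    rw [← coeff_ins_last x]
    congr 1
    exact Fin.ext (by simp only [Fin.val_last]; omega)
  · rw [coeff_ins_castSucc, coeff_shift, coeff_shift]
    by_cases hj : m - n ≤ (j : ℕ)
    · rw [dif_pos hj, dif_pos (by simp only [Fin.val_castSucc]; omega), ← coeff_ins_castSucc x]
      congr 1
      exact Fin.ext (by simp only [Fin.val_castSucc]; omega)
    · rw [dif_neg hj, dif_neg (by simp only [Fin.val_castSucc]; omega)]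

/-- The carry is compatible with the shift. -/
theorem carry_shift (h : n ≤ m) (x y : 𝕋 n k) : carry m (shift p h x) (shift p h y) = carry n x y := by
  rw [carry, ins_shift, ins_shift, ← map_add, coeff_shift, dif_pos (by simp only [Fin.val_last]; omega), carry]
  congr 1
  exact Fin.ext (by simp only [Fin.val_last]; omega)

theorem isReg_carry_pull {X : Type v} [RegSpace k X] {F : X → 𝕋 n k} (hF : IsRegMap k F) :
    IsReg fun z : X × X => carry n (F z.1) (F z.2) :=
  IsReg.comp (g := fun z : 𝕋 n k × 𝕋 n k => carry n z.1 z.2) (φ := fun z : X × X => (F z.1, F z.2)) isReg_carry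
    (IsRegMap.prod (X := 𝕋 n k) (Y := 𝕋 n k) (IsRegMap.comp (ψ := F) (φ := Prod.fst) hF isRegMap_fst)
      (IsRegMap.comp (ψ := F) (φ := Prod.snd) hF isRegMap_snd))

variable [IsAlgClosed k] [CharP k p]

/-- An operator with prescribed action on the top coordinate. -/
theorem exists_op_top (q : k →+ k) (hq : IsReg (q : k → k)) (n : ℕ) :
    ∃ Φ : ∀ n, 𝕋 n k →+ 𝕋 n k, IsOp Φ ∧ (∀ t, Φ (n + 1) (top n t) = top n (q t)) ∧ (q ≠ 0 → lead Φ ≠ 0) := by
  obtain ⟨Φ, hΦ, hl⟩ := exists_op_lead (p := p) q hq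
  obtain ⟨-, Φ', hΦ', htw, hl'⟩ := frob_shift_iter hΦ n
  refine ⟨Φ', hΦ', fun t => ?_, fun hq0 h0 => hq0 (AddMonoidHom.ext fun t => ?_)⟩
  · have key : ∀ M (e : 1 + n = M) (h : 1 ≤ M) (y : 𝕋 1 k), Φ' M (shift p h y) = shift p h (Φ 1 y) := by
      intro M e h y
      subst e
      exact htw 1 y
    rw [Witt.top_apply, Witt.top_apply, key (n + 1) (Nat.add_comm 1 n)]
    congr 1
    rw [← hl, AddEquiv.eq_symm_apply]
    rfl
  · obtain ⟨s, rfl⟩ := IsAlgClosed.exists_pow_nat_eq t (pow_pos hp.out.pos n)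
    rw [← hl, hl', h0, AddMonoidHom.zero_apply, zero_pow (pow_ne_zero _ hp.out.ne_zero)]
    rfl

/-- A push-out of the carry is a pull-back by an endomorphism. -/
theorem exists_real (q : k →+ k) (hq : IsReg (q : k → k)) (n : ℕ) :
    ∃ (B : 𝕋 n k →+ 𝕋 n k) (h : 𝕋 n k → k), IsRegMap k B ∧ IsReg h ∧
      (∀ x y, q (carry n x y) = carry n (B x) (B y) + bd h x y) ∧
      (q ≠ 0 → Function.Surjective B ∧ {x | B x = 0}.Finite) := by
  obtain ⟨Φ, hΦ, htop, hne⟩ := exists_op_top (p := p) q hq n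
  refine ⟨Φ n, fun v => - (Φ (n + 1) (ins v)).coeff (Fin.last n), hΦ.isRegMap n, ?_, fun x y => ?_,
    fun h0 => hΦ.surjective_finite n (hne h0)⟩
  · exact ((isReg_coeff _).comp (IsRegMap.comp (hΦ.isRegMap (n + 1)) isRegMap_ins)).neg
  · rw [Ext.carry_of_hom (Φ (n + 1)) (Φ n) q (fun z => hΦ.truncate (Nat.le_succ n) z) htop, bd_neg]
    ring

/-- A cocycle on `W n` is a push-out of the carry, any `n`. -/
theorem exists_carry' (n : ℕ) {c : 𝕋 n k → 𝕋 n k → k} (hc : IsCocycle c)
    (hr : IsReg fun z : 𝕋 n k × 𝕋 n k => c z.1 z.2) :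
    ∃ (φ : k →+ k) (h : 𝕋 n k → k), IsReg (φ : k → k) ∧ IsReg h ∧
      ∀ x y, c x y = φ (carry n x y) + bd h x y := by
  rcases n with _ | n
  · refine ⟨0, fun _ => - c 0 0, isReg_const _, isReg_const _, fun x y => ?_⟩
    have : Subsingleton (𝕋 0 k) := ⟨fun _ _ => TruncatedWittVector.ext fun i => i.elim0⟩
    rw [Subsingleton.elim x 0, Subsingleton.elim y 0, AddMonoidHom.zero_apply]
    simp only [bd]
    ring
  · exact Ext.exists_carry n hc hr

section Descend

variable {H₀ : Type v} [AddCommGroup H₀] [RegSpace k H₀] [RegAddGroup k H₀]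

include hp in
/-- A cocycle on an extension, trivial on the kernel, comes from the quotient. -/
theorem descend {c : Cocy k H₀} (d : Cocy k (CExt c)) (h : k → k) (hh : IsReg h)
    (he : ∀ u v, d (incl c u) (incl c v) = bd h u v) :
    ∃ (d₀ : Cocy k H₀) (corr : CExt c → k), IsReg corr ∧
      ∀ z w, d z w = d₀ z.base w.base + bd corr z w := by
  have hιreg : IsRegMap k (incl c) := isRegMap_incl
  let a₀ := c 0 0
  let hl : CExt c → k := fun z => h (z.fib + a₀)
  have hlreg : IsReg hl := hh.comp (isRegMap_iff_isReg.mpr (isReg_fib.add (isReg_const _)))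
  have hlincl : ∀ u, hl (incl c u) = h u := fun u => by simp [hl, a₀, incl_fib]
  let d₁ : CExt c → CExt c → k := fun z w => d z w - bd hl z w
  have hd₁ : IsCocycle d₁ := Ext.isCocycle_sub d.isCocycle (isCocycle_bd hl)
  have hd₁r : IsReg fun z : CExt c × CExt c => d₁ z.1 z.2 := d.isReg.sub (Ext.isReg_bd hlreg)
  have hd₁0 : ∀ u v, d₁ (incl c u) (incl c v) = 0 := fun u v => by
    simp only [d₁, bd, ← map_add (incl c), hlincl, he, sub_self]
  let g₁ : CExt c → k := fun z => d₁ (sect c z.base) (incl c z.fib)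
  have hg₁r : IsReg g₁ := hd₁r.comp ((IsRegMap.comp isRegMap_sect isRegMap_base).prod
    (IsRegMap.comp (ψ := (incl c : k → CExt c)) hιreg (isRegMap_iff_isReg.mpr isReg_fib)))
  let d₂ : CExt c → CExt c → k := fun z w => d₁ z w - bd g₁ z w
  have hd₂ : IsCocycle d₂ := Ext.isCocycle_sub hd₁ (isCocycle_bd g₁)
  have hs0 : sect c 0 = incl c a₀ := CExt.ext' rfl (by simp [sect, incl_fib, a₀])
  have hg₁0 : ∀ u, g₁ (incl c u) = 0 := fun u => by
    simp only [g₁, incl_base, hs0, hd₁0]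
  have hd₂0 : ∀ u z, d₂ z (incl c u) = 0 := fun u z => by
    have hz := hd₁.assoc (sect c z.base) (incl c z.fib) (incl c u)
    rw [sect_add_incl, hd₁0, add_zero, ← map_add (incl c)] at hz
    have hb : (z + incl c u).base = z.base := by rw [add_base, incl_base, add_zero]
    have hfb : (z + incl c u).fib = z.fib + u := by
      rw [add_fib, incl_base, incl_fib, c.isCocycle.right_zero z.base]; ring
    simp only [d₂, bd, hg₁0, sub_zero]
    simp only [g₁, hb, hfb]
    linear_combination hz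
  let d₀ : Cocy k H₀ :=
    ⟨fun v w => d₂ (sect c v) (sect c w),
      ⟨fun v w => hd₂.symm _ _, fun v w e => by
        have h3 := hd₂.assoc (sect c v) (sect c w) (sect c e)
        rw [sect_add, sect_add, Ext.invariant_left hd₂ (hd₂0 _), Ext.invariant_right hd₂ (hd₂0 _)] at h3
        exact h3⟩,
      ((hd₁r.sub (Ext.isReg_bd hg₁r)).comp ((IsRegMap.comp isRegMap_sect isRegMap_fst).prod
        (IsRegMap.comp isRegMap_sect isRegMap_snd)))⟩
  refine ⟨d₀, fun z => hl z + g₁ z, hlreg.add hg₁r, fun z w => ?_⟩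
  have hd₂base : d₂ z w = d₀ z.base w.base := by
    conv_lhs => rw [← sect_add_incl z, ← sect_add_incl w, Ext.invariant_left hd₂ (hd₂0 _),
      Ext.invariant_right hd₂ (hd₂0 _)]
  rw [← hd₂base]
  simp only [d₂, d₁, bd]
  ring

end Descend

variable {H : Type v} [AddCommGroup H] [RegSpace k H]

/-- Being a pull-back of some carry. -/
def IsRep (p : ℕ) [Fact p.Prime] (c : H → H → k) : Prop :=
  ∃ (M : ℕ) (F : H →+ TruncatedWittVector p M k) (h : H → k), IsRegMap k F ∧ IsReg h ∧
    ∀ x y, c x y = carry M (F x) (F y) + bd h x y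

theorem IsRep.add [RegAddGroup k H] {c d : H → H → k} (hc : IsRep p c) (hd : IsRep p d) :
    IsRep p fun x y => c x y + d x y := by
  obtain ⟨M, F, h, hF, hh, hc⟩ := hc
  obtain ⟨N, G, g, hG, hg, hd⟩ := hd
  obtain ⟨L, hML, hNL⟩ : ∃ L, M ≤ L ∧ N ≤ L := ⟨max M N, le_max_left M N, le_max_right M N⟩
  let F' : H →+ 𝕋 L k := (shift p hML).comp F
  let G' : H →+ 𝕋 L k := (shift p hNL).comp G
  have hF' : IsRegMap k F' :=
    IsRegMap.comp (ψ := (shift p hML : 𝕋 M k → 𝕋 L k)) (φ := (F : H → 𝕋 M k)) (isRegMap_shift _) hF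
  have hG' : IsRegMap k G' :=
    IsRegMap.comp (ψ := (shift p hNL : 𝕋 N k → 𝕋 L k)) (φ := (G : H → 𝕋 N k)) (isRegMap_shift _) hG
  have hsum : IsRegMap k (fun x => F' x + G' x) := IsRegMap.add (G := 𝕋 L k) hF' hG'
  have hpair : IsRegMap k (fun x => (F' x, G' x)) := IsRegMap.prod (X := 𝕋 L k) (Y := 𝕋 L k) hF' hG'
  have hcar : IsReg (fun x => carry L (F' x) (G' x)) :=
    IsReg.comp (g := fun z : 𝕋 L k × 𝕋 L k => carry L z.1 z.2) (φ := fun x => (F' x, G' x)) isReg_carry hpair
  refine ⟨L, F' + G', fun x => (h x + g x) - carry L (F' x) (G' x), hsum, (hh.add hg).sub hcar, fun x y => ?_⟩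
  have h3 := Ext.pullback_add isCocycle_carry F' G' x y
  change c x y + d x y = _
  rw [h3, hc x y, hd x y]
  simp only [F', G', AddMonoidHom.comp_apply, carry_shift, bd, map_add]
  ring

/-- The map to `W (M + 1)` attached to a representation of the cocycle of an extension. -/
theorem exists_lift {M : ℕ} {c : Cocy k H} {F : H →+ 𝕋 M k} {h : H → k}
    (he : ∀ x y, c x y = carry M (F x) (F y) + bd h x y) (hF : IsRegMap k F) (hh : IsReg h) :
    ∃ G : CExt c →+ 𝕋 (M + 1) k, IsRegMap k G ∧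
      (∀ z, G z = ins (F z.base) + top M (z.fib - h z.base)) ∧ ∀ t, G (incl c t) = top M t := by
  let G : CExt c →+ 𝕋 (M + 1) k := AddMonoidHom.mk' (fun z => ins (F z.base) + top M (z.fib - h z.base))
    fun z w => by
      rw [add_add_add_comm, ins_add, ← map_add F, ← add_base, add_assoc, ← map_add, ← map_add]
      congr 2
      rw [add_fib, he, add_base]
      simp only [bd]
      ring
  refine ⟨G, ?_, fun z => rfl, fun t => ?_⟩
  · have h1 : IsRegMap k (fun z : CExt c => F z.base) := IsRegMap.comp (ψ := (F : H → 𝕋 M k)) (φ := CExt.base) hF isRegMap_base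
    exact IsRegMap.add (IsRegMap.comp (ψ := ins) (φ := fun z : CExt c => F z.base) isRegMap_ins h1)
      (IsRegMap.comp (ψ := fun t : k => top (p := p) M t) (φ := fun z : CExt c => z.fib - h z.base) isRegMap_top
        (isRegMap_iff_isReg.mpr (isReg_fib.sub (hh.comp isRegMap_base))))
  · have h0 := he 0 0
    rw [map_zero, carry_zero, bd, add_zero] at h0
    change ins (F (incl c t).base) + top M ((incl c t).fib - h (incl c t).base) = _
    rw [incl_base, incl_fib, map_zero, ins_zero, zero_add]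
    congr 1
    linear_combination -h0

/-- **Cocycles on towers.** -/
theorem isRep_cocy {H : Type u} [AddCommGroup H] [RegSpace k H] {s : ℕ} (hT : IsTwr k H s) :
    ∀ c : Cocy k H, IsRep p c.toFun := by
  induction hT with
  | zero =>
    intro c
    refine ⟨0, 0, fun _ => - c 0 0, isRegMap_const _, isReg_const _, fun x y => ?_⟩
    rw [Subsingleton.elim x 0, Subsingleton.elim y 0, AddMonoidHom.zero_apply, carry_zero]
    simp only [bd]
    ring
  | @ext H₀ _ _ s c hH₀ ih =>
    intro d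
    have := hH₀.regAddGroup
    obtain ⟨M₀, F₀, h₀, hF₀, hh₀, he₀⟩ := ih c
    obtain ⟨G, hG, -, hGincl⟩ := exists_lift he₀ hF₀ hh₀
    have hιreg : IsRegMap k (incl c) := isRegMap_incl
    have hc₁ : IsCocycle fun u v => d.toFun (incl c u) (incl c v) :=
      ⟨fun u v => d.isCocycle.symm _ _, fun u v w => by simp only [map_add]; exact d.isCocycle.assoc _ _ _⟩
    have hc₁r : IsReg fun z : k × k => d.toFun (incl c z.1) (incl c z.2) :=
      IsReg.comp (g := fun z : CExt c × CExt c => d.toFun z.1 z.2) (φ := fun z : k × k => (incl c z.1, incl c z.2)) d.isReg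
        (IsRegMap.prod (X := CExt c) (Y := CExt c)
          (IsRegMap.comp (ψ := (incl c : k → CExt c)) (φ := (Prod.fst : k × k → k)) hιreg isRegMap_fst)
          (IsRegMap.comp (ψ := (incl c : k → CExt c)) (φ := (Prod.snd : k × k → k)) hιreg isRegMap_snd))
    obtain ⟨φ, h₁, hφ, hh₁, he₁⟩ := Ext.exists_kappa (p := p) hc₁ hc₁r
    obtain ⟨ψ, h₂, hψ, hh₂, he₂⟩ := Ext.exists_pull_kappa (p := p) φ hφ
    obtain ⟨Φ, hΦ, hΦtop, -⟩ := exists_op_top (p := p) ψ hψ M₀
    let F₁ : CExt c →+ 𝕋 (M₀ + 1) k := (Φ (M₀ + 1)).comp G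
    have hF₁ : IsRegMap k F₁ :=
      IsRegMap.comp (ψ := (Φ (M₀ + 1) : 𝕋 (M₀ + 1) k → 𝕋 (M₀ + 1) k)) (φ := (G : CExt c → 𝕋 (M₀ + 1) k)) (hΦ.isRegMap _) hG
    let d' : Cocy k (CExt c) := ⟨fun z w => d z w - carry (M₀ + 1) (F₁ z) (F₁ w),
      Ext.isCocycle_sub d.isCocycle (Ext.isCocycle_pullback isCocycle_carry F₁),
      d.isReg.sub (isReg_carry_pull (F := (F₁ : CExt c → 𝕋 (M₀ + 1) k)) hF₁)⟩
    obtain ⟨d₀, corr, hcorr, he⟩ := descend d' (fun u => h₁ u + h₂ u) (hh₁.add hh₂) fun u v => by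
      change d (incl c u) (incl c v) - carry (M₀ + 1) (F₁ (incl c u)) (F₁ (incl c v)) = _
      have hFi : ∀ t, F₁ (incl c t) = top M₀ (ψ t) := fun t => by
        simp only [F₁, AddMonoidHom.comp_apply, hGincl, hΦtop]
      rw [hFi, hFi, Ext.carry_top (n := M₀), bd_add, he₁ u v, he₂ u v]
      ring
    obtain ⟨M, F, h, hF, hh, heF⟩ := ih d₀
    have hrep₁ : IsRep p fun z w => carry (M₀ + 1) (F₁ z) (F₁ w) :=
      ⟨M₀ + 1, F₁, fun _ => 0, hF₁, isReg_const 0, fun z w => by simp [bd]⟩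
    have hrep₂ : IsRep p fun z w => d₀ z.base w.base + bd corr z w :=
      ⟨M, F.comp (proj c), fun z => h z.base + corr z, IsRegMap.comp (ψ := (F : H₀ → 𝕋 M k)) (φ := CExt.base) hF isRegMap_base,
        (hh.comp isRegMap_base).add hcorr, fun z w => by
          change d₀ z.base w.base + bd corr z w = carry M (F z.base) (F w.base) + bd (fun z : CExt c => h z.base + corr z) z w
          rw [heF z.base w.base, bd_add, ← add_assoc]
          rfl⟩
    obtain ⟨L, F', h', hF', hh', he'⟩ := hrep₁.add hrep₂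
    refine ⟨L, F', h', hF', hh', fun z w => ?_⟩
    rw [← he' z w]
    change _ = carry (M₀ + 1) (F₁ z) (F₁ w) + (d₀ z.base w.base + bd corr z w)
    rw [← he z w]
    change d z w = carry (M₀ + 1) (F₁ z) (F₁ w) + (d z w - carry (M₀ + 1) (F₁ z) (F₁ w))
    ring

end Groth.Agent.Lib.WittU.UnipCocy
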