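import Groth.Agent.Lib.WittU.UnipCocy
import Mathlib.Algebra.BigOperators.Fin

/-!
# Finite products of Witt vector groups, and embeddings of towers into them
-/

universe u v w

namespace Groth.Agent.Lib.WittU.UnipProd

open Groth.Agent.Lib.WittU.Reg Groth.Agent.Lib.WittU.Lazard Groth.Agent.Lib.WittU.WittReg
  Groth.Agent.Lib.WittU.Witt Groth.Agent.Lib.WittU.Ext Groth.Agent.Lib.WittU.Twr
  Groth.Agent.Lib.WittU.UnipCocy WittGrp

variable {p : ℕ} [hp : Fact p.Prime] {k : Type u} [Field k] {r : ℕ} {nn : Fin r → ℕ}

/-- A finite product of Witt vector groups. -/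
abbrev PW (p : ℕ) [Fact p.Prime] (k : Type u) (nn : Fin r → ℕ) : Type u :=
  (j : Fin r) → TruncatedWittVector p (nn j) k

noncomputable instance regPW : RegSpace k (PW p k nn) :=
  ⟨Algebra.adjoin k {F | ∃ (j : Fin r) (g : TruncatedWittVector p (nn j) k → k), IsReg g ∧ F = fun x => g (x j)}⟩

theorem isRegMap_proj (j : Fin r) : IsRegMap k (fun x : PW p k nn => x j) := fun g hg =>
  Algebra.subset_adjoin ⟨j, g, hg, rfl⟩

theorem isRegMap_pw {X : Type v} [RegSpace k X] {φ : X → PW p k nn} :
    IsRegMap k φ ↔ ∀ j, IsRegMap k (fun x => φ x j) :=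
  ⟨fun h j => IsRegMap.comp (ψ := fun x : PW p k nn => x j) (φ := φ) (isRegMap_proj j) h, fun h =>
    isRegMap_of_adjoin rfl (by rintro F ⟨j, g, hg, rfl⟩; exact h j g hg)⟩

instance regAddGroupPW : RegAddGroup k (PW p k nn) where
  reg_add := isRegMap_pw.mpr fun j => IsRegMap.add (G := TruncatedWittVector p (nn j) k)
    (IsRegMap.comp (ψ := fun x : PW p k nn => x j) (φ := Prod.fst) (isRegMap_proj j) isRegMap_fst)
    (IsRegMap.comp (ψ := fun x : PW p k nn => x j) (φ := Prod.snd) (isRegMap_proj j) isRegMap_snd)
  reg_neg := isRegMap_pw.mpr fun j => IsRegMap.neg (G := TruncatedWittVector p (nn j) k) (isRegMap_proj j)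

/-- Coordinates on a product of Witt vector groups. -/
noncomputable def coordPW (p : ℕ) [Fact p.Prime] (k : Type u) [Field k] (nn : Fin r → ℕ) :
    Coord k (PW p k nn) (∑ j, nn j) where
  e :=
    { toFun := fun x i => (x (finSigmaFinEquiv.symm i).1).coeff (finSigmaFinEquiv.symm i).2
      invFun := fun f j => TruncatedWittVector.mk p fun l => f (finSigmaFinEquiv ⟨j, l⟩)
      left_inv := fun x => funext fun j => TruncatedWittVector.ext fun l => by
        simp only [TruncatedWittVector.coeff_mk]
        rw [Equiv.symm_apply_apply]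
      right_inv := fun f => funext fun i => by
        simp only [TruncatedWittVector.coeff_mk, Sigma.eta, Equiv.apply_symm_apply] }
  reg := isRegMap_pi.mpr fun i => (isReg_coeff (p := p) (k := k) (finSigmaFinEquiv.symm i).2).comp
    (isRegMap_proj (p := p) (k := k) (nn := nn) (finSigmaFinEquiv.symm i).1)
  reg_symm := isRegMap_pw.mpr fun j => isRegMap_witt.mpr fun l => by
    simp only [Equiv.coe_fn_symm_mk, TruncatedWittVector.coeff_mk]
    exact isReg_apply _

/-- The inclusion of a factor. -/
noncomputable def single (j : Fin r) : TruncatedWittVector p (nn j) k →+ PW p k nn :=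
  AddMonoidHom.single (fun j => TruncatedWittVector p (nn j) k) j

theorem isRegMap_single (j : Fin r) : IsRegMap k (single (p := p) (k := k) (nn := nn) j) := by
  refine isRegMap_pw.mpr fun i => ?_
  by_cases h : i = j
  · subst h
    simpa [single] using (isRegMap_id' (k := k) (X := TruncatedWittVector p (nn i) k))
  · simpa [single, h] using isRegMap_const (k := k) (0 : TruncatedWittVector p (nn i) k)

variable [IsAlgClosed k] [CharP k p]

/-- **Cocycles on products of Witt groups.** -/
theorem exists_pw (c : Cocy k (PW p k nn)) :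
    ∃ (φ : Fin r → (k →+ k)) (h : PW p k nn → k), (∀ j, IsReg (φ j : k → k)) ∧ IsReg h ∧
      ∀ x y, c x y = ∑ j, φ j (carry (nn j) (x j) (y j)) + bd h x y := by
  classical
  have hj : ∀ j, ∃ (φ : k →+ k) (h : TruncatedWittVector p (nn j) k → k), IsReg (φ : k → k) ∧ IsReg h ∧
      ∀ a b, c (single j a) (single j b) = φ (carry (nn j) a b) + bd h a b := fun j =>
    exists_carry' (nn j) (Ext.isCocycle_pullback c.isCocycle (single j))
      (IsReg.comp (g := fun z : PW p k nn × PW p k nn => c z.1 z.2)
        (φ := fun z : TruncatedWittVector p (nn j) k × TruncatedWittVector p (nn j) k => (single j z.1, single j z.2))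
        c.isReg
        (IsRegMap.prod (IsRegMap.comp (ψ := (single j : _ → PW p k nn)) (φ := Prod.fst) (isRegMap_single j) isRegMap_fst)
          (IsRegMap.comp (ψ := (single j : _ → PW p k nn)) (φ := Prod.snd) (isRegMap_single j) isRegMap_snd)))
  choose φ h hφ hh he using hj
  let pr : Finset (Fin r) → (PW p k nn →+ PW p k nn) := fun S =>
    ∑ j ∈ S, (single j).comp (Pi.evalAddMonoidHom (fun j => TruncatedWittVector p (nn j) k) j)
  have hpr : ∀ S, IsRegMap k (pr S) := fun S => by
    induction S using Finset.induction with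
    | empty =>
      have e : (pr ∅ : PW p k nn → PW p k nn) = fun _ => 0 := funext fun x => by simp [pr]
      rw [e]; exact isRegMap_const _
    | insert a S ha ih =>
      have e : (pr (insert a S) : PW p k nn → PW p k nn) = fun x => single a (x a) + pr S x := funext fun x => by
        simp [pr, Finset.sum_insert ha]
      rw [e]
      exact IsRegMap.add (G := PW p k nn)
        (IsRegMap.comp (ψ := (single a : _ → PW p k nn)) (φ := fun x : PW p k nn => x a) (isRegMap_single a)
          (isRegMap_proj a)) ih
  suffices ∀ S, ∃ g : PW p k nn → k, IsReg g ∧ ∀ x y, c (pr S x) (pr S y) =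
      ∑ j ∈ S, φ j (carry (nn j) (x j) (y j)) + bd g x y by
    obtain ⟨g, hg, hge⟩ := this Finset.univ
    refine ⟨φ, g, hφ, hg, fun x y => ?_⟩
    have hid : ∀ x, pr Finset.univ x = x := fun x => by
      simp only [pr, AddMonoidHom.finsetSum_apply, AddMonoidHom.comp_apply, Pi.evalAddMonoidHom_apply, single]
      exact Finset.univ_sum_single x
    rw [← hge, hid, hid]
  intro S
  induction S using Finset.induction with
  | empty =>
    refine ⟨fun _ => - c 0 0, isReg_const _, fun x y => ?_⟩
    simp only [pr, Finset.sum_empty, AddMonoidHom.zero_apply, bd]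
    ring
  | insert a S ha ih =>
    obtain ⟨g, hg, hge⟩ := ih
    let f : PW p k nn →+ PW p k nn := (single a).comp (Pi.evalAddMonoidHom (fun j => TruncatedWittVector p (nn j) k) a)
    have hf : IsRegMap k f := IsRegMap.comp (ψ := (single a : _ → PW p k nn)) (φ := fun x : PW p k nn => x a)
      (isRegMap_single a) (isRegMap_proj a)
    have e : pr (insert a S) = f + pr S := by simp [pr, f, Finset.sum_insert ha]
    refine ⟨fun x => c (f x) (pr S x) + (h a (x a) + g x), ?_, fun x y => ?_⟩
    · exact (IsReg.comp (g := fun z : PW p k nn × PW p k nn => c z.1 z.2) (φ := fun x => (f x, pr S x)) c.isReg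
        (IsRegMap.prod hf (hpr S))).add (((hh a).comp (isRegMap_proj a)).add hg)
    · rw [e, Ext.pullback_add c.isCocycle, Finset.sum_insert ha, hge, bd_add, bd_add]
      have := he a (x a) (y a)
      simp only [f, AddMonoidHom.comp_apply, Pi.evalAddMonoidHom_apply]
      rw [this]
      simp only [bd, Pi.add_apply]
      ring

/-- **Embedding of towers.** -/
theorem exists_emb {H : Type u} [AddCommGroup H] [RegSpace k H] {s : ℕ} (hT : IsTwr k H s) :
    ∃ (r : ℕ) (nn : Fin r → ℕ) (f : H →+ PW p k nn) (q : PW p k nn → H),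
      IsRegMap k f ∧ IsRegMap k q ∧ ∀ x, q (f x) = x := by
  induction hT with
  | zero =>
    exact ⟨0, Fin.elim0, 0, fun _ => PUnit.unit, isRegMap_const _, isRegMap_const _, fun _ => rfl⟩
  | @ext H₀ _ _ s c hH₀ ih =>
    obtain ⟨r, nn, f, q, hf, hq, hqf⟩ := ih
    obtain ⟨M, F, h, hF, hh, he⟩ := isRep_cocy (p := p) hH₀ c
    obtain ⟨G, hG, hGe, -⟩ := exists_lift he hF hh
    let nn' : Fin (r + 1) → ℕ := Fin.cons (M + 1) nn
    let f' : CExt c →+ PW p k nn' := AddMonoidHom.mk'
      (fun z => (Fin.cons (G z) (f z.base) : (j : Fin (r + 1)) → TruncatedWittVector p (nn' j) k))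
      fun z w => funext fun j => by
        refine j.cases ?_ (fun i => ?_)
        · exact map_add G z w
        · exact congrFun (map_add f z.base w.base) i
    have hf' : IsRegMap k f' := by
      refine isRegMap_pw.mpr fun j => ?_
      refine j.cases ?_ (fun i => ?_)
      · exact hG
      · exact IsRegMap.comp (ψ := fun v : H₀ => f v i) (φ := CExt.base) (isRegMap_pw.mp hf i) isRegMap_base
    let b : PW p k nn' → H₀ := fun w => q fun i => w i.succ
    have hb : IsRegMap k b := IsRegMap.comp (ψ := q) (φ := fun (w : PW p k nn') (i : Fin r) => w i.succ) hq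
      (isRegMap_pw.mpr fun i => isRegMap_proj (nn := nn') i.succ)
    let q' : PW p k nn' → CExt c := fun w =>
      ⟨b w, (w 0 : TruncatedWittVector p (M + 1) k).coeff (Fin.last M) + h (b w)⟩
    have hlast : IsReg fun w : PW p k nn' => (w 0 : TruncatedWittVector p (M + 1) k).coeff (Fin.last M) :=
      (isReg_coeff (Fin.last M)).comp (isRegMap_proj (nn := nn') 0)
    refine ⟨r + 1, nn', f', q', hf', isRegMap_mkExt hb (hlast.add (hh.comp hb)), fun z => ?_⟩
    have hbz : b (f' z) = z.base := hqf z.base
    refine CExt.ext' hbz ?_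
    change (G z).coeff (Fin.last M) + h (b (f' z)) = z.fib
    rw [hbz, hGe, last_ins_add_top, sub_add_cancel]

end Groth.Agent.Lib.WittU.UnipProd
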